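import Cfsg.Agent.Lib.Compute.CosetOrbit

/-! Coset enumeration certificate data (ABCD). -/

set_option autoImplicit false
set_option maxRecDepth 100000
set_option Elab.async false

namespace Cfsg.Agent.RigidGraph.Suz.Coset.Abcd

open Cfsg.Agent.CosetCert

/-- the coset table -/
def tab : Tab :=
  .leaf 0x85008600810086008600850080008500830074008300740084007200840073007900810082007600800082008600700081007f0085006e007c0080007f006d006b007e007d007e00690068007e0075007f0067007c006f00780073007a00720077006f007b0067008200770079006c007b007800770071007a007900780066006c007000750082006a00650076007d00730084005e00840074007b005c008300710083005d007b00720071005b0078006e007600630081006d007a005a007c0070006d00640080006f006e0058007f00760066006a0079007e005f0069006b00750053006c0069007d0052006b006a0050007d006800650066007c004b007a0067006c00490077005100750047006800630054006e0062006400470070006100610055006200640062004600610063005f006000550060006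0006b003c005f005c005d0074003d005b005e0072003e005e005a0073003f005d0059007100400058005c006f00410057005b00590042005a0056006d004400590044005700560042005800540057003c006200600054003b006400560055004e006a00480052004f0069003a00530065004d0039005000680037005000510052004c0038004e00530036004a004f004c0051004c0037004d004f004d00360049004b0067003500480034004e0034004b004800660033004a0049005300320039006300650046003100610045004700300045004600450041005700430058002f00430044004300560040003b00590044003f002f005a003e0042002c005b003d0041002a005c0040003d002b005d003f003e0029005e0055003a005f003b005400280042003c0038003c005200280047003800510031003a0039004f0027003600500026004d0037004e0025004c00330035002d004b0032004a0024004a00350032002e0049003400330023004800460027003000390045001f003100300043001a0041002f002d00200033002c002e00180035002b002b00210040002e002c0017003e002d00290016003f0029002a0015003d002a0027003b0021003a0028003100140038002500260037001b0026002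40036001c002300250034001d0024002200320022001d0023002000230014002c002800200013002e00220021001e00300012001f001f001e0010001e0022001c00130024001b001d000f0025001c001b000e00260019002f0016001a001a0019000c00190011002d00180017000d002b00150018000c002a001a0015000b002900170016002100120027001300200009001d001400100014001f0009001800100011000d00120011001e0008000e0007001c000e000f0006001b000f00170008000b00110016000a0019000b00150005000d000c000a000c000a000500080013000700120009000d000400100004000f000900060003000e000600070005000b0002000a00070002000800030006000100030004000200040005000100010003000000020000000000010000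

/-- base relators -/
def base : List (List ℕ) := [
  [0, 1, 0, 1, 0, 1, 0, 1, 0, 1],
  [0, 2, 0, 2],
  [0, 3, 0, 3],
  [1, 2, 1, 2, 1, 2],
  [1, 3, 1, 3],
  [2, 3, 2, 3, 2, 3, 2, 3, 2, 3, 2, 3, 2, 3, 2, 3],
  [0, 3, 2, 3, 2, 3, 2, 3, 2]]

/-- rotations of the relators -/
def rots : WTab :=
  (.node (.node (.node (.node (.node (.leaf [0, 1, 0, 1, 0, 1, 0, 1, 0, 1]) (.leaf [2, 3, 2, 3, 2, 0, 3, 2, 3])) (.node (.leaf [1, 3, 1, 3]) (.leaf [3, 2, 3, 2, 3, 0, 2, 3, 2]))) (.node (.node (.leaf [0, 3, 0, 3]) (.leaf [2, 0, 3, 2, 3, 2, 3, 2, 3])) (.node (.leaf [0, 3, 2, 3, 2, 3, 2, 3, 2]) (.leaf [3, 0, 2, 3, 2, 3, 2, 3, 2])))) (.node (.node (.node (.leaf [0, 2, 0, 2]) (.leaf [2, 3, 2, 0, 3, 2, 3, 2, 3])) (.node (.leaf [2, 3, 2, 3, 2, 3, 2, 3, 2, 3, 2, 3, 2, 3, 2, 3]) (.leaf [3, 2, 3, 0, 2, 3, 2, 3, 2]))) (.node (.node (.leaf [1, 2, 1, 2, 1, 2]) (.leaf [3, 2, 3, 2, 3, 2, 3, 0, 2])) (.node (.leaf [2, 3, 2, 3, 2, 3, 2, 0, 3]) (.leaf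 [0, 1, 0, 1, 0, 1, 0, 1, 0, 1]))))) (.node (.node (.node (.node (.leaf [1, 0, 1, 0, 1, 0, 1, 0, 1, 0]) (.leaf [3, 2, 3, 2, 0, 3, 2, 3, 2])) (.node (.leaf [3, 1, 3, 1]) (.leaf [2, 3, 2, 3, 0, 2, 3, 2, 3]))) (.node (.node (.leaf [3, 0, 3, 0]) (.leaf [2, 3, 2, 3, 2, 3, 2, 3, 0])) (.node (.leaf [3, 2, 3, 2, 3, 2, 3, 2, 0]) (.leaf [0, 2, 3, 2, 3, 2, 3, 2, 3])))) (.node (.node (.node (.leaf [2, 0, 2, 0]) (.leaf [3, 2, 0, 3, 2, 3, 2, 3, 2])) (.node (.leaf [3, 2, 3, 2, 3, 2, 3, 2, 3, 2, 3, 2, 3, 2, 3, 2]) (.leaf [2, 3, 0, 2, 3, 2, 3, 2, 3]))) (.node (.node (.leaf [2, 1, 2, 1, 2, 1]) (.leaf [2, 3, 2, 3, 2, 3, 0, 2, 3])) (.node (.leaf [3, 2, 3, 2, 3, 2, 0, 3, 2]) (.leaf [0, 1, 0, 1, 0, 1, 0, 1, 0, 1]))))))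

def hints_0 : List (ℕ × ℕ × Bool) := [
  (0, 0, false), (6, 4, false), (4, 0, false), (6, 3, true), (2, 0, false), (6, 8, false), (6, 0, false), (6, 7, true),
  (1, 0, false), (6, 6, false), (5, 0, false), (6, 5, true), (3, 0, false), (6, 1, true), (6, 2, false), (0, 0, false),
  (0, 1, false), (6, 5, false), (4, 1, false), (6, 4, true), (2, 1, false), (6, 0, true), (6, 1, false), (6, 8, true),
  (1, 1, false), (6, 7, false), (5, 1, false), (6, 6, true), (3, 1, false), (6, 2, true), (6, 3, false), (0, 0, false)]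
def hints : List (ℕ × ℕ × Bool) :=
  hints_0

/-- subgroup words -/
def sw : List (List ℕ) := [[0], [2], [3]]

def subs : List (List ℕ) := [[0], [2], [3]]

/-- parameters -/
def P : Params := ⟨tab, 4, rots, subs⟩

def tree_0 : List ℕ := [
  1, 4, 6, 10, 9, 15, 19, 17,
  29, 20, 22, 42, 34, 26, 59, 32,
  52, 36, 38, 74, 47, 51, 55, 71,
  49, 89, 57, 61, 77, 65, 73, 79,
  83, 119, 138, 116, 112, 108, 81, 133,
  86, 167, 94, 134, 98, 130, 106, 126,
  158, 141, 185, 145, 181, 149, 153, 156,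
  196, 160, 162, 234, 165, 173, 169, 177,
  189, 237, 191, 263, 195, 199, 231, 200,
  204, 208, 212, 216, 220, 218, 306, 222,
  310, 233, 289, 239, 243, 267, 274, 272,
  264, 260, 256, 252, 248, 371, 241, 341,
  282, 342, 286, 338, 285, 293, 301, 323,
  330, 334, 382, 410, 353, 401, 361, 397,
  365, 373, 369, 377, 406, 450, 408, 452,
  432, 412, 456, 414, 418, 431, 436, 440,
  448, 472, 458, 466, 513, 517]
def tree : List ℕ :=
  tree_0

def ph0_0 : List ℕ := [
  2048, 2049, 2050, 4104, 8196, 61464, 28693, 57365,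
  12309, 315392, 114694, 151554, 20488, 40964, 172056, 90133,
  167957, 45077, 258054, 376834, 12295, 122881, 24585, 126977,
  110598, 155650, 327687, 425993, 196611, 282629, 40960, 102406,
  528386, 487426, 479239, 471048, 430087, 389128, 360452, 446472,
  344073, 327683, 319491, 286725, 397315, 274441, 262150, 372738,
  249864, 249861, 241667, 344069, 409603, 229378, 196615, 282633,
  159752, 229380, 397337, 405533, 458760, 528388, 548872, 131081,
  208902, 299010, 442375, 110600, 155652, 143383, 143381, 204808,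
  294916, 225288, 315396, 102408, 94213, 176131, 503808, 77827,
  131077, 339969, 188419, 487424, 434179, 65538, 45063, 86025,
  249862, 385026, 540679, 32776, 65540, 176153, 184349, 217096,
  307204, 421896, 499716, 503816, 466948, 380936, 253956, 360472,
  356379, 356357, 446470, 520194, 122888]

def ph1_0 : List Aux := [
  .node 17 1, .node 24 1, .derive 136 [.bwd 0, .edge 3, .fwd 1] [3] (.rel 8), .node 25 0, .derive 137 [.bwd 0, .edge 2, .fwd 0] [2] (.rel 2), .node 26 0, .derive 138 [.bwd 0, .edge 3, .fwd 2] [3] (.rel 4), .node 30 2,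
  .node 47 0, .derive 140 [.bwd 0, .edge 2, .fwd 3] [2] (.rel 2), .node 52 2, .derive 141 [.bwd 0, .edge 1, .edge 2, .edge 1, .edge 2] [1] (.rel 7), .node 53 2, .node 56 1, .derive 143 [.bwd 0, .edge 3, .edge 1] [3] (.rel 8), .node 57 1,
  .derive 144 [.bwd 0, .edge 3, .edge 1] [3] (.rel 8), .node 67 0, .derive 145 [.bwd 0, .edge 3, .fwd 9] [3] (.rel 4), .derive 145 [.fwd 0, .fwd 9, .fwd 12, .fwd 14, .bwd 12, .bwd 9, .bwd 0, .bwd 1] [2] (.rel 22), .node 69 2, .derive 146 [.bwd 0, .edge 0, .fwd 0] [0] (.rel 3), .node 74 1, .derive 147 [.bwd 0, .edge 3, .edge 1] [3] (.rel 8),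
  .node 74 2, .derive 148 [.bwd 0, .edge 0, .fwd 14] [0] (.rel 3), .node 75 2, .derive 149 [.bwd 0, .edge 0, .fwd 14] [0] (.rel 3), .node 78 3, .node 79 1, .node 79 3, .node 81 1,
  .derive 153 [.bwd 0, .edge 2, .edge 1, .edge 2, .fwd 2] [2] (.rel 6), .node 81 3, .derive 154 [.bwd 0, .edge 0, .edge 3] [0] (.rel 5), .node 87 1, .node 89 1, .derive 156 [.bwd 0, .edge 3, .fwd 1] [3] (.rel 8), .node 95 0, .node 96 0,
  .derive 158 [.bwd 0, .edge 3, .fwd 1] [3] (.rel 4), .node 96 2, .node 97 1, .node 98 1, .derive 161 [.bwd 0, .edge 3, .fwd 1] [3] (.rel 8), .node 101 0, .derive 162 [.bwd 0, .edge 1, .edge 0, .edge 1, .edge 0, .edge 1, .edge 0, .edge 1, .fwd 0] [1] (.rel 0), .node 105 3,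
  .derive 163 [.bwd 0, .edge 1, .edge 3] [1] (.rel 9), .node 106 3, .derive 164 [.bwd 0, .edge 0, .fwd 2] [0] (.rel 5), .node 107 0, .derive 165 [.bwd 0, .edge 2, .fwd 13] [2] (.rel 2), .node 108 3, .derive 166 [.bwd 0, .edge 1, .fwd 4] [1] (.rel 9), .node 111 0,
  .derive 167 [.bwd 0, .edge 3, .edge 0] [3] (.rel 4), .node 111 2, .node 113 2, .node 115 0, .node 115 2, .derive 171 [.bwd 0, .edge 1, .edge 2, .edge 1, .fwd 3] [1] (.rel 7), .node 116 0, .derive 172 [.bwd 0, .edge 1, .edge 0, .edge 1, .edge 0, .edge 1, .edge 0, .edge 1, .fwd 3] [1] (.rel 0),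
  .node 117 0, .derive 173 [.bwd 0, .edge 2, .fwd 19] [2] (.rel 2), .node 117 3, .node 118 3, .derive 175 [.bwd 0, .edge 1, .fwd 1] [1] (.rel 9), .node 120 2, .derive 176 [.bwd 0, .edge 0, .fwd 11] [0] (.rel 3), .node 121 1,
  .node 121 3, .derive 178 [.bwd 0, .edge 0, .fwd 19] [0] (.rel 5), .node 122 2, .derive 179 [.bwd 0, .edge 0, .edge 2] [0] (.rel 3), .node 123 2, .derive 180 [.bwd 0, .edge 0, .edge 2] [0] (.rel 3), .node 124 1, .node 124 3,
  .node 125 0, .derive 183 [.bwd 0, .edge 2, .bwd 46] [2] (.rel 2), .node 125 3, .derive 184 [.bwd 0, .fwd 2, .fwd 1, .bwd 49, .edge 2, .edge 3, .edge 2, .fwd 52] [2] (.rel 28), .node 126 0, .derive 185 [.bwd 0, .edge 3, .fwd 33] [3] (.rel 4), .node 127 1, .node 130 1,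
  .node 130 3, .node 131 3, .node 132 0, .derive 190 [.bwd 0, .edge 2, .fwd 28] [2] (.rel 2), .node 132 3, .derive 191 [.bwd 0, .edge 1, .fwd 3] [1] (.rel 9), .node 133 0, .node 133 2,
  .node 134 0, .derive 194 [.bwd 0, .edge 3, .fwd 2] [3] (.rel 4), .node 134 2, .node 135 0]
def ph1_1 : List Aux := [
  .node 135 2, .derive 197 [.bwd 0, .bwd 100, .edge 2, .edge 1, .fwd 93] [1] (.rel 7), .node 136 0, .derive 198 [.bwd 0, .fwd 100, .fwd 3] [3] (.rel 4), .node 136 2, .derive 199 [.bwd 0, .bwd 103, .edge 2, .edge 1, .fwd 92] [1] (.rel 7), .node 138 1, .node 139 3,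
  .node 140 1, .node 141 3, .derive 203 [.bwd 0, .fwd 98, .fwd 81] [1] (.rel 9), .node 142 3, .node 143 2, .node 144 0, .derive 206 [.bwd 0, .bwd 98, .edge 0, .edge 1, .edge 0, .edge 1, .edge 0, .fwd 98, .fwd 0] [1] (.rel 0), .derive 206 [.bwd 1, .fwd 98, .fwd 69] [3] (.rel 4),
  .node 144 2, .derive 207 [.bwd 0, .bwd 101, .edge 2, .fwd 103, .fwd 4] [1] (.rel 7), .node 145 1, .derive 208 [.bwd 0, .fwd 99, .edge 1, .edge 2, .fwd 83] [2] (.rel 6), .derive 208 [.bwd 1, .fwd 101, .fwd 11] [3] (.rel 8), .node 146 1, .derive 209 [.bwd 0, .bwd 101, .edge 1, .edge 2, .fwd 79] [2] (.rel 6), .node 146 3,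
  .derive 210 [.bwd 0, .bwd 102, .bwd 103, .edge 3, .edge 2, .edge 3, .fwd 116, .fwd 16] [2] (.rel 28), .node 147 2, .node 148 3, .derive 212 [.bwd 0, .fwd 101, .bwd 116, .edge 3, .edge 2, .edge 3, .fwd 114, .fwd 15] [2] (.rel 28), .node 149 1, .derive 213 [.bwd 0, .bwd 102, .edge 1, .edge 2, .fwd 50] [2] (.rel 6), .node 149 3, .derive 214 [.bwd 0, .bwd 104, .edge 3, .edge 2, .edge 3, .fwd 106, .fwd 4, .fwd 3, .bwd 19, .bwd 118, .edge 3, .edge 2, .edge 3, .fwd 120, .fwd 21] [2] (.rel 11),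
  .node 150 2, .derive 215 [.bwd 0, .bwd 104, .edge 2, .edge 3, .edge 2, .edge 3, .edge 2, .fwd 50, .fwd 49, .bwd 102, .edge 2, .edge 3, .edge 2, .fwd 99, .bwd 51] [3] (.rel 10), .node 151 0, .node 151 3, .node 153 3, .derive 218 [.bwd 0, .bwd 105, .fwd 103] [1] (.rel 9), .node 155 0, .node 156 0,
  .derive 220 [.bwd 0, .fwd 102, .fwd 1] [3] (.rel 4), .node 156 2, .derive 221 [.bwd 0, .bwd 105, .edge 2, .edge 1, .fwd 83] [1] (.rel 7), .node 157 1, .node 158 1, .derive 223 [.bwd 0, .fwd 104, .fwd 1] [3] (.rel 8), .node 159 1, .derive 224 [.bwd 0, .bwd 105, .edge 1, .edge 2, .fwd 103] [2] (.rel 6),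
  .node 160 0, .node 161 0, .derive 226 [.bwd 0, .fwd 105, .fwd 1] [3] (.rel 4), .node 163 2, .node 164 2, .derive 228 [.bwd 0, .fwd 102, .fwd 1] [0] (.rel 3), .node 165 1, .node 166 2,
  .node 167 1, .derive 231 [.bwd 0, .fwd 100, .fwd 70] [3] (.rel 8), .node 167 2, .derive 232 [.bwd 0, .bwd 103, .fwd 101] [0] (.rel 3), .node 168 3, .derive 233 [.bwd 0, .bwd 1, .bwd 2, .fwd 104, .edge 2, .edge 3, .edge 2, .fwd 72] [2] (.rel 28), .node 169 3, .node 170 2,
  .derive 235 [.bwd 0, .bwd 104, .fwd 103] [0] (.rel 3), .node 171 3, .derive 236 [.bwd 0, .fwd 104, .fwd 5] [1] (.rel 9), .node 173 1, .derive 237 [.bwd 0, .fwd 102, .bwd 121, .bwd 102, .fwd 0] [2] (.rel 6), .node 173 3, .node 174 2, .node 175 2,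
  .derive 240 [.bwd 0, .bwd 104, .edge 2, .edge 3, .edge 2, .edge 3, .fwd 114, .fwd 11, .fwd 10, .bwd 83, .edge 2, .edge 3, .edge 2, .bwd 115, .fwd 13] [3] (.rel 10), .node 176 1, .derive 241 [.bwd 0, .bwd 104, .edge 1, .edge 2, .fwd 102] [2] (.rel 6), .node 176 3, .node 177 0, .node 177 3, .derive 244 [.bwd 0, .bwd 106, .fwd 105] [1] (.rel 9), .node 178 2,
  .derive 245 [.bwd 0, .fwd 106, .fwd 24] [0] (.rel 3), .node 179 1, .node 179 3, .node 180 1, .derive 248 [.bwd 0, .bwd 107, .edge 1, .fwd 109, .fwd 2] [2] (.rel 6), .node 180 3, .derive 249 [.bwd 0, .fwd 108, .fwd 96] [0] (.rel 5), .node 181 0,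
  .node 181 3, .derive 251 [.bwd 0, .bwd 110, .fwd 109] [1] (.rel 9), .node 182 2, .derive 252 [.bwd 0, .bwd 111, .bwd 115, .bwd 116, .edge 3, .edge 2, .fwd 118, .fwd 11] [3] (.rel 27), .node 183 1, .node 185 1, .derive 254 [.bwd 0, .fwd 108, .fwd 39] [3] (.rel 8), .node 186 0,
  .node 186 2, .derive 256 [.bwd 0, .bwd 110, .edge 2, .edge 1, .fwd 101] [1] (.rel 7), .node 187 0, .node 187 2]
def ph1_2 : List Aux := [
  .derive 258 [.bwd 0, .bwd 112, .edge 2, .edge 1, .fwd 101] [1] (.rel 7), .node 187 3, .derive 259 [.bwd 0, .bwd 114, .fwd 113] [1] (.rel 9), .node 189 2, .node 190 1, .node 190 3, .derive 262 [.bwd 0, .bwd 115, .fwd 113] [0] (.rel 5), .node 191 2,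
  .node 192 1, .node 192 2, .derive 265 [.bwd 0, .bwd 115, .fwd 114] [0] (.rel 3), .node 193 3, .node 194 1, .derive 267 [.bwd 0, .fwd 115, .fwd 4] [3] (.rel 8), .node 194 2, .derive 268 [.bwd 0, .bwd 118, .fwd 116] [0] (.rel 3),
  .node 195 3, .node 196 2, .derive 270 [.bwd 0, .bwd 118, .fwd 117] [0] (.rel 3), .node 197 3, .derive 271 [.bwd 0, .fwd 118, .fwd 112] [1] (.rel 9), .node 198 1, .derive 272 [.bwd 0, .bwd 119, .bwd 220, .edge 0, .edge 1, .edge 0, .edge 1, .fwd 216, .fwd 115] [0] (.rel 1), .node 198 2,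
  .derive 273 [.bwd 0, .bwd 121, .fwd 119] [0] (.rel 3), .node 199 3, .node 200 2, .node 202 0, .node 202 2, .derive 277 [.bwd 0, .bwd 120, .fwd 219, .fwd 122, .fwd 2] [1] (.rel 7), .node 205 3, .node 206 2,
  .derive 279 [.bwd 0, .bwd 118, .fwd 115] [0] (.rel 3), .node 207 3, .derive 280 [.bwd 0, .fwd 116, .fwd 3] [1] (.rel 9), .node 208 0, .derive 281 [.bwd 0, .bwd 117, .bwd 218, .edge 1, .edge 0, .edge 1, .edge 0, .fwd 149, .fwd 40] [1] (.rel 0), .derive 281 [.bwd 1, .fwd 117, .fwd 98] [2] (.rel 2), .derive 281 [.bwd 2, .fwd 117, .fwd 10] [3] (.rel 4), .node 209 0,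
  .derive 282 [.bwd 0, .fwd 117, .fwd 91] [2] (.rel 2), .node 209 3, .derive 283 [.bwd 0, .bwd 120, .fwd 118] [1] (.rel 9), .node 211 3, .node 213 0, .derive 285 [.bwd 0, .fwd 115, .fwd 57] [2] (.rel 2), .node 213 3, .derive 286 [.bwd 0, .bwd 118, .fwd 116] [1] (.rel 9),
  .node 215 1, .derive 287 [.bwd 0, .bwd 116, .bwd 138, .bwd 117, .bwd 1] [2] (.rel 6), .derive 287 [.bwd 1, .fwd 116, .fwd 57] [3] (.rel 8), .node 216 1, .node 216 3, .derive 289 [.bwd 0, .bwd 118, .fwd 117] [0] (.rel 5), .node 217 2, .node 218 2,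
  .node 219 1, .derive 292 [.bwd 0, .bwd 118, .bwd 221, .edge 0, .edge 1, .edge 0, .edge 1, .fwd 217, .fwd 112] [0] (.rel 1), .node 220 2, .derive 293 [.bwd 0, .bwd 119, .fwd 117] [0] (.rel 3), .node 221 3, .derive 294 [.bwd 0, .fwd 118, .fwd 98] [1] (.rel 9), .node 222 2, .node 223 2,
  .node 224 0, .derive 297 [.bwd 0, .fwd 117, .fwd 115] [2] (.rel 2), .node 224 3, .node 225 1, .derive 299 [.bwd 0, .bwd 119, .bwd 225, .edge 0, .edge 1, .edge 0, .edge 1, .fwd 171, .fwd 55] [0] (.rel 1), .node 226 1, .derive 300 [.bwd 0, .fwd 119, .fwd 2] [3] (.rel 8), .node 227 3,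
  .derive 301 [.bwd 0, .bwd 118, .bwd 119, .bwd 222, .edge 2, .bwd 248, .fwd 146, .fwd 28] [2] (.rel 28), .node 228 1, .node 228 3, .derive 303 [.bwd 0, .bwd 122, .bwd 225, .edge 2, .bwd 251, .fwd 149, .fwd 31, .bwd 2, .bwd 3, .bwd 123, .bwd 227, .edge 2, .bwd 260, .fwd 162, .fwd 44] [2] (.rel 11), .node 229 0, .derive 304 [.bwd 0, .bwd 122, .bwd 225, .edge 1, .edge 0, .edge 1, .edge 0, .fwd 205, .fwd 100] [1] (.rel 0), .node 229 2, .derive 305 [.bwd 0, .bwd 124, .fwd 226, .fwd 135, .fwd 16] [1] (.rel 7),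
  .node 230 1, .derive 306 [.bwd 0, .bwd 125, .fwd 226, .fwd 128, .fwd 7] [2] (.rel 6), .node 230 3, .derive 307 [.bwd 0, .bwd 127, .bwd 229, .edge 2, .edge 3, .edge 2, .fwd 203, .fwd 92, .fwd 91, .bwd 103, .bwd 210, .edge 2, .edge 3, .fwd 208, .fwd 100] [2] (.rel 11), .node 231 0, .derive 308 [.bwd 0, .bwd 128, .bwd 229, .edge 1, .edge 0, .edge 1, .fwd 276, .fwd 176, .fwd 57] [1] (.rel 0), .derive 308 [.bwd 1, .fwd 128, .fwd 90] [3] (.rel 4), .node 231 2,
  .node 232 1, .node 234 2, .node 235 1, .derive 312 [.bwd 0, .bwd 127, .bwd 227, .bwd 199, .fwd 86] [2] (.rel 6), .node 236 2, .node 237 0, .node 237 3, .derive 315 [.bwd 0, .bwd 127, .fwd 125] [1] (.rel 9),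
  .node 238 2, .node 239 1, .node 239 3, .node 240 1]
def ph1_3 : List Aux := [
  .derive 319 [.bwd 0, .bwd 128, .fwd 231, .fwd 129, .fwd 2] [2] (.rel 6), .derive 319 [.bwd 1, .fwd 128, .fwd 12] [3] (.rel 8), .node 241 0, .derive 320 [.bwd 0, .fwd 128, .fwd 126] [2] (.rel 2), .node 241 3, .derive 321 [.bwd 0, .bwd 131, .fwd 129] [1] (.rel 9), .node 242 2, .derive 322 [.bwd 0, .bwd 131, .fwd 236, .bwd 248, .edge 3, .edge 2, .fwd 217, .fwd 103] [3] (.rel 27),
  .node 243 3, .derive 323 [.bwd 0, .bwd 132, .fwd 131] [0] (.rel 5), .node 244 2, .node 245 1, .node 246 0, .node 248 0, .derive 327 [.bwd 0, .fwd 129, .fwd 1] [2] (.rel 2), .node 248 3,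
  .derive 328 [.bwd 0, .bwd 132, .fwd 130] [1] (.rel 9), .node 249 2, .derive 329 [.bwd 0, .fwd 131, .fwd 114] [0] (.rel 3), .derive 329 [.bwd 1, .bwd 133, .bwd 242, .edge 3, .fwd 249, .fwd 143, .fwd 12, .fwd 11, .bwd 115, .bwd 229, .edge 2, .edge 3, .fwd 260, .fwd 156, .fwd 29] [3] (.rel 10), .node 250 1, .node 250 3, .node 251 2, .node 252 1,
  .derive 333 [.bwd 0, .fwd 132, .fwd 12] [3] (.rel 8), .node 253 0, .node 253 2, .derive 335 [.bwd 0, .bwd 134, .fwd 245, .bwd 189, .fwd 71] [1] (.rel 7), .node 254 0, .derive 336 [.bwd 0, .bwd 135, .bwd 244, .bwd 280, .bwd 278, .bwd 274, .bwd 255, .bwd 150, .bwd 19] [1] (.rel 0), .derive 336 [.bwd 1, .fwd 135, .fwd 53] [3] (.rel 4), .node 254 2,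
  .node 255 2, .derive 338 [.bwd 0, .bwd 137, .fwd 136] [0] (.rel 3), .node 256 3, .derive 339 [.bwd 0, .fwd 137, .fwd 123] [1] (.rel 9), .node 257 1, .node 257 2, .derive 341 [.bwd 0, .bwd 139, .fwd 138] [0] (.rel 3), .node 257 3,
  .derive 342 [.bwd 0, .bwd 141, .fwd 138] [0] (.rel 5), .node 258 3, .derive 343 [.bwd 0, .fwd 141, .fwd 125] [1] (.rel 9), .node 259 2, .derive 344 [.bwd 0, .fwd 141, .bwd 182, .bwd 177, .fwd 51] [1] (.rel 7), .node 260 1, .node 261 0, .node 261 3,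
  .derive 347 [.bwd 0, .bwd 143, .fwd 142] [1] (.rel 9), .node 262 2, .derive 348 [.bwd 0, .fwd 143, .fwd 142] [0] (.rel 3), .derive 348 [.bwd 1, .bwd 145, .bwd 260, .edge 2, .edge 3, .fwd 290, .fwd 185, .fwd 58] [3] (.rel 27), .node 263 1, .derive 349 [.bwd 0, .bwd 145, .fwd 259, .fwd 149, .fwd 7] [2] (.rel 6), .node 263 3, .derive 350 [.bwd 0, .bwd 4, .fwd 3] [0] (.rel 5),
  .node 264 2, .node 265 1, .node 265 3, .node 266 2, .node 267 2, .node 268 1, .node 268 3, .node 269 2,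
  .node 270 3, .node 271 2, .node 272 2, .derive 361 [.bwd 0, .fwd 144, .fwd 140] [0] (.rel 3), .node 273 1, .node 273 3, .node 274 2, .node 276 2,
  .derive 365 [.bwd 0, .bwd 144, .fwd 143] [0] (.rel 3), .node 277 3, .node 279 1, .derive 367 [.bwd 0, .bwd 143, .bwd 260, .fwd 143, .fwd 0] [2] (.rel 6), .node 279 3, .derive 368 [.bwd 0, .fwd 144, .bwd 260, .fwd 360, .edge 2, .fwd 310, .fwd 206, .fwd 78] [2] (.rel 28), .node 280 2, .derive 369 [.bwd 0, .bwd 145, .bwd 262, .fwd 362, .edge 2, .fwd 312, .fwd 208, .fwd 80, .bwd 1, .bwd 2, .bwd 147, .fwd 263, .bwd 313, .fwd 209, .fwd 82] [3] (.rel 10),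
  .node 282 1, .node 282 3, .node 283 2, .derive 372 [.bwd 0, .fwd 140, .fwd 258, .bwd 162, .fwd 17] [1] (.rel 7), .node 285 1, .node 285 3, .derive 374 [.bwd 0, .bwd 141, .fwd 139] [0] (.rel 5), .node 287 0,
  .derive 375 [.bwd 0, .fwd 138, .bwd 1] [2] (.rel 2), .derive 375 [.bwd 1, .fwd 138, .fwd 63] [3] (.rel 4), .node 288 3, .derive 376 [.bwd 0, .bwd 139, .fwd 138] [1] (.rel 9), .node 289 2, .derive 377 [.bwd 0, .fwd 139, .fwd 138] [0] (.rel 3), .node 291 3, .node 292 2,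
  .derive 379 [.bwd 0, .fwd 138, .fwd 132] [0] (.rel 3), .derive 379 [.bwd 1, .bwd 140, .bwd 159, .fwd 160, .fwd 64] [1] (.rel 7), .node 293 3, .derive 380 [.bwd 0, .fwd 139, .bwd 257, .fwd 361, .bwd 279, .fwd 278, .fwd 170, .fwd 25] [2] (.rel 28)]
def ph1_4 : List Aux := [
  .node 294 2, .derive 381 [.bwd 0, .bwd 140, .bwd 259, .fwd 363, .bwd 281, .fwd 280, .fwd 172, .fwd 27, .bwd 1, .bwd 2, .bwd 142, .fwd 260, .bwd 163, .fwd 162, .fwd 29] [3] (.rel 10), .node 295 3, .node 297 1, .node 297 3, .node 298 2, .node 299 2, .derive 386 [.bwd 0, .fwd 138, .fwd 46] [0] (.rel 3),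
  .node 300 2, .node 302 0, .node 302 3, .derive 389 [.bwd 0, .bwd 137, .fwd 136] [1] (.rel 9), .node 304 2, .derive 390 [.bwd 0, .bwd 136, .fwd 134] [0] (.rel 3), .node 305 3, .derive 391 [.bwd 0, .fwd 135, .fwd 12] [1] (.rel 9),
  .node 306 0, .derive 392 [.bwd 0, .fwd 135, .fwd 7] [2] (.rel 2), .node 308 2, .derive 393 [.bwd 0, .bwd 134, .fwd 131] [0] (.rel 3), .node 309 1, .derive 394 [.bwd 0, .bwd 133, .bwd 264, .fwd 262, .fwd 132] [2] (.rel 6), .node 309 3, .node 310 0,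
  .node 311 1, .node 312 0, .derive 398 [.bwd 0, .fwd 134, .fwd 79] [2] (.rel 2), .node 312 3, .node 314 1, .node 314 3, .derive 401 [.bwd 0, .bwd 136, .fwd 135] [0] (.rel 5), .node 315 2,
  .node 316 1, .node 317 0, .node 317 3, .derive 405 [.bwd 0, .bwd 137, .fwd 136] [1] (.rel 9), .node 319 0, .derive 406 [.bwd 0, .fwd 136, .fwd 3] [2] (.rel 2), .derive 406 [.bwd 1, .fwd 136, .fwd 14] [3] (.rel 4), .node 320 1,
  .node 320 3, .node 321 2, .node 322 1, .derive 410 [.bwd 0, .fwd 135, .fwd 97] [3] (.rel 8), .node 323 2, .derive 411 [.bwd 0, .fwd 135, .fwd 134] [0] (.rel 3), .node 324 1, .derive 412 [.bwd 0, .bwd 136, .fwd 268, .fwd 267, .fwd 135] [2] (.rel 6),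
  .node 324 3, .node 325 0, .node 326 1, .node 327 1, .node 328 2, .node 329 1, .derive 418 [.bwd 0, .fwd 134, .fwd 29] [3] (.rel 8), .node 330 0,
  .node 330 2, .node 330 3, .derive 421 [.bwd 0, .bwd 137, .fwd 136] [1] (.rel 9), .node 331 2, .derive 422 [.bwd 0, .bwd 138, .bwd 272, .bwd 330, .fwd 213, .bwd 210, .fwd 209, .fwd 133] [3] (.rel 27), .derive 378 [.bwd 66, .bwd 133, .bwd 0] [1] (.rel 9), .node 332 1, .derive 423 [.bwd 0, .bwd 140, .fwd 273, .fwd 272, .fwd 139] [2] (.rel 6),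
  .node 332 3, .derive 424 [.bwd 0, .bwd 142, .bwd 276, .bwd 335, .fwd 218, .bwd 215, .fwd 214, .fwd 138, .bwd 4, .bwd 5, .bwd 143, .bwd 219, .fwd 79, .bwd 76, .fwd 75] [2] (.rel 11), .node 333 0, .derive 425 [.bwd 0, .fwd 142, .fwd 17] [3] (.rel 4), .node 336 2, .node 337 3, .node 338 3, .node 339 2,
  .node 340 2, .node 341 1, .node 341 3, .derive 432 [.bwd 0, .fwd 136, .fwd 133] [0] (.rel 5), .node 342 2, .derive 433 [.bwd 0, .fwd 136, .fwd 133] [0] (.rel 3), .node 343 2, .node 344 3,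
  .derive 435 [.bwd 0, .fwd 135, .bwd 128] [1] (.rel 9), .node 345 0, .node 346 1, .derive 437 [.bwd 0, .bwd 136, .bwd 278, .bwd 392, .edge 1, .bwd 405, .fwd 299, .fwd 169, .fwd 31] [0] (.rel 1), .node 346 3, .derive 438 [.bwd 0, .bwd 138, .fwd 137] [0] (.rel 5), .node 347 2, .node 349 0,
  .derive 440 [.bwd 0, .fwd 134, .fwd 6] [2] (.rel 2), .node 349 3, .derive 441 [.bwd 0, .bwd 137, .fwd 135] [1] (.rel 9), .node 351 1, .derive 442 [.bwd 0, .bwd 135, .bwd 283, .fwd 282, .fwd 134] [2] (.rel 6), .node 351 3, .node 352 3, .derive 444 [.bwd 0, .bwd 137, .fwd 136] [1] (.rel 9),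
  .node 353 2, .derive 445 [.bwd 0, .bwd 138, .fwd 286, .bwd 401, .edge 3, .fwd 398, .fwd 280, .fwd 133] [3] (.rel 27), .node 354 1, .node 354 3]
def ph1_5 : List Aux := [
  .derive 447 [.bwd 0, .bwd 140, .bwd 288, .bwd 404, .edge 3, .fwd 401, .fwd 283, .fwd 136, .bwd 2, .bwd 3, .bwd 141, .bwd 290, .bwd 402, .fwd 285, .fwd 137] [2] (.rel 11), .node 355 1, .derive 448 [.bwd 0, .bwd 141, .bwd 289, .fwd 287, .fwd 140] [2] (.rel 6), .node 355 3, .node 356 0, .node 356 3, .derive 451 [.bwd 0, .bwd 144, .fwd 143] [1] (.rel 9), .node 358 1,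
  .node 359 2, .derive 453 [.bwd 0, .bwd 144, .fwd 290, .bwd 408, .bwd 506, .fwd 404, .fwd 283, .fwd 138] [3] (.rel 27), .node 360 3, .derive 454 [.bwd 0, .bwd 145, .bwd 291, .bwd 410, .bwd 508, .fwd 406, .fwd 285, .fwd 140, .bwd 1, .bwd 2, .bwd 146, .bwd 293, .bwd 407, .fwd 287, .fwd 141] [2] (.rel 11), .node 361 1, .derive 455 [.bwd 0, .bwd 146, .bwd 291, .fwd 289, .fwd 144] [2] (.rel 6), .node 362 0, .node 362 3,
  .derive 457 [.bwd 0, .bwd 147, .fwd 146] [1] (.rel 9), .node 365 1, .node 367 0, .node 367 3, .derive 460 [.bwd 0, .bwd 145, .fwd 143] [1] (.rel 9), .node 369 1, .derive 461 [.bwd 0, .bwd 143, .fwd 287, .bwd 246, .bwd 110] [2] (.rel 6), .derive 461 [.bwd 1, .fwd 143, .fwd 90] [3] (.rel 8),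
  .node 370 0, .node 370 2, .derive 463 [.bwd 0, .bwd 145, .fwd 285, .fwd 258, .fwd 119] [1] (.rel 7), .node 370 3, .node 371 2, .derive 465 [.bwd 0, .bwd 147, .bwd 289, .fwd 406, .bwd 484, .bwd 381, .fwd 262, .fwd 123] [3] (.rel 27), .node 372 3, .derive 466 [.bwd 0, .fwd 147, .fwd 20] [1] (.rel 9),
  .derive 466 [.bwd 1, .bwd 149, .bwd 290, .fwd 409, .bwd 487, .bwd 384, .fwd 265, .fwd 126, .bwd 2, .bwd 3, .bwd 150, .fwd 291, .bwd 381, .bwd 266, .fwd 127] [2] (.rel 11), .node 373 0, .derive 467 [.bwd 0, .bwd 149, .bwd 289, .bwd 405, .fwd 506, .bwd 428, .bwd 309, .fwd 165, .fwd 19] [1] (.rel 0), .node 373 2, .derive 468 [.bwd 0, .bwd 151, .fwd 290, .fwd 215, .fwd 79] [1] (.rel 7), .node 373 3, .node 376 2, .node 377 1,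
  .node 377 3, .derive 472 [.bwd 0, .fwd 147, .bwd 286, .bwd 405, .bwd 508, .fwd 404, .fwd 285, .fwd 146] [2] (.rel 28), .node 379 3, .derive 473 [.bwd 0, .fwd 145, .fwd 72] [1] (.rel 9), .node 381 1, .derive 474 [.bwd 0, .bwd 144, .fwd 283, .fwd 255, .fwd 120] [2] (.rel 6), .derive 474 [.bwd 1, .fwd 144, .fwd 28] [3] (.rel 8), .node 382 2,
  .node 383 2, .derive 476 [.bwd 0, .bwd 145, .fwd 283, .fwd 279, .fwd 140] [1] (.rel 7), .node 383 3, .derive 477 [.bwd 0, .bwd 147, .fwd 146] [1] (.rel 9), .derive 457 [.fwd 35, .bwd 40, .bwd 20, .fwd 19, .bwd 0] [2] (.rel 6), .node 386 3, .node 387 3, .node 388 3,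
  .derive 480 [.bwd 0, .bwd 146, .fwd 145] [0] (.rel 5), .node 390 1, .derive 481 [.bwd 0, .bwd 145, .fwd 280, .bwd 254, .fwd 118] [2] (.rel 6), .node 390 3, .node 391 2, .node 392 1, .node 392 3, .node 393 1,
  .derive 486 [.bwd 0, .bwd 145, .fwd 278, .fwd 192, .fwd 46] [2] (.rel 6), .node 393 3, .node 394 0, .derive 488 [.bwd 0, .fwd 145, .fwd 143] [2] (.rel 2), .node 394 3, .derive 489 [.bwd 0, .bwd 148, .fwd 146] [1] (.rel 9), .node 395 2, .node 396 1,
  .node 397 0, .node 398 1, .derive 493 [.bwd 0, .bwd 148, .bwd 283, .fwd 409, .fwd 512, .bwd 414, .fwd 285, .fwd 150, .fwd 2] [0] (.rel 1), .node 398 3, .node 399 2, .node 400 3, .derive 496 [.bwd 0, .bwd 149, .fwd 148] [1] (.rel 9), .node 401 2,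
  .derive 497 [.bwd 0, .fwd 149, .fwd 148] [0] (.rel 3), .node 402 1, .derive 498 [.bwd 0, .bwd 150, .fwd 286, .fwd 285, .fwd 149] [2] (.rel 6), .node 402 3, .node 404 3, .derive 500 [.bwd 0, .bwd 151, .fwd 150] [0] (.rel 5), .node 405 2, .node 407 3,
  .derive 502 [.bwd 0, .bwd 148, .fwd 147] [1] (.rel 9), .node 408 2, .node 409 1, .derive 504 [.bwd 0, .bwd 149, .fwd 285, .fwd 284, .fwd 148] [2] (.rel 6), .node 409 3, .node 410 0, .derive 506 [.bwd 0, .fwd 150, .fwd 112] [3] (.rel 4), .node 411 1,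
  .node 411 3, .derive 508 [.bwd 0, .fwd 151, .bwd 286, .bwd 419, .bwd 422, .fwd 292, .fwd 155, .fwd 4] [2] (.rel 28), .node 412 0, .derive 509 [.bwd 0, .fwd 151, .fwd 149] [2] (.rel 2)]
def ph1_6 : List Aux := [
  .node 412 3, .derive 510 [.bwd 0, .bwd 154, .fwd 152] [1] (.rel 9), .node 413 2, .derive 511 [.bwd 0, .bwd 154, .bwd 292, .bwd 425, .bwd 428, .fwd 298, .fwd 161, .fwd 10, .bwd 5, .bwd 6, .bwd 158, .bwd 294, .bwd 299, .fwd 162, .fwd 13] [3] (.rel 10), .node 414 1, .node 415 0, .derive 513 [.bwd 0, .bwd 155, .bwd 293, .bwd 424, .fwd 530, .fwd 527, .fwd 418, .fwd 285, .fwd 150] [1] (.rel 0), .node 415 2,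
  .node 416 2, .derive 515 [.bwd 0, .bwd 157, .fwd 294, .fwd 158, .fwd 1] [1] (.rel 7), .node 417 1, .derive 516 [.bwd 0, .bwd 158, .fwd 294, .fwd 293, .fwd 157] [2] (.rel 6), .node 418 0, .derive 517 [.bwd 0, .fwd 158, .fwd 40] [3] (.rel 4), .node 419 2, .node 419 3,
  .derive 519 [.bwd 0, .bwd 160, .fwd 158] [0] (.rel 5), .node 420 3, .node 421 2, .derive 521 [.bwd 0, .fwd 160, .fwd 159, .bwd 157, .bwd 77] [1] (.rel 7), .derive 471 [.bwd 80, .fwd 79, .bwd 0] [3] (.rel 8), .node 423 0, .derive 522 [.bwd 0, .fwd 158, .fwd 155] [2] (.rel 2), .node 423 3,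
  .node 425 1, .derive 524 [.bwd 0, .fwd 157, .fwd 20] [3] (.rel 8), .node 426 1, .derive 525 [.bwd 0, .bwd 158, .fwd 297, .fwd 182, .fwd 31] [2] (.rel 6), .node 426 3, .node 427 2, .node 428 2, .derive 528 [.bwd 0, .bwd 160, .fwd 297, .bwd 434, .bwd 473, .fwd 343, .fwd 208, .fwd 60] [3] (.rel 27),
  .node 429 1, .derive 529 [.bwd 0, .bwd 161, .fwd 297, .fwd 273, .fwd 134] [2] (.rel 6), .node 429 3, .derive 530 [.bwd 0, .bwd 163, .bwd 300, .bwd 438, .bwd 477, .fwd 347, .fwd 212, .fwd 64, .bwd 3, .bwd 4, .bwd 164, .bwd 302, .bwd 348, .fwd 216, .fwd 69] [2] (.rel 11), .node 430 1, .derive 531 [.bwd 0, .bwd 164, .bwd 300, .fwd 299, .fwd 163] [2] (.rel 6), .node 431 0, .node 431 3,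
  .derive 533 [.bwd 0, .bwd 166, .fwd 165] [1] (.rel 9), .node 432 2, .derive 534 [.bwd 0, .fwd 166, .fwd 163] [0] (.rel 3), .node 433 1, .node 433 3, .node 434 1, .derive 537 [.bwd 0, .bwd 167, .fwd 303, .fwd 282, .fwd 138] [2] (.rel 6), .node 434 3,
  .derive 538 [.bwd 0, .bwd 5, .bwd 6, .bwd 173, .bwd 310, .fwd 308, .fwd 171, .fwd 3] [2] (.rel 28), .node 435 2, .derive 539 [.bwd 0, .fwd 169, .bwd 300, .bwd 301, .fwd 163] [1] (.rel 7), .derive 539 [.bwd 1, .bwd 171, .bwd 307, .bwd 449, .fwd 451, .fwd 309, .fwd 172, .fwd 3, .fwd 2, .bwd 6, .bwd 174, .bwd 311, .fwd 313, .fwd 176, .fwd 9] [3] (.rel 10), .node 436 1, .node 437 2, .derive 541 [.bwd 0, .fwd 170, .fwd 45] [0] (.rel 3), .node 438 2,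
  .derive 542 [.bwd 0, .fwd 170, .fwd 169] [0] (.rel 3), .node 439 3, .derive 543 [.bwd 0, .bwd 7, .fwd 6] [1] (.rel 9), .node 440 1, .node 440 3, .derive 545 [.bwd 0, .bwd 173, .fwd 171] [0] (.rel 5), .node 441 2, .node 442 3,
  .derive 547 [.bwd 0, .bwd 172, .fwd 170] [1] (.rel 9), .node 443 2, .node 445 1, .derive 549 [.bwd 0, .fwd 169, .fwd 159] [3] (.rel 8), .node 446 0, .node 446 3, .derive 551 [.bwd 0, .bwd 171, .fwd 170] [1] (.rel 9), .node 448 0,
  .derive 552 [.bwd 0, .fwd 169, .fwd 167] [2] (.rel 2), .node 448 3, .node 449 2, .node 450 1, .node 450 3, .derive 556 [.bwd 0, .bwd 172, .fwd 171] [0] (.rel 5), .node 451 2, .node 455 0,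
  .derive 558 [.bwd 0, .fwd 166, .fwd 165] [2] (.rel 2), .node 458 0, .node 459 3, .derive 560 [.bwd 0, .bwd 164, .fwd 163] [0] (.rel 5), .node 460 2, .derive 561 [.bwd 0, .fwd 164, .fwd 307, .bwd 249, .fwd 98] [1] (.rel 7), .node 462 2, .derive 562 [.bwd 0, .bwd 162, .fwd 161] [0] (.rel 3),
  .node 462 3, .node 463 3, .derive 564 [.bwd 0, .fwd 163, .fwd 136] [1] (.rel 9), .node 464 2, .node 467 2, .derive 566 [.bwd 0, .bwd 159, .fwd 157] [0] (.rel 3), .node 467 3, .node 468 3,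
  .derive 568 [.bwd 0, .fwd 159, .fwd 78] [1] (.rel 9), .node 469 2, .node 470 1, .derive 570 [.bwd 0, .bwd 160, .fwd 307, .fwd 306, .fwd 159] [2] (.rel 6)]
def ph1_7 : List Aux := [
  .node 471 0, .node 473 2, .derive 572 [.bwd 0, .bwd 159, .fwd 305, .bwd 438, .fwd 556, .fwd 439, .fwd 299, .fwd 154] [3] (.rel 27), .node 474 0, .derive 573 [.bwd 0, .fwd 158, .fwd 131] [2] (.rel 2), .derive 573 [.bwd 1, .fwd 158, .fwd 23] [3] (.rel 4), .node 475 1, .node 476 3,
  .derive 575 [.bwd 0, .fwd 158, .fwd 153] [1] (.rel 9), .node 478 2, .derive 576 [.bwd 0, .bwd 156, .fwd 302, .bwd 349, .fwd 496, .fwd 353, .fwd 216, .fwd 44] [3] (.rel 27), .node 479 2, .derive 577 [.bwd 0, .bwd 157, .bwd 303, .fwd 441, .fwd 305, .fwd 158, .fwd 2, .fwd 1, .bwd 46, .bwd 218, .bwd 355, .bwd 498, .fwd 351, .fwd 208, .fwd 37] [3] (.rel 10), .node 482 2, .derive 578 [.bwd 0, .bwd 154, .fwd 300, .bwd 435, .bwd 519, .fwd 382, .fwd 244, .fwd 84] [3] (.rel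 27), .node 483 1,
  .derive 579 [.bwd 0, .bwd 155, .fwd 300, .fwd 168, .fwd 9] [2] (.rel 6), .node 483 3, .derive 580 [.bwd 0, .bwd 157, .bwd 303, .bwd 439, .bwd 523, .fwd 386, .fwd 248, .fwd 88, .bwd 3, .bwd 4, .bwd 158, .bwd 305, .bwd 387, .fwd 249, .fwd 89] [2] (.rel 11), .node 484 0, .node 484 2, .node 484 3, .derive 583 [.bwd 0, .bwd 160, .fwd 159] [1] (.rel 9), .node 485 2,
  .derive 584 [.bwd 0, .bwd 161, .bwd 307, .fwd 442, .fwd 313, .bwd 201, .fwd 200, .bwd 141] [3] (.rel 27), .derive 499 [.bwd 141, .fwd 143, .bwd 0] [1] (.rel 9), .node 486 0, .derive 585 [.bwd 0, .fwd 162, .fwd 45] [2] (.rel 2), .node 486 3, .derive 586 [.bwd 0, .bwd 165, .fwd 163] [1] (.rel 9), .node 488 1, .node 488 3,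
  .node 489 2, .node 490 1, .node 491 2, .node 492 1, .node 493 2, .derive 593 [.bwd 0, .fwd 162, .fwd 2] [0] (.rel 3), .derive 593 [.bwd 1, .bwd 164, .fwd 311, .fwd 255, .fwd 84] [1] (.rel 7), .node 493 3,
  .derive 594 [.bwd 0, .bwd 166, .fwd 164] [1] (.rel 9), .node 494 2, .node 495 3, .node 496 2, .node 497 1, .node 497 3, .derive 599 [.bwd 0, .fwd 165, .bwd 314, .bwd 451, .bwd 577, .fwd 451, .fwd 314, .fwd 162] [2] (.rel 28), .node 500 2,
  .derive 600 [.bwd 0, .fwd 162, .fwd 161] [0] (.rel 3), .derive 600 [.bwd 1, .bwd 164, .bwd 315, .bwd 448, .fwd 447, .bwd 327, .fwd 180, .fwd 16] [3] (.rel 27), .node 501 3, .derive 601 [.bwd 0, .bwd 2, .fwd 1] [0] (.rel 5), .derive 601 [.bwd 1, .bwd 165, .bwd 317, .bwd 451, .fwd 450, .bwd 330, .fwd 183, .fwd 19, .bwd 2, .bwd 4, .bwd 167, .bwd 314, .fwd 313, .bwd 184, .fwd 20] [2] (.rel 11), .node 502 2, .node 503 1, .node 504 0,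
  .derive 604 [.bwd 0, .fwd 164, .fwd 162] [2] (.rel 2), .node 504 3, .derive 605 [.bwd 0, .bwd 167, .fwd 165] [1] (.rel 9), .node 506 1, .derive 606 [.bwd 0, .fwd 165, .fwd 107] [3] (.rel 8), .node 507 3, .derive 607 [.bwd 0, .bwd 166, .fwd 165] [1] (.rel 9), .node 509 3,
  .node 510 2, .node 511 1, .derive 610 [.bwd 0, .fwd 162, .fwd 11] [3] (.rel 8), .node 512 0, .derive 611 [.bwd 0, .bwd 163, .bwd 318, .bwd 456, .fwd 587, .fwd 487, .fwd 351, .fwd 206, .fwd 48] [1] (.rel 0), .node 512 2, .node 513 2, .derive 613 [.bwd 0, .bwd 165, .fwd 163] [0] (.rel 3),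
  .node 516 0, .derive 614 [.bwd 0, .fwd 161, .fwd 160] [2] (.rel 2), .node 516 3, .node 517 1, .derive 616 [.bwd 0, .fwd 162, .fwd 40] [3] (.rel 8), .node 518 1, .node 518 3, .node 519 2,
  .derive 619 [.bwd 0, .fwd 163, .fwd 161] [0] (.rel 3), .derive 571 [.bwd 80, .fwd 160, .bwd 0] [3] (.rel 4), .node 520 2, .node 522 1, .node 522 3, .node 523 2, .node 524 2, .node 525 3,
  .derive 625 [.bwd 0, .bwd 161, .fwd 159] [1] (.rel 9), .node 528 1, .derive 626 [.bwd 0, .fwd 158, .fwd 56] [3] (.rel 8), .node 529 0, .derive 627 [.bwd 0, .fwd 158, .fwd 123] [2] (.rel 2), .node 529 3, .derive 628 [.bwd 0, .bwd 161, .fwd 159] [1] (.rel 9), .node 531 0,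
  .derive 629 [.bwd 0, .fwd 158, .fwd 157] [2] (.rel 2), .node 532 1, .derive 630 [.bwd 0, .bwd 159, .bwd 324, .fwd 459, .fwd 597, .bwd 582, .fwd 436, .fwd 293, .fwd 122] [0] (.rel 1), .node 532 3]
def ph1_8 : List Aux := [
  .node 533 2, .node 535 0, .node 537 3, .derive 634 [.bwd 0, .bwd 157, .fwd 155] [1] (.rel 9), .node 540 0, .node 542 3, .derive 636 [.bwd 0, .fwd 149, .bwd 319, .bwd 458, .bwd 514, .fwd 378, .fwd 229, .fwd 63] [2] (.rel 28), .node 543 2,
  .derive 637 [.bwd 0, .fwd 149, .bwd 166, .bwd 167, .fwd 7] [1] (.rel 7), .derive 637 [.bwd 1, .bwd 151, .bwd 322, .bwd 461, .bwd 517, .fwd 381, .fwd 232, .fwd 66, .bwd 2, .bwd 3, .bwd 153, .bwd 324, .bwd 382, .fwd 233, .fwd 67] [3] (.rel 10), .node 544 0, .node 544 2, .node 544 3, .derive 640 [.bwd 0, .bwd 153, .fwd 152] [1] (.rel 9), .node 545 2, .node 546 3,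
  .node 547 2, .node 548 1, .node 550 3, .node 551 2, .derive 646 [.bwd 0, .fwd 149, .fwd 319, .bwd 313, .fwd 141] [1] (.rel 7), .node 552 1, .node 552 3, .node 553 2,
  .node 554 1, .node 555 2, .node 556 2, .derive 652 [.bwd 0, .fwd 149, .fwd 148] [0] (.rel 3), .node 557 3, .node 558 1, .node 558 3, .derive 655 [.bwd 0, .bwd 151, .fwd 317, .fwd 315, .fwd 278, .bwd 280, .fwd 282, .fwd 123] [2] (.rel 28),
  .node 559 1, .derive 656 [.bwd 0, .bwd 151, .bwd 315, .fwd 460, .fwd 603, .bwd 465, .fwd 320, .fwd 153, .fwd 3] [0] (.rel 1), .node 560 2, .derive 657 [.bwd 0, .fwd 151, .fwd 150] [0] (.rel 3), .node 561 3, .derive 658 [.bwd 0, .fwd 151, .fwd 86] [1] (.rel 9), .node 562 3, .derive 659 [.bwd 0, .fwd 151, .fwd 149] [0] (.rel 5),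
  .node 563 2, .node 564 2, .node 565 3, .node 566 1, .derive 663 [.bwd 0, .bwd 151, .fwd 309, .bwd 163, .fwd 14] [2] (.rel 6), .node 566 3, .derive 664 [.bwd 0, .fwd 152, .fwd 150] [0] (.rel 5), .node 567 2,
  .node 568 2, .node 569 3, .node 570 0, .derive 668 [.bwd 0, .fwd 151, .fwd 150] [2] (.rel 2), .derive 668 [.bwd 1, .fwd 152, .fwd 231, .bwd 233, .bwd 394, .fwd 395, .fwd 234, .fwd 69] [3] (.rel 29), .node 570 3, .derive 669 [.bwd 0, .fwd 3, .fwd 1] [0] (.rel 5), .derive 669 [.bwd 1, .fwd 155, .fwd 234, .bwd 236, .bwd 397, .fwd 398, .fwd 237, .fwd 72, .bwd 2, .fwd 3, .fwd 73, .bwd 75, .bwd 239, .fwd 240, .fwd 76] [2] (.rel 11),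
  .node 572 1, .derive 670 [.bwd 0, .bwd 155, .fwd 313, .fwd 226, .fwd 67] [2] (.rel 6), .derive 670 [.bwd 1, .fwd 155, .fwd 151] [3] (.rel 8), .node 573 1, .derive 671 [.bwd 0, .fwd 154, .fwd 27] [3] (.rel 8), .node 576 1, .derive 672 [.bwd 0, .fwd 151, .fwd 44] [3] (.rel 8), .node 577 1,
  .derive 673 [.bwd 0, .fwd 151, .fwd 39] [3] (.rel 8), .node 579 0, .node 579 3, .derive 675 [.bwd 0, .bwd 151, .fwd 149] [1] (.rel 9), .node 581 2, .node 581 3, .derive 677 [.bwd 0, .bwd 150, .fwd 148] [0] (.rel 5), .node 582 3,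
  .node 583 2, .derive 679 [.bwd 0, .fwd 150, .fwd 149, .bwd 147, .bwd 126] [1] (.rel 7), .derive 598 [.bwd 129, .fwd 128, .bwd 0] [3] (.rel 8), .node 585 1, .node 585 3, .derive 681 [.bwd 0, .bwd 150, .fwd 312, .bwd 330, .fwd 331, .bwd 422, .bwd 265, .fwd 102] [2] (.rel 28), .node 586 2, .derive 682 [.bwd 0, .bwd 150, .fwd 314, .bwd 332, .fwd 333, .bwd 424, .bwd 267, .fwd 104, .bwd 1, .bwd 2, .fwd 151, .bwd 173, .fwd 174, .bwd 265, .bwd 105] [3] (.rel 10),
  .node 587 0, .node 587 2, .derive 684 [.bwd 0, .bwd 151, .fwd 314, .fwd 310, .fwd 147] [1] (.rel 7), .node 587 3, .derive 685 [.bwd 0, .bwd 153, .fwd 152] [1] (.rel 9), .node 589 1, .derive 686 [.bwd 0, .bwd 153, .fwd 316, .fwd 315, .fwd 152] [2] (.rel 6), .node 592 0,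
  .node 592 2, .node 594 2, .node 595 1, .derive 690 [.bwd 0, .bwd 81, .fwd 82] [3] (.rel 8), .node 597 1, .derive 691 [.bwd 0, .bwd 149, .fwd 314, .fwd 313, .fwd 148] [2] (.rel 6), .node 598 0, .node 600 1,
  .derive 693 [.bwd 0, .fwd 146, .fwd 10] [3] (.rel 8), .node 602 1, .derive 694 [.bwd 0, .bwd 144, .fwd 309, .fwd 308, .fwd 143] [2] (.rel 6), .node 604 3]
def ph1_9 : List Aux := [
  .derive 695 [.bwd 0, .bwd 144, .fwd 308, .fwd 456, .bwd 546, .fwd 410, .fwd 237, .fwd 84] [2] (.rel 28), .node 605 2, .derive 696 [.bwd 0, .bwd 144, .fwd 310, .fwd 458, .bwd 548, .fwd 412, .fwd 239, .fwd 86, .bwd 1, .bwd 2, .fwd 145, .fwd 307, .bwd 413, .fwd 241, .fwd 87] [3] (.rel 10), .node 606 0, .derive 697 [.bwd 0, .fwd 143, .fwd 99] [3] (.rel 4), .node 607 2, .derive 698 [.bwd 0, .fwd 143, .fwd 308, .bwd 147, .fwd 4] [1] (.rel 7), .node 608 2,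
  .derive 699 [.bwd 0, .bwd 144, .bwd 309, .fwd 460, .bwd 583, .bwd 444, .fwd 284, .fwd 122] [3] (.rel 27), .node 609 1, .derive 700 [.bwd 0, .bwd 145, .fwd 308, .fwd 307, .fwd 144] [2] (.rel 6), .node 609 3, .node 611 2, .derive 702 [.bwd 0, .bwd 145, .fwd 143] [0] (.rel 3), .node 612 3, .node 613 1,
  .derive 704 [.bwd 0, .bwd 145, .fwd 309, .fwd 301, .fwd 138] [2] (.rel 6), .node 614 1, .node 616 0, .derive 706 [.bwd 0, .bwd 143, .bwd 306, .bwd 465, .fwd 600, .fwd 573, .fwd 437, .fwd 266, .fwd 114] [1] (.rel 0), .derive 706 [.bwd 1, .fwd 143, .fwd 32] [3] (.rel 4), .node 616 2, .node 617 0, .node 617 3,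
  .node 620 1, .node 621 2, .derive 711 [.bwd 0, .bwd 142, .fwd 303, .fwd 301, .fwd 139] [1] (.rel 7), .node 621 3, .derive 712 [.bwd 0, .bwd 144, .fwd 143] [1] (.rel 9), .node 624 3, .node 625 2, .node 628 2,
  .derive 715 [.bwd 0, .fwd 137, .fwd 296, .bwd 202, .fwd 53] [1] (.rel 7), .derive 705 [.bwd 15, .bwd 53, .bwd 0] [3] (.rel 8), .node 629 3, .node 630 2, .derive 717 [.bwd 0, .fwd 137, .fwd 110] [0] (.rel 3), .node 630 3, .derive 718 [.bwd 0, .bwd 140, .fwd 138] [1] (.rel 9), .node 633 1,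
  .derive 719 [.bwd 0, .bwd 138, .bwd 296, .fwd 462, .fwd 595, .bwd 584, .bwd 449, .bwd 278, .bwd 126] [0] (.rel 1), .derive 638 [.bwd 130, .fwd 128, .bwd 0] [3] (.rel 4), .node 638 2, .derive 720 [.bwd 0, .bwd 132, .fwd 131] [0] (.rel 3), .node 640 2, .node 641 1, .derive 722 [.bwd 0, .bwd 43, .bwd 39] [3] (.rel 8), .node 643 1,
  .derive 723 [.bwd 0, .bwd 131, .fwd 283, .fwd 282, .fwd 130] [2] (.rel 6), .node 645 2, .node 646 3, .derive 725 [.bwd 0, .fwd 130, .fwd 122] [1] (.rel 9), .node 647 2, .derive 726 [.bwd 0, .bwd 131, .fwd 280, .fwd 277, .fwd 127] [1] (.rel 7), .node 647 3, .derive 727 [.bwd 0, .bwd 133, .fwd 132] [1] (.rel 9),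
  .node 649 3, .node 650 0, .node 651 3, .node 652 3, .derive 731 [.bwd 0, .fwd 132, .bwd 281, .bwd 454, .bwd 457, .fwd 286, .fwd 136, .fwd 3] [2] (.rel 28), .node 654 3, .derive 732 [.bwd 0, .bwd 128, .bwd 101] [0] (.rel 5), .derive 732 [.bwd 1, .bwd 133, .fwd 132] [1] (.rel 9),
  .derive 673 [.bwd 100, .bwd 252, .bwd 255, .bwd 132, .bwd 0] [2] (.rel 6), .node 657 3, .derive 733 [.bwd 0, .fwd 130, .fwd 129] [0] (.rel 5), .derive 733 [.bwd 1, .fwd 131, .bwd 282, .bwd 447, .bwd 591, .fwd 447, .fwd 282, .fwd 130] [2] (.rel 28), .node 659 2, .derive 734 [.bwd 0, .fwd 129, .fwd 127] [0] (.rel 3), .node 660 3, .node 661 1,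
  .derive 736 [.bwd 0, .bwd 130, .fwd 281, .fwd 262, .fwd 110] [2] (.rel 6), .node 661 3, .derive 737 [.bwd 0, .bwd 4, .bwd 5, .bwd 135, .bwd 287, .fwd 285, .fwd 133, .fwd 3] [2] (.rel 28), .node 662 2, .derive 738 [.bwd 0, .bwd 133, .bwd 284, .bwd 448, .fwd 450, .fwd 286, .fwd 134, .fwd 2, .fwd 1, .bwd 5, .bwd 135, .bwd 287, .fwd 289, .fwd 137, .fwd 7] [3] (.rel 10), .node 663 3, .derive 739 [.bwd 0, .bwd 134, .fwd 132] [1] (.rel 9), .node 664 2,
  .derive 740 [.bwd 0, .fwd 133, .fwd 131] [0] (.rel 3), .node 665 3, .node 666 1, .derive 742 [.bwd 0, .bwd 134, .fwd 286, .fwd 200, .fwd 58] [2] (.rel 6), .node 666 3, .derive 743 [.bwd 0, .bwd 4, .bwd 5, .bwd 139, .bwd 292, .fwd 290, .fwd 137, .fwd 3] [2] (.rel 28), .node 667 2, .derive 744 [.bwd 0, .bwd 137, .bwd 289, .bwd 449, .fwd 451, .fwd 291, .fwd 138, .fwd 2, .fwd 1, .bwd 5, .bwd 139, .bwd 292, .fwd 294, .fwd 141, .fwd 7] [3] (.rel 10),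
  .node 668 1, .derive 745 [.bwd 0, .fwd 136, .fwd 64] [3] (.rel 8), .node 671 2, .derive 746 [.bwd 0, .bwd 28, .bwd 26] [0] (.rel 3), .derive 746 [.bwd 1, .bwd 132, .fwd 287, .fwd 256, .fwd 103] [1] (.rel 7), .derive 729 [.bwd 35, .bwd 128, .bwd 1] [3] (.rel 4), .node 674 3, .derive 747 [.bwd 0, .bwd 129, .fwd 128] [0] (.rel 5),
  .derive 747 [.bwd 1, .bwd 130, .fwd 279, .bwd 137, .fwd 138, .fwd 205, .bwd 109, .bwd 99] [2] (.rel 28), .node 675 2, .derive 748 [.bwd 0, .bwd 2, .fwd 1] [0] (.rel 3), .derive 748 [.bwd 1, .fwd 131, .fwd 280, .bwd 210, .fwd 68] [1] (.rel 7)]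
def ph1_10 : List Aux := [
  .node 676 1, .node 677 2, .derive 750 [.bwd 0, .fwd 131, .fwd 129] [0] (.rel 3), .derive 692 [.bwd 108, .fwd 128, .bwd 0] [3] (.rel 4), .node 678 2, .node 680 0, .derive 752 [.bwd 0, .bwd 130, .bwd 279, .bwd 442, .fwd 586, .fwd 585, .fwd 439, .fwd 275, .fwd 125] [1] (.rel 0), .node 683 2,
  .derive 753 [.bwd 0, .bwd 127, .fwd 126] [0] (.rel 3), .node 685 2, .derive 754 [.bwd 0, .fwd 125, .bwd 257, .bwd 172, .bwd 42] [1] (.rel 7), .node 686 0, .derive 755 [.bwd 0, .bwd 115, .bwd 13] [3] (.rel 4), .node 687 2, .derive 756 [.bwd 0, .bwd 126, .fwd 125] [0] (.rel 3), .node 688 3,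
  .derive 757 [.bwd 0, .bwd 23, .bwd 22] [1] (.rel 9), .node 689 1, .derive 758 [.bwd 0, .bwd 128, .fwd 277, .fwd 276, .fwd 127] [2] (.rel 6), .node 691 0, .derive 759 [.bwd 0, .fwd 126, .fwd 125] [2] (.rel 2), .derive 759 [.bwd 1, .fwd 127, .fwd 146, .bwd 148, .bwd 299, .fwd 300, .fwd 149, .fwd 16] [3] (.rel 29), .node 700 3, .derive 760 [.bwd 0, .bwd 113, .fwd 111] [1] (.rel 9),
  .node 702 1, .derive 761 [.bwd 0, .bwd 112, .fwd 256, .fwd 156, .fwd 24] [2] (.rel 6), .node 702 3, .derive 762 [.bwd 0, .fwd 113, .fwd 112] [0] (.rel 5), .node 704 0, .derive 763 [.bwd 0, .bwd 113, .fwd 257, .bwd 419, .bwd 374, .bwd 290, .fwd 291, .bwd 146, .bwd 20] [1] (.rel 0), .derive 763 [.bwd 1, .fwd 113, .fwd 107] [2] (.rel 2), .node 705 2,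
  .derive 764 [.bwd 0, .bwd 114, .fwd 258, .fwd 256, .fwd 110] [1] (.rel 7), .derive 764 [.bwd 1, .fwd 99, .bwd 101, .bwd 239, .fwd 241, .fwd 240, .fwd 214, .fwd 83] [3] (.rel 25), .node 707 3, .derive 765 [.bwd 0, .bwd 2, .fwd 1] [1] (.rel 9), .node 708 1, .derive 766 [.bwd 0, .bwd 6, .fwd 7, .bwd 29, .bwd 30] [2] (.rel 6), .node 708 3, .derive 767 [.bwd 0, .bwd 116, .fwd 115] [0] (.rel 5),
  .node 711 3, .derive 768 [.bwd 0, .fwd 114, .fwd 111] [1] (.rel 9), .node 714 3, .derive 769 [.bwd 0, .bwd 43, .bwd 30] [1] (.rel 9), .node 716 2, .derive 770 [.bwd 0, .bwd 110, .bwd 249, .fwd 407, .fwd 405, .fwd 244, .bwd 153, .bwd 26] [3] (.rel 27), .node 717 3, .derive 771 [.bwd 0, .fwd 110, .fwd 88] [0] (.rel 5),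
  .node 719 2, .derive 772 [.bwd 0, .fwd 108, .fwd 104] [0] (.rel 3), .node 721 1, .derive 773 [.bwd 0, .bwd 106, .fwd 237, .fwd 236, .fwd 105] [2] (.rel 6), .derive 773 [.fwd 0, .fwd 105, .bwd 146, .bwd 290, .bwd 424, .fwd 264, .fwd 121, .fwd 9] [0] (.rel 21), .derive 754 [.fwd 42, .fwd 86, .fwd 215, .fwd 301, .fwd 167, .fwd 41, .bwd 9, .bwd 0, .bwd 2, .bwd 3] [] (.rel 1), .derive 772 [.bwd 0] [] (.free), .derive 754 [.bwd 0, .bwd 6] [2] (.free),
  .derive 685 [.fwd 46, .fwd 0] [] (.free), .derive 719 [.bwd 0] [] (.free), .derive 685 [.bwd 0, .bwd 116] [3] (.free), .derive 587 [.fwd 175, .fwd 0] [] (.free), .derive 638 [.bwd 0] [] (.free), .derive 587 [.bwd 0, .fwd 118] [2] (.free), .derive 684 [.bwd 180, .fwd 0] [] (.free), .derive 720 [.bwd 0] [] (.free),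
  .derive 684 [.bwd 0, .fwd 120] [0] (.free), .derive 753 [.fwd 56, .fwd 0] [] (.free), .derive 753 [.fwd 0] [] (.free), .derive 639 [.bwd 0, .bwd 59] [2] (.free), .derive 544 [.fwd 256, .fwd 0] [] (.free), .derive 683 [.bwd 0] [] (.free), .derive 544 [.bwd 0, .bwd 63] [1] (.free), .derive 440 [.fwd 411, .fwd 0] [] (.free),
  .derive 752 [.bwd 0] [] (.free), .derive 440 [.bwd 0, .bwd 35] [2] (.free), .derive 436 [.bwd 585, .fwd 0] [] (.free), .derive 766 [.bwd 0] [] (.free), .derive 436 [.bwd 0, .bwd 39] [1] (.free), .derive 540 [.bwd 424, .fwd 0] [] (.free), .derive 708 [.bwd 0] [] (.free), .derive 540 [.bwd 0, .fwd 40] [3] (.free),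
  .derive 606 [.fwd 319, .fwd 0] [] (.free), .derive 767 [.bwd 0] [] (.free), .derive 606 [.bwd 0, .fwd 42] [0] (.free), .derive 697 [.bwd 179, .fwd 0] [] (.free), .derive 709 [.bwd 0] [] (.free), .derive 697 [.bwd 0, .bwd 161] [3] (.free), .derive 635 [.bwd 181, .fwd 0] [] (.free), .derive 635 [.fwd 0] [] (.free),
  .derive 617 [.bwd 0, .bwd 168] [1] (.free), .derive 518 [.fwd 311, .fwd 0] [] (.free), .derive 706 [.bwd 0] [] (.free), .derive 518 [.bwd 0, .fwd 170] [3] (.free), .derive 618 [.bwd 313, .fwd 0] [] (.free), .derive 687 [.bwd 0] [] (.free), .derive 618 [.bwd 0, .fwd 80] [2] (.free), .derive 669 [.fwd 239, .fwd 0] [] (.free),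
  .derive 756 [.bwd 0] [] (.free), .derive 669 [.bwd 0, .fwd 82] [0] (.free), .derive 620 [.bwd 243, .fwd 0] [] (.free), .derive 688 [.bwd 0] [] (.free)]
def ph1_11 : List Aux := [
  .derive 620 [.bwd 0, .fwd 84] [3] (.free), .derive 668 [.fwd 248, .fwd 0] [] (.free), .derive 757 [.bwd 0] [] (.free), .derive 668 [.bwd 0, .fwd 86] [1] (.free), .derive 745 [.bwd 115, .fwd 0] [] (.free), .derive 745 [.fwd 0] [] (.free), .derive 729 [.bwd 0, .fwd 116] [3] (.free), .derive 746 [.bwd 113, .fwd 0] [] (.free),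
  .derive 746 [.fwd 0] [] (.free), .derive 710 [.bwd 0, .bwd 118] [2] (.free), .derive 742 [.fwd 126, .fwd 0] [] (.free), .derive 742 [.fwd 0] [] (.free), .derive 671 [.bwd 0, .bwd 129] [1] (.free), .derive 573 [.fwd 253, .fwd 0] [] (.free), .derive 666 [.bwd 0] [] (.free), .derive 573 [.bwd 0, .fwd 130] [3] (.free),
  .derive 559 [.bwd 410, .fwd 0] [] (.free), .derive 743 [.bwd 0] [] (.free), .derive 559 [.bwd 0, .fwd 132] [2] (.free), .derive 585 [.fwd 391, .fwd 0] [] (.free), .derive 741 [.bwd 0] [] (.free), .derive 585 [.bwd 0, .bwd 139] [3] (.free), .derive 681 [.bwd 245, .fwd 0] [] (.free), .derive 681 [.fwd 0] [] (.free),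
  .derive 665 [.bwd 0, .fwd 246] [2] (.free), .derive 567 [.fwd 277, .fwd 0] [] (.free), .derive 615 [.bwd 0] [] (.free), .derive 567 [.bwd 0, .bwd 352] [3] (.free), .derive 467 [.fwd 433, .fwd 0] [] (.free), .derive 516 [.bwd 0] [] (.free), .derive 467 [.bwd 0, .fwd 518] [2] (.free), .derive 566 [.bwd 438, .fwd 0] [] (.free),
  .derive 566 [.fwd 0] [] (.free), .derive 418 [.bwd 0, .fwd 287] [3] (.free), .derive 397 [.bwd 679, .fwd 0] [] (.free), .derive 664 [.bwd 0] [] (.free), .derive 397 [.bwd 0, .fwd 156] [2] (.free), .derive 474 [.fwd 591, .fwd 0] [] (.free), .derive 740 [.bwd 0] [] (.free), .derive 474 [.bwd 0, .bwd 151] [3] (.free),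
  .derive 458 [.bwd 593, .fwd 0] [] (.free), .derive 744 [.bwd 0] [] (.free), .derive 458 [.bwd 0, .bwd 155] [2] (.free), .derive 486 [.fwd 578, .fwd 0] [] (.free), .derive 667 [.bwd 0] [] (.free), .derive 486 [.bwd 0, .bwd 295] [3] (.free), .derive 586 [.bwd 417, .fwd 0] [] (.free), .derive 586 [.fwd 0] [] (.free),
  .derive 569 [.bwd 0, .fwd 269] [2] (.free), .derive 469 [.fwd 451, .fwd 0] [] (.free), .derive 682 [.bwd 0] [] (.free), .derive 469 [.bwd 0, .fwd 271] [3] (.free), .derive 373 [.fwd 614, .fwd 0] [] (.free), .derive 614 [.bwd 0] [] (.free), .derive 373 [.bwd 0, .fwd 380] [2] (.free), .derive 468 [.bwd 619, .fwd 0] [] (.free),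
  .derive 517 [.bwd 0] [] (.free), .derive 468 [.bwd 0, .fwd 543] [3] (.free), .derive 568 [.bwd 462, .fwd 0] [] (.free), .derive 568 [.fwd 0] [] (.free), .derive 492 [.bwd 0, .fwd 463] [1] (.free), .derive 592 [.bwd 425, .fwd 0] [] (.free), .derive 592 [.fwd 0] [] (.free), .derive 520 [.bwd 0, .bwd 386] [3] (.free),
  .derive 420 [.fwd 546, .fwd 0] [] (.free), .derive 616 [.bwd 0] [] (.free), .derive 420 [.bwd 0, .fwd 244] [2] (.free), .derive 330 [.fwd 710, .fwd 0] [] (.free), .derive 707 [.bwd 0] [] (.free), .derive 330 [.bwd 0, .fwd 134] [3] (.free), .derive 421 [.bwd 712, .fwd 0] [] (.free), .derive 765 [.bwd 0] [] (.free),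
  .derive 421 [.bwd 0, .fwd 136] [1] (.free), .derive 331 [.bwd 714, .fwd 0] [] (.free), .derive 724 [.bwd 0] [] (.free), .derive 331 [.bwd 0, .bwd 141] [3] (.free), .derive 250 [.fwd 854, .fwd 0] [] (.free), .derive 764 [.bwd 0] [] (.free), .derive 250 [.bwd 0, .bwd 146] [2] (.free), .derive 285 [.fwd 933, .fwd 0] [] (.free),
  .derive 705 [.bwd 0] [] (.free), .derive 285 [.bwd 0, .fwd 247] [3] (.free), .derive 374 [.bwd 796, .fwd 0] [] (.free), .derive 715 [.bwd 0] [] (.free), .derive 374 [.bwd 0, .bwd 252] [2] (.free), .derive 375 [.fwd 796, .fwd 0] [] (.free), .derive 628 [.bwd 0] [] (.free), .derive 375 [.bwd 0, .bwd 393] [3] (.free),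
  .derive 334 [.bwd 798, .fwd 0] [] (.free), .derive 529 [.bwd 0] [] (.free), .derive 334 [.bwd 0, .fwd 556] [2] (.free), .derive 424 [.fwd 725, .fwd 0] [] (.free), .derive 446 [.bwd 0] [] (.free), .derive 424 [.bwd 0, .fwd 523] [3] (.free), .derive 332 [.fwd 729, .fwd 0] [] (.free), .derive 551 [.bwd 0] [] (.free),
  .derive 332 [.bwd 0, .fwd 376] [2] (.free), .derive 251 [.fwd 874, .fwd 0] [] (.free), .derive 646 [.bwd 0] [] (.free), .derive 251 [.bwd 0, .fwd 248] [3] (.free)]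
def ph1_12 : List Aux := [
  .derive 181 [.fwd 1011, .fwd 0] [] (.free), .derive 725 [.bwd 0] [] (.free), .derive 181 [.bwd 0, .fwd 250] [1] (.free), .derive 124 [.fwd 1124, .fwd 0] [] (.free), .derive 653 [.bwd 0] [] (.free), .derive 124 [.bwd 0, .bwd 376] [3] (.free), .derive 182 [.bwd 1126, .fwd 0] [] (.free), .derive 557 [.bwd 0] [] (.free),
  .derive 182 [.bwd 0, .bwd 529] [2] (.free), .derive 252 [.bwd 1018, .fwd 0] [] (.free), .derive 451 [.bwd 0] [] (.free), .derive 252 [.bwd 0, .bwd 705] [3] (.free), .derive 245 [.bwd 1020, .fwd 0] [] (.free), .derive 356 [.bwd 0] [] (.free), .derive 245 [.bwd 0, .bwd 711] [2] (.free), .derive 178 [.fwd 1035, .fwd 0] [] (.free),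
  .derive 448 [.bwd 0] [] (.free), .derive 178 [.bwd 0, .fwd 543] [3] (.free), .derive 121 [.fwd 1145, .fwd 0] [] (.free), .derive 553 [.bwd 0] [] (.free), .derive 121 [.bwd 0, .fwd 396] [2] (.free), .derive 119 [.edge 2, .fwd 0] [] (.free), .derive 649 [.bwd 0] [] (.free), .derive 119 [.bwd 0, .fwd 266] [3] (.free),
  .derive 122 [.edge 3, .fwd 0] [] (.free), .derive 728 [.bwd 0] [] (.free), .derive 122 [.bwd 0, .bwd 265] [2] (.free), .derive 179 [.bwd 1152, .fwd 0] [] (.free), .derive 731 [.bwd 0] [] (.free), .derive 179 [.bwd 0, .bwd 269] [3] (.free), .derive 247 [.bwd 1047, .fwd 0] [] (.free), .derive 652 [.bwd 0] [] (.free),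
  .derive 247 [.bwd 0, .bwd 405] [2] (.free), .derive 307 [.fwd 949, .fwd 0] [] (.free), .derive 556 [.bwd 0] [] (.free), .derive 307 [.bwd 0, .bwd 558] [3] (.free), .derive 230 [.fwd 953, .fwd 0] [] (.free), .derive 450 [.bwd 0] [] (.free), .derive 230 [.bwd 0, .bwd 565] [2] (.free), .derive 166 [.fwd 1083, .fwd 0] [] (.free),
  .derive 552 [.bwd 0] [] (.free), .derive 166 [.bwd 0, .fwd 418] [3] (.free), .derive 108 [.fwd 1188, .fwd 0] [] (.free), .derive 648 [.bwd 0] [] (.free), .derive 108 [.bwd 0, .bwd 288] [1] (.free), .derive 106 [.edge 1, .fwd 0] [] (.free), .derive 727 [.bwd 0] [] (.free), .derive 106 [.bwd 0, .bwd 292] [3] (.free),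
  .derive 164 [.bwd 1198, .fwd 0] [] (.free), .derive 647 [.bwd 0] [] (.free), .derive 164 [.bwd 0, .fwd 297] [2] (.free), .derive 228 [.bwd 1098, .fwd 0] [] (.free), .derive 726 [.bwd 0] [] (.free), .derive 228 [.bwd 0, .fwd 299] [1] (.free), .derive 302 [.bwd 980, .fwd 0] [] (.free), .derive 651 [.bwd 0] [] (.free),
  .derive 302 [.bwd 0, .fwd 297] [3] (.free), .derive 389 [.bwd 846, .fwd 0] [] (.free), .derive 730 [.bwd 0] [] (.free), .derive 389 [.bwd 0, .bwd 211] [0] (.free), .derive 480 [.fwd 703, .fwd 0] [] (.free), .derive 771 [.bwd 0] [] (.free), .derive 480 [.bwd 0, .bwd 215] [3] (.free), .derive 388 [.fwd 707, .fwd 0] [] (.free),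
  .derive 717 [.bwd 0] [] (.free), .derive 388 [.bwd 0, .bwd 329] [2] (.free), .derive 392 [.fwd 848, .fwd 0] [] (.free), .derive 630 [.bwd 0] [] (.free), .derive 392 [.bwd 0, .fwd 330] [3] (.free), .derive 485 [.bwd 706, .fwd 0] [] (.free), .derive 718 [.bwd 0] [] (.free), .derive 485 [.bwd 0, .fwd 332] [1] (.free),
  .derive 583 [.fwd 549, .fwd 0] [] (.free), .derive 631 [.bwd 0] [] (.free), .derive 583 [.bwd 0, .bwd 474] [3] (.free), .derive 484 [.fwd 553, .fwd 0] [] (.free), .derive 532 [.bwd 0] [] (.free), .derive 484 [.bwd 0, .bwd 480] [2] (.free), .derive 582 [.bwd 557, .fwd 0] [] (.free), .derive 629 [.bwd 0] [] (.free),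
  .derive 582 [.bwd 0, .fwd 345] [3] (.free), .derive 678 [.bwd 409, .fwd 0] [] (.free), .derive 716 [.bwd 0] [] (.free), .derive 678 [.bwd 0, .fwd 238] [2] (.free), .derive 751 [.bwd 279, .fwd 0] [] (.free), .derive 770 [.bwd 0] [] (.free), .derive 751 [.bwd 0, .fwd 240] [3] (.free), .derive 759 [.fwd 265, .fwd 0] [] (.free),
  .derive 759 [.fwd 0] [] (.free), .derive 758 [.bwd 0, .fwd 268] [2] (.free), .derive 690 [.bwd 271, .fwd 0] [] (.free), .derive 692 [.bwd 0] [] (.free), .derive 690 [.bwd 0, .fwd 288] [3] (.free), .derive 632 [.bwd 401, .fwd 0] [] (.free), .derive 750 [.bwd 0] [] (.free), .derive 632 [.bwd 0, .bwd 293] [2] (.free),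
  .derive 533 [.fwd 495, .fwd 0] [] (.free), .derive 677 [.bwd 0] [] (.free), .derive 533 [.bwd 0, .bwd 428] [3] (.free), .derive 431 [.fwd 659, .fwd 0] [] (.free)]
def ph1_13 : List Aux := [
  .derive 581 [.bwd 0] [] (.free), .derive 431 [.bwd 0, .fwd 432] [2] (.free), .derive 531 [.fwd 664, .fwd 0] [] (.free), .derive 676 [.bwd 0] [] (.free), .derive 531 [.bwd 0, .fwd 303] [1] (.free), .derive 430 [.fwd 668, .fwd 0] [] (.free), .derive 749 [.bwd 0] [] (.free), .derive 430 [.bwd 0, .bwd 281] [2] (.free),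
  .derive 340 [.fwd 835, .fwd 0] [] (.free), .derive 761 [.bwd 0] [] (.free), .derive 340 [.bwd 0, .bwd 285] [1] (.free), .derive 257 [.fwd 974, .fwd 0] [] (.free), .derive 702 [.bwd 0] [] (.free), .derive 257 [.bwd 0, .fwd 286] [3] (.free), .derive 342 [.bwd 974, .fwd 0] [] (.free), .derive 762 [.bwd 0] [] (.free),
  .derive 342 [.bwd 0, .fwd 288] [0] (.free), .derive 259 [.bwd 976, .fwd 0] [] (.free), .derive 703 [.bwd 0] [] (.free), .derive 259 [.bwd 0, .bwd 404] [3] (.free), .derive 187 [.fwd 1118, .fwd 0] [] (.free), .derive 612 [.bwd 0] [] (.free), .derive 187 [.bwd 0, .bwd 552] [2] (.free), .derive 258 [.bwd 1123, .fwd 0] [] (.free),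
  .derive 512 [.bwd 0] [] (.free), .derive 258 [.bwd 0, .bwd 699] [3] (.free), .derive 343 [.bwd 984, .fwd 0] [] (.free), .derive 524 [.bwd 0] [] (.free), .derive 343 [.bwd 0, .fwd 541] [2] (.free), .derive 434 [.bwd 850, .fwd 0] [] (.free), .derive 624 [.bwd 0] [] (.free), .derive 434 [.bwd 0, .fwd 401] [3] (.free),
  .derive 538 [.bwd 684, .fwd 0] [] (.free), .derive 713 [.bwd 0] [] (.free), .derive 538 [.bwd 0, .bwd 292] [1] (.free), .derive 634 [.fwd 531, .fwd 0] [] (.free), .derive 768 [.bwd 0] [] (.free), .derive 634 [.bwd 0, .bwd 296] [3] (.free), .derive 537 [.fwd 535, .fwd 0] [] (.free), .derive 711 [.bwd 0] [] (.free),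
  .derive 537 [.bwd 0, .bwd 414] [2] (.free), .derive 452 [.bwd 694, .fwd 0] [] (.free), .derive 621 [.bwd 0] [] (.free), .derive 452 [.bwd 0, .fwd 415] [3] (.free), .derive 549 [.fwd 676, .fwd 0] [] (.free), .derive 712 [.bwd 0] [] (.free), .derive 549 [.bwd 0, .fwd 417] [1] (.free), .derive 445 [.fwd 680, .fwd 0] [] (.free),
  .derive 622 [.bwd 0] [] (.free), .derive 445 [.bwd 0, .bwd 564] [3] (.free), .derive 358 [.bwd 852, .fwd 0] [] (.free), .derive 522 [.bwd 0] [] (.free), .derive 358 [.bwd 0, .fwd 729] [2] (.free), .derive 269 [.fwd 989, .fwd 0] [] (.free), .derive 425 [.bwd 0] [] (.free), .derive 269 [.bwd 0, .fwd 887] [3] (.free),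
  .derive 195 [.fwd 1139, .fwd 0] [] (.free), .derive 414 [.bwd 0] [] (.free), .derive 195 [.bwd 0, .bwd 758] [2] (.free), .derive 134 [.fwd 1260, .fwd 0] [] (.free), .derive 509 [.bwd 0] [] (.free), .derive 134 [.bwd 0, .fwd 597] [3] (.free), .derive 133 [.edge 3, .fwd 0] [] (.free), .derive 608 [.bwd 0] [] (.free),
  .derive 133 [.bwd 0, .fwd 456] [2] (.free), .derive 193 [.bwd 1269, .fwd 0] [] (.free), .derive 699 [.bwd 0] [] (.free), .derive 193 [.bwd 0, .fwd 458] [3] (.free), .derive 266 [.bwd 1156, .fwd 0] [] (.free), .derive 623 [.bwd 0] [] (.free), .derive 266 [.bwd 0, .bwd 584] [2] (.free), .derive 354 [.bwd 1011, .fwd 0] [] (.free),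
  .derive 523 [.bwd 0] [] (.free), .derive 354 [.bwd 0, .bwd 749] [3] (.free), .derive 447 [.bwd 874, .fwd 0] [] (.free), .derive 447 [.fwd 0] [] (.free), .derive 423 [.bwd 0, .fwd 875] [2] (.free), .derive 333 [.bwd 913, .fwd 0] [] (.free), .derive 357 [.bwd 0] [] (.free), .derive 333 [.bwd 0, .bwd 1016] [3] (.free),
  .derive 325 [.bwd 1055, .fwd 0] [] (.free), .derive 325 [.fwd 0] [] (.free), .derive 268 [.bwd 0, .bwd 934] [2] (.free), .derive 194 [.fwd 1168, .fwd 0] [] (.free), .derive 412 [.bwd 0] [] (.free), .derive 194 [.bwd 0, .fwd 784] [3] (.free), .derive 192 [.bwd 1288, .fwd 0] [] (.free), .derive 510 [.bwd 0] [] (.free),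
  .derive 192 [.bwd 0, .fwd 623] [2] (.free), .derive 265 [.bwd 1179, .fwd 0] [] (.free), .derive 609 [.bwd 0] [] (.free), .derive 265 [.bwd 0, .fwd 479] [3] (.free), .derive 353 [.bwd 1033, .fwd 0] [] (.free), .derive 701 [.bwd 0] [] (.free), .derive 353 [.bwd 0, .bwd 370] [1] (.free), .derive 444 [.fwd 899, .fwd 0] [] (.free),
  .derive 760 [.bwd 0] [] (.free), .derive 444 [.bwd 0, .bwd 374] [3] (.free), .derive 352 [.fwd 903, .fwd 0] [] (.free), .derive 700 [.bwd 0] [] (.free)]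
def ph1_14 : List Aux := [
  .derive 352 [.bwd 0, .fwd 489] [2] (.free), .derive 442 [.fwd 908, .fwd 0] [] (.free), .derive 610 [.bwd 0] [] (.free), .derive 442 [.bwd 0, .fwd 636] [3] (.free), .derive 547 [.bwd 740, .fwd 0] [] (.free), .derive 603 [.bwd 0] [] (.free), .derive 547 [.bwd 0, .bwd 507] [2] (.free), .derive 643 [.bwd 590, .fwd 0] [] (.free),
  .derive 694 [.bwd 0] [] (.free), .derive 643 [.bwd 0, .bwd 511] [1] (.free), .derive 723 [.bwd 462, .fwd 0] [] (.free), .derive 723 [.fwd 0] [] (.free), .derive 602 [.bwd 0, .fwd 463] [2] (.free), .derive 502 [.fwd 659, .fwd 0] [] (.free), .derive 644 [.bwd 0] [] (.free), .derive 502 [.bwd 0, .bwd 552] [3] (.free),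
  .derive 407 [.fwd 828, .fwd 0] [] (.free), .derive 672 [.bwd 0] [] (.free), .derive 407 [.bwd 0, .bwd 445] [2] (.free), .derive 481 [.fwd 860, .fwd 0] [] (.free), .derive 736 [.bwd 0] [] (.free), .derive 481 [.bwd 0, .bwd 449] [1] (.free), .derive 390 [.fwd 864, .fwd 0] [] (.free), .derive 661 [.bwd 0] [] (.free),
  .derive 390 [.bwd 0, .fwd 450] [3] (.free), .derive 482 [.bwd 865, .fwd 0] [] (.free), .derive 737 [.bwd 0] [] (.free), .derive 482 [.bwd 0, .fwd 452] [2] (.free), .derive 578 [.bwd 714, .fwd 0] [] (.free), .derive 735 [.bwd 0] [] (.free), .derive 578 [.bwd 0, .bwd 459] [3] (.free), .derive 527 [.bwd 716, .fwd 0] [] (.free),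
  .derive 660 [.bwd 0] [] (.free), .derive 527 [.bwd 0, .bwd 592] [2] (.free), .derive 427 [.fwd 804, .fwd 0] [] (.free), .derive 563 [.bwd 0] [] (.free), .derive 427 [.bwd 0, .bwd 747] [3] (.free), .derive 337 [.fwd 967, .fwd 0] [] (.free), .derive 462 [.bwd 0] [] (.free), .derive 337 [.bwd 0, .fwd 752] [2] (.free),
  .derive 254 [.fwd 1108, .fwd 0] [] (.free), .derive 562 [.bwd 0] [] (.free), .derive 254 [.bwd 0, .fwd 603] [3] (.free), .derive 229 [.bwd 1248, .fwd 0] [] (.free), .derive 659 [.bwd 0] [] (.free), .derive 229 [.bwd 0, .fwd 476] [2] (.free), .derive 305 [.bwd 1167, .fwd 0] [] (.free), .derive 734 [.bwd 0] [] (.free),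
  .derive 305 [.bwd 0, .bwd 471] [3] (.free), .derive 391 [.bwd 1034, .fwd 0] [] (.free), .derive 738 [.bwd 0] [] (.free), .derive 391 [.bwd 0, .bwd 475] [2] (.free), .derive 483 [.bwd 891, .fwd 0] [] (.free), .derive 662 [.bwd 0] [] (.free), .derive 483 [.bwd 0, .bwd 611] [3] (.free), .derive 580 [.bwd 737, .fwd 0] [] (.free),
  .derive 580 [.fwd 0] [] (.free), .derive 565 [.bwd 0, .fwd 738] [2] (.free), .derive 464 [.fwd 766, .fwd 0] [] (.free), .derive 526 [.bwd 0] [] (.free), .derive 464 [.bwd 0, .bwd 831] [3] (.free), .derive 370 [.fwd 933, .fwd 0] [] (.free), .derive 426 [.bwd 0] [] (.free), .derive 370 [.bwd 0, .bwd 994] [2] (.free),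
  .derive 463 [.bwd 938, .fwd 0] [] (.free), .derive 463 [.fwd 0] [] (.free), .derive 336 [.bwd 0, .fwd 776] [3] (.free), .derive 304 [.bwd 1136, .fwd 0] [] (.free), .derive 564 [.bwd 0] [] (.free), .derive 304 [.bwd 0, .fwd 778] [1] (.free), .derive 243 [.bwd 1192, .fwd 0] [] (.free), .derive 478 [.bwd 0] [] (.free),
  .derive 243 [.bwd 0, .bwd 918] [3] (.free), .derive 323 [.bwd 1164, .fwd 0] [] (.free), .derive 386 [.bwd 0] [] (.free), .derive 323 [.bwd 0, .bwd 1068] [2] (.free), .derive 411 [.bwd 1031, .fwd 0] [] (.free), .derive 411 [.fwd 0] [] (.free), .derive 299 [.bwd 0, .fwd 881] [3] (.free), .derive 300 [.fwd 1208, .fwd 0] [] (.free),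
  .derive 508 [.bwd 0] [] (.free), .derive 300 [.bwd 0, .fwd 883] [2] (.free), .derive 387 [.bwd 1073, .fwd 0] [] (.free), .derive 505 [.bwd 0] [] (.free), .derive 387 [.bwd 0, .bwd 891] [3] (.free), .derive 479 [.bwd 930, .fwd 0] [] (.free), .derive 479 [.fwd 0] [] (.free), .derive 409 [.bwd 0, .fwd 775] [2] (.free),
  .derive 321 [.fwd 1046, .fwd 0] [] (.free), .derive 577 [.bwd 0] [] (.free), .derive 321 [.bwd 0, .fwd 777] [3] (.free), .derive 241 [.fwd 1186, .fwd 0] [] (.free), .derive 554 [.bwd 0] [] (.free), .derive 241 [.bwd 0, .fwd 668] [1] (.free), .derive 176 [.fwd 1320, .fwd 0] [] (.free), .derive 650 [.bwd 0] [] (.free),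
  .derive 176 [.bwd 0, .bwd 631] [3] (.free), .derive 242 [.bwd 1321, .fwd 0] [] (.free), .derive 673 [.bwd 0] [] (.free), .derive 242 [.bwd 0, .fwd 534] [2] (.free)]
def ph1_15 : List Aux := [
  .derive 322 [.bwd 1193, .fwd 0] [] (.free), .derive 732 [.bwd 0] [] (.free), .derive 322 [.bwd 0, .bwd 540] [3] (.free), .derive 260 [.bwd 1195, .fwd 0] [] (.free), .derive 654 [.bwd 0] [] (.free), .derive 260 [.bwd 0, .bwd 660] [2] (.free), .derive 189 [.fwd 1302, .fwd 0] [] (.free), .derive 663 [.bwd 0] [] (.free),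
  .derive 189 [.bwd 0, .fwd 530] [3] (.free), .derive 131 [.fwd 1419, .fwd 0] [] (.free), .derive 739 [.bwd 0] [] (.free), .derive 131 [.bwd 0, .fwd 532, .fwd 375] [1] (.free), .derive 311 [.fwd 1087, .bwd 0] [] (.free), .derive 311 [.fwd 0] [] (.free), .derive 131 [.bwd 0, .bwd 1194] [3] (.free), .derive 189 [.bwd 1425, .fwd 0] [] (.free),
  .derive 329 [.bwd 0] [] (.free), .derive 189 [.bwd 0, .bwd 1199] [2] (.free), .derive 260 [.bwd 1314, .fwd 0] [] (.free), .derive 260 [.fwd 0] [] (.free), .derive 249 [.bwd 0, .bwd 1212] [3] (.free), .derive 180 [.fwd 1335, .fwd 0] [] (.free), .derive 322 [.bwd 0] [] (.free), .derive 180 [.bwd 0, .bwd 1216] [2] (.free),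
  .derive 123 [.fwd 1447, .fwd 0] [] (.free), .derive 242 [.bwd 0] [] (.free), .derive 123 [.bwd 0, .bwd 1350] [3] (.free), .derive 120 [.edge 3, .fwd 0] [] (.free), .derive 176 [.bwd 0] [] (.free), .derive 120 [.fwd 1459, .fwd 0] [2] (.free), .commit 0]
def ph1 : List Aux :=
  ((((ph1_0 ++ ph1_1) ++ (ph1_2 ++ ph1_3)) ++ ((ph1_4 ++ ph1_5) ++ (ph1_6 ++ ph1_7))) ++ (((ph1_8 ++ ph1_9) ++ (ph1_10 ++ ph1_11)) ++ ((ph1_12 ++ ph1_13) ++ (ph1_14 ++ ph1_15))))

def ph2_0 : List ℕ := [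
  462850, 495623, 438273, 389123, 516101, 364544, 393221, 356352,
  274438, 192533, 102421, 106517, 274453, 520192, 544774, 98304,
  217094, 69641, 122886, 282648, 397319, 548865, 401417, 544769,
  393222, 516120, 307202, 213016, 319495, 323584, 319496, 323588,
  512023, 512009, 331783, 331784, 425989, 434186, 512013, 532480,
  548870, 442376, 495620, 507929, 507925, 499740, 503814, 536579,
  540693, 536605, 507904]

/-- known edges at a check point -/
def mask0 : ℕ := 0x224413318441111154627372335c44c776664426a3b331348ec664c44553133ec8d8bb3332ee791773333dce6666ae773336cec62b3362ccacee793aedec577ac7ec772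

theorem treeRun_ok : stIs (runList (treeStep P) tree ⟨1, 0, []⟩) 135 mask0 = true := by decide +kernel

def seg0 : List Phase := [.scans ph0_0, .aux ph1, .scans ph2_0]

theorem seg0_ok : stIs (runList (phaseStep P) seg0 ⟨135, mask0, []⟩) 774 (2 ^ (135 * P.k) - 1) = true := by decide +kernel

/-- the certificate -/
def phases : List Phase :=
  seg0

theorem cert_ok : checkCert P 135 tree phases = true :=
  checkCert_of_run P treeRun_ok (run_last P seg0_ok)

theorem gen0_ok : genOK P 135 0 = true := by decide +kernel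

theorem gen1_ok : genOK P 135 1 = true := by decide +kernel

theorem gen2_ok : genOK P 135 2 = true := by decide +kernel

theorem gen3_ok : genOK P 135 3 = true := by decide +kernel

theorem tab_ok : tableOK P 135 = true := tableOK_of_gens P (by decide +kernel) (by decide +kernel) fun x hx =>
  match x, hx with
  | 0, _ => gen0_ok
  | 1, _ => gen1_ok
  | 2, _ => gen2_ok
  | 3, _ => gen3_ok
  | _ + 4, hx => absurd (show _ + 4 < 4 from hx) (by omega)

theorem rots_ok : rotsOK base rots.entries hints = true := by decide +kernel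

theorem fix_ok : wordsFixBase P sw = true := by decide +kernel

theorem tree_ok : treeOK P tree 0 = true := by decide +kernel

theorem tree_len : tree.length + 1 = 135 := by decide +kernel

end Cfsg.Agent.RigidGraph.Suz.Coset.Abcd
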