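import Cfsg.Agent.Lib.Compute.CosetOrbit

/-! Coset enumeration certificate data (ABCDE). -/

set_option autoImplicit false
set_option maxRecDepth 100000
set_option Elab.async false

namespace Cfsg.Agent.RigidGraph.Suz.Coset.Abcde

open Cfsg.Agent.CosetCert

/-- the coset table -/
def tab : Tab :=
  .leaf 0x11701170113011701170101011501100115011000ff0116010a0116010f01120114011200fb011401130112011700fa011301140113011400f8011200fd00f10105011101080100010f011600df011600fe0110010d00dd0115010d010c00fe00e6010c010e010b010f00e5010a010a010e00ff00e3010e0109010d010b00e10109010c0109011500de010d010b010a010900dc010b00f700f2010400d9011100ed010601070105010700e8010701060103010600eb010301110107010400ea0102010800f6010500d6010500ee0106010200d5010400ec00f50103011600f9010000ff0100011000d3010100e40101011500fc010c010100fe010f00d1010e00e200ff011100cc00eb00fd00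f700f900ff00fb00f900d100f800fb00fc011400c500fa00f800fa011300c400fc010100f800fc00d300fb00fa00f9011200c3010800cd00ea00c000fd00ec00f500d5010400f400d700f600c0010200f300ee00f300d600f400f600d800f400bf00f300f500f0010800e500db00f100ef011100ba00f100f200f200cf00e600d400ef00f100ce00b800ef00f000f400e0010300ee00ec010700e900ed00eb00ed00f600b0010200ea00ee010500a300fd00ed00ea010400a200f700ec00eb00e700ed00e700a300e9010600e700e800d600e800e900e800e900a100e700e500e300f0010e00b800e600e100f2010d00ba00df00d200e3010000a800de00e600e4010c00a900dd00d000d400fe00ac00dc00e500e0010b00af00da00ee00e100e000b000e400dd00de011000a500e300dc00df010a00a600e200df00db010f00a700e100de00da010900aa00d400d900dd00f200ab00e000d800dc00da00ae00c000db00d7010800bc00f300da00bc00d800d700f500ae00d900d500d8010300a100f400e800d5010200a000f600d700d600db009c00e200f000ad00d1010000c300d200f900d0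00e4009700d300b300d300fe00c500d000fc00d200e2009600d100b400cd00f000c9009c00ce00cc00ef009500ce00cf00cf00f700c7009900cc00ce00fd009300cc00cd00ca00c900b300ca009700cb00c800b400cb009600c700cb00cf00c8009500c600ca009e00c9009400c900c600cd00c6009300c800c7009f00c7009200c300c500d1008900fb00c400c300c400c200fa00c500c400d3008700f800c2008700c100c400c100c1008600c200c100c200d9009900f500f700bf00bc008300f300be00c000bb008200be00bf00be00a4008000bd00bd00bd00bf00ab00d800bb00d900be007e00bb00bc00bb00b800af00f100b900e500b7008d00b900ba00b500ba00a900ef00b700e600b9007c00b700b800b600b5007d00b6007d00b700b6008c00b5007a00b900b300ac00ca00b200d000b400a800cb00b100d200b1007700b100b400b100b2007600b200b300b200ae00ec00af00a200e000aa00ba00b0008d00e100b000d700aa00a000da00ab008500ac007f00d400a700b400ad007700e200ad00bc00a7007e00db00af00a600ae007900dc00a600b800a8007c00e300a500b300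a9007600e400ac00a500ab007500dd00a900aa00a5007800de00a800a700a6007400df00bd007200a400a400a400a100eb009d00e900a200a000ea009000b000a300a300d6009a00e700a000a200d5006300ae00a1009e009d00c600980091009f009b00c8009b0067009a009f00a3009a0090009900d4009b00cf00850098009e009c009e0064009d009800a1009d0063009c00c0009800cd0083009b009a0099009f00620096009500d2006100cb0097009400d0006000ca0093009700ce005f00c9009200960067005e00c80095009200cc005c00c7009400930091005b00c6006700900092008f009f0063009100a2008b009d0066008b008e0091008e0065008a008f005a008f007900b9008b00af008c007b00b5008a007b008d0057008f008d0090008a0056008e008c0059008b00870089006000c5008800860088005500880089008900c2006100c30086008800c1005400860087008300ad00640084009c0082007f004b00850084008500bf006200820099008400be004a0083008200800073004900810081008100bd004700800080007e0084007100ad007f007f00bb004400ab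007e007a00b6006f00b6007c007800b7006e00a9007d008c007a0056008c0079007d007b004500b50078008d0078005700aa007b007c0079004300a6007a007500b2006d00ac0076007400b1006c00a8007700770074004200a7007400760075004100a5007500720081007000730073007300a4003f0072007200440070007f006d0071003f00710073006900700045006b007d006f006e0043006a007c006c006f0042006900770071006c004100680076006e006d003d006f006a006b006a003c006e006b0068006b003b006d006900700068003a006c0068006a00690091006400940066009e008f0039006500670065008e00380066005d00660062006700850039009b0090006200a00057009a006400630083003700980060005f0087009700540061005e008900960055005c0061005f0095004e005b0060005d00940050005a0051005e00650051005f005b005c0093004c005e005c005a0092004d005d0059005b008e004f0058005a0058008a00580059004f005900560059008b0037007900630056008a0036007b00580057005400500088005300600055004e00860052006100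52003500530055005200530034005200540053004f005d00500038005d004d005500510035005e00510058004d0036005a004c0054004e0034005f0050004c004f0033005b004e004d004c0032005c004a004900840031004b004b004800820030004a0047004b0081002f00490046004a0048002d0048004900460080002c0047004800470046002a0046006f002e007a0045004300710040007e00420044006e0023007800410045006d0022007500440041006c0021007400430042003e00440040002200400070003e0072003b003f0040003f003e001f003e006b002b003c003d003c006a0020003d003a003d0069001f003b003f003a0068001e003a003c003b00370066003100640038003600650029005100390039005700300062003600380056001a004f003700330053002700500034003200520026004e0035003500320019004d0032003400330018004c00330030002f0039004b00290031002d0037004a001a002c0031002f00490028002b0045002d002e0023002a0030002e00480017002f002a002c00470016002e003d002a002b0020002d002c002b00460015001a0028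0038002700310016002900280025002f001900250035002900260018002400340026002700140027002400280024001300260025002400250020004300170021002e001f0042001d00400021001e00410012002300220023003c0015001e002b0022003b001c003e001e0021003a00110020001f001c001d0022001d0012001d001b001f001c0011001b001c0010001b0010002900170036001900300027000f0033001a00180026000e0032001800190015001a0023000f002d0028001500160014002c001700160020000d002a0025000d0013001600130024000c001400130014001100120021000b001d00120010001e0008001c00100011001b0007001b000d0019000b0017000e000c0018000a000e000f000f001400080015000c000e00130006000c000d0008000b000f0012000a0006000a000e0009000b000500090009000a0009000b0007000d0011000600070008000700100004000a0004000c00050008000900030005000600050004000600040003000700030005000200040003000200010003000200020000000200010001000100010000000000000000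

/-- base relators -/
def base : List (List ℕ) := [
  [0, 1, 0, 1, 0, 1, 0, 1, 0, 1],
  [0, 2, 0, 2],
  [0, 3, 0, 3],
  [0, 4, 0, 4],
  [1, 2, 1, 2, 1, 2],
  [1, 3, 1, 3],
  [1, 4, 1, 4],
  [2, 3, 2, 3, 2, 3, 2, 3, 2, 3, 2, 3, 2, 3, 2, 3],
  [2, 4, 2, 4],
  [3, 4, 3, 4, 3, 4],
  [0, 3, 2, 3, 2, 3, 2, 3, 2],
  [1, 2, 3, 2, 3, 1, 2, 3, 2, 3, 1, 2, 3, 2, 3, 1, 2, 3, 2, 3, 1, 2, 3, 2, 3, 4, 1, 2, 3, 2, 3, 1, 2, 3, 2, 3, 1, 2, 3, 2, 3, 1, 2, 3, 2, 3, 1, 2, 3, 2, 3, 4, 1, 2, 3, 2, 3, 1, 2, 3, 2, 3, 1, 2, 3, 2, 3, 1, 2, 3, 2, 3, 1, 2, 3, 2, 3, 4]]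

/-- rotations of the relators -/
def rots : WTab :=
  (.node (.node (.node (.node (.node (.node (.node (.leaf [0, 1, 0, 1, 0, 1, 0, 1, 0, 1]) (.leaf [4, 3, 2, 3, 2, 1, 3, 2, 3, 2, 1, 3, 2, 3, 2, 1, 3, 2, 3, 2, 1, 3, 2, 3, 2, 1, 4, 3, 2, 3, 2, 1, 3, 2, 3, 2, 1, 3, 2, 3, 2, 1, 3, 2, 3, 2, 1, 3, 2, 3, 2, 1, 4, 3, 2, 3, 2, 1, 3, 2, 3, 2, 1, 3, 2, 3, 2, 1, 3, 2, 3, 2, 1, 3, 2, 3, 2, 1])) (.node (.leaf [3, 2, 3, 2, 3, 0, 2, 3, 2]) (.leaf [0, 1, 0, 1, 0, 1, 0, 1, 0, 1]))) (.node (.node (.leaf [2, 4, 2, 4]) (.leaf [3, 2, 3, 2, 1, 3, 2, 3, 2, 1, 4, 3, 2, 3, 2, 1, 3, 2, 3, 2, 1, 3, 2, 3, 2, 1, 3, 2, 3, 2, 1, 3, 2, 3, 2, 1, 4, 3, 2, 3, 2, 1, 3, 2, 3, 2, 1, 3, 2, 3, 2, 1, 3, 2, 3, 2, 1, 3, 2, 3, 2, 1, 4, 3, 2, 3, 2, 1, 3, 2, 3, 2, 1, 3, 2, 3, 2, 1])) (.node (.leaf [1, 2, 3, 2, 3, 1, 2, 3, 2, 3, 1, 2, 3, 2, 3, 4, 1, 2, 3, 2, 3, 1, 2, 3, 2, 3, 1,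 2, 3, 2, 3, 1, 2, 3, 2, 3, 1, 2, 3, 2, 3, 4, 1, 2, 3, 2, 3, 1, 2, 3, 2, 3, 1, 2, 3, 2, 3, 1, 2, 3, 2, 3, 1, 2, 3, 2, 3, 4, 1, 2, 3, 2, 3, 1, 2, 3, 2, 3]) (.leaf [0, 1, 0, 1, 0, 1, 0, 1, 0, 1])))) (.node (.node (.node (.leaf [1, 2, 1, 2, 1, 2]) (.leaf [3, 2, 1, 3, 2, 3, 2, 1, 3, 2, 3, 2, 1, 3, 2, 3, 2, 1, 4, 3, 2, 3, 2, 1, 3, 2, 3, 2, 1, 3, 2, 3, 2, 1, 3, 2, 3, 2, 1, 3, 2, 3, 2, 1, 4, 3, 2, 3, 2, 1, 3, 2, 3, 2, 1, 3, 2, 3, 2, 1, 3, 2, 3, 2, 1, 3, 2, 3, 2, 1, 4, 3, 2, 3, 2, 1, 3, 2])) (.node (.leaf [3, 2, 3, 1, 2, 3, 2, 3, 1, 2, 3, 2, 3, 1, 2, 3, 2, 3, 1, 2, 3, 2, 3, 4, 1, 2, 3, 2, 3, 1, 2, 3, 2, 3, 1, 2, 3, 2, 3, 1, 2, 3, 2, 3, 1, 2, 3, 2, 3, 4, 1, 2, 3, 2, 3, 1, 2, 3, 2, 3, 1, 2, 3, 2, 3, 1, 2, 3, 2, 3, 1, 2, 3, 2, 3, 4, 1, 2]) (.leaf [0, 1, 0, 1, 0, 1, 0, 1, 0, 1]))) (.node (.node (.leaf [2, 3, 2, 3, 2, 0, 3, 2, 3]) (.leaf [2, 1, 4,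 3, 2, 3, 2, 1, 3, 2, 3, 2, 1, 3, 2, 3, 2, 1, 3, 2, 3, 2, 1, 3, 2, 3, 2, 1, 4, 3, 2, 3, 2, 1, 3, 2, 3, 2, 1, 3, 2, 3, 2, 1, 3, 2, 3, 2, 1, 3, 2, 3, 2, 1, 4, 3, 2, 3, 2, 1, 3, 2, 3, 2, 1, 3, 2, 3, 2, 1, 3, 2, 3, 2, 1, 3, 2, 3])) (.node (.leaf [2, 3, 1, 2, 3, 2, 3, 4, 1, 2, 3, 2, 3, 1, 2, 3, 2, 3, 1, 2, 3, 2, 3, 1, 2, 3, 2, 3, 1, 2, 3, 2, 3, 4, 1, 2, 3, 2, 3, 1, 2, 3, 2, 3, 1, 2, 3, 2, 3, 1, 2, 3, 2, 3, 1, 2, 3, 2, 3, 4, 1, 2, 3, 2, 3, 1, 2, 3, 2, 3, 1, 2, 3, 2, 3, 1, 2, 3]) (.leaf [0, 1, 0, 1, 0, 1, 0, 1, 0, 1]))))) (.node (.node (.node (.node (.leaf [0, 3, 0, 3]) (.leaf [2, 1, 3, 2, 3, 2, 1, 3, 2, 3, 2, 1, 3, 2, 3, 2, 1, 3, 2, 3, 2, 1, 4, 3, 2, 3, 2, 1, 3, 2, 3, 2, 1, 3, 2, 3, 2, 1, 3, 2, 3, 2, 1, 3, 2, 3, 2, 1, 4, 3, 2, 3, 2, 1, 3, 2, 3, 2, 1, 3, 2, 3, 2, 1, 3, 2, 3, 2, 1, 3, 2, 3, 2, 1, 4, 3, 2, 3])) (.node (.leaf [3, 0, 2, 3, 2, 3,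 2, 3, 2]) (.leaf [0, 1, 0, 1, 0, 1, 0, 1, 0, 1]))) (.node (.node (.leaf [0, 3, 2, 3, 2, 3, 2, 3, 2]) (.leaf [1, 3, 2, 3, 2, 1, 4, 3, 2, 3, 2, 1, 3, 2, 3, 2, 1, 3, 2, 3, 2, 1, 3, 2, 3, 2, 1, 3, 2, 3, 2, 1, 4, 3, 2, 3, 2, 1, 3, 2, 3, 2, 1, 3, 2, 3, 2, 1, 3, 2, 3, 2, 1, 3, 2, 3, 2, 1, 4, 3, 2, 3, 2, 1, 3, 2, 3, 2, 1, 3, 2, 3, 2, 1, 3, 2, 3, 2])) (.node (.leaf [3, 1, 2, 3, 2, 3, 1, 2, 3, 2, 3, 4, 1, 2, 3, 2, 3, 1, 2, 3, 2, 3, 1, 2, 3, 2, 3, 1, 2, 3, 2, 3, 1, 2, 3, 2, 3, 4, 1, 2, 3, 2, 3, 1, 2, 3, 2, 3, 1, 2, 3, 2, 3, 1, 2, 3, 2, 3, 1, 2, 3, 2, 3, 4, 1, 2, 3, 2, 3, 1, 2, 3, 2, 3, 1, 2, 3, 2]) (.leaf [0, 1, 0, 1, 0, 1, 0, 1, 0, 1])))) (.node (.node (.node (.leaf [1, 4, 1, 4]) (.leaf [2, 3, 2, 1, 3, 2, 3, 2, 1, 3, 2, 3, 2, 1, 4, 3, 2, 3, 2, 1, 3, 2, 3, 2, 1, 3, 2, 3, 2, 1, 3, 2, 3, 2, 1, 3, 2, 3, 2, 1, 4, 3, 2, 3, 2, 1, 3, 2, 3, 2, 1, 3, 2,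 3, 2, 1, 3, 2, 3, 2, 1, 3, 2, 3, 2, 1, 4, 3, 2, 3, 2, 1, 3, 2, 3, 2, 1, 3])) (.node (.leaf [2, 3, 2, 3, 1, 2, 3, 2, 3, 1, 2, 3, 2, 3, 1, 2, 3, 2, 3, 4, 1, 2, 3, 2, 3, 1, 2, 3, 2, 3, 1, 2, 3, 2, 3, 1, 2, 3, 2, 3, 1, 2, 3, 2, 3, 4, 1, 2, 3, 2, 3, 1, 2, 3, 2, 3, 1, 2, 3, 2, 3, 1, 2, 3, 2, 3, 1, 2, 3, 2, 3, 4, 1, 2, 3, 2, 3, 1]) (.leaf [0, 1, 0, 1, 0, 1, 0, 1, 0, 1]))) (.node (.node (.leaf [2, 0, 3, 2, 3, 2, 3, 2, 3]) (.leaf [0, 1, 0, 1, 0, 1, 0, 1, 0, 1])) (.node (.leaf [3, 2, 3, 4, 1, 2, 3, 2, 3, 1, 2, 3, 2, 3, 1, 2, 3, 2, 3, 1, 2, 3, 2, 3, 1, 2, 3, 2, 3, 4, 1, 2, 3, 2, 3, 1, 2, 3, 2, 3, 1, 2, 3, 2, 3, 1, 2, 3, 2, 3, 1, 2, 3, 2, 3, 4, 1, 2, 3, 2, 3, 1, 2, 3, 2, 3, 1, 2, 3, 2, 3, 1, 2, 3, 2, 3, 1, 2]) (.leaf [0, 1, 0, 1, 0, 1, 0, 1, 0, 1])))))) (.node (.node (.node (.node (.node (.leaf [0, 2, 0, 2]) (.leaf [2, 3, 2, 1, 3, 2, 3, 2, 1, 3,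 2, 3, 2, 1, 3, 2, 3, 2, 1, 3, 2, 3, 2, 1, 4, 3, 2, 3, 2, 1, 3, 2, 3, 2, 1, 3, 2, 3, 2, 1, 3, 2, 3, 2, 1, 3, 2, 3, 2, 1, 4, 3, 2, 3, 2, 1, 3, 2, 3, 2, 1, 3, 2, 3, 2, 1, 3, 2, 3, 2, 1, 3, 2, 3, 2, 1, 4, 3])) (.node (.leaf [3, 2, 3, 0, 2, 3, 2, 3, 2]) (.leaf [0, 1, 0, 1, 0, 1, 0, 1, 0, 1]))) (.node (.node (.leaf [3, 4, 3, 4, 3, 4]) (.leaf [3, 2, 1, 3, 2, 3, 2, 1, 4, 3, 2, 3, 2, 1, 3, 2, 3, 2, 1, 3, 2, 3, 2, 1, 3, 2, 3, 2, 1, 3, 2, 3, 2, 1, 4, 3, 2, 3, 2, 1, 3, 2, 3, 2, 1, 3, 2, 3, 2, 1, 3, 2, 3, 2, 1, 3, 2, 3, 2, 1, 4, 3, 2, 3, 2, 1, 3, 2, 3, 2, 1, 3, 2, 3, 2, 1, 3, 2])) (.node (.leaf [3, 2, 3, 1, 2, 3, 2, 3, 1, 2, 3, 2, 3, 4, 1, 2, 3, 2, 3, 1, 2, 3, 2, 3, 1, 2, 3, 2, 3, 1, 2, 3, 2, 3, 1, 2, 3, 2, 3, 4, 1, 2, 3, 2, 3, 1, 2, 3, 2, 3, 1, 2, 3, 2, 3, 1, 2, 3, 2, 3, 1, 2, 3, 2, 3, 4, 1, 2, 3, 2, 3, 1, 2, 3, 2, 3, 1, 2]) (.leaf [0, 1, 0, 1, 0,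 1, 0, 1, 0, 1])))) (.node (.node (.node (.leaf [1, 3, 1, 3]) (.leaf [1, 3, 2, 3, 2, 1, 3, 2, 3, 2, 1, 3, 2, 3, 2, 1, 4, 3, 2, 3, 2, 1, 3, 2, 3, 2, 1, 3, 2, 3, 2, 1, 3, 2, 3, 2, 1, 3, 2, 3, 2, 1, 4, 3, 2, 3, 2, 1, 3, 2, 3, 2, 1, 3, 2, 3, 2, 1, 3, 2, 3, 2, 1, 3, 2, 3, 2, 1, 4, 3, 2, 3, 2, 1, 3, 2, 3, 2])) (.node (.leaf [3, 1, 2, 3, 2, 3, 1, 2, 3, 2, 3, 1, 2, 3, 2, 3, 1, 2, 3, 2, 3, 4, 1, 2, 3, 2, 3, 1, 2, 3, 2, 3, 1, 2, 3, 2, 3, 1, 2, 3, 2, 3, 1, 2, 3, 2, 3, 4, 1, 2, 3, 2, 3, 1, 2, 3, 2, 3, 1, 2, 3, 2, 3, 1, 2, 3, 2, 3, 1, 2, 3, 2, 3, 4, 1, 2, 3, 2]) (.leaf [0, 1, 0, 1, 0, 1, 0, 1, 0, 1]))) (.node (.node (.leaf [2, 3, 2, 0, 3, 2, 3, 2, 3]) (.leaf [0, 1, 0, 1, 0, 1, 0, 1, 0, 1])) (.node (.leaf [1, 2, 3, 2, 3, 4, 1, 2, 3, 2, 3, 1, 2, 3, 2, 3, 1, 2, 3, 2, 3, 1, 2, 3, 2, 3, 1, 2, 3, 2, 3, 4, 1, 2, 3, 2, 3, 1, 2, 3, 2, 3, 1, 2, 3, 2, 3, 1, 2,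 3, 2, 3, 1, 2, 3, 2, 3, 4, 1, 2, 3, 2, 3, 1, 2, 3, 2, 3, 1, 2, 3, 2, 3, 1, 2, 3, 2, 3]) (.leaf [0, 1, 0, 1, 0, 1, 0, 1, 0, 1]))))) (.node (.node (.node (.node (.leaf [0, 4, 0, 4]) (.leaf [3, 2, 3, 2, 1, 3, 2, 3, 2, 1, 3, 2, 3, 2, 1, 3, 2, 3, 2, 1, 4, 3, 2, 3, 2, 1, 3, 2, 3, 2, 1, 3, 2, 3, 2, 1, 3, 2, 3, 2, 1, 3, 2, 3, 2, 1, 4, 3, 2, 3, 2, 1, 3, 2, 3, 2, 1, 3, 2, 3, 2, 1, 3, 2, 3, 2, 1, 3, 2, 3, 2, 1, 4, 3, 2, 3, 2, 1])) (.node (.leaf [1, 2, 3, 2, 3, 1, 2, 3, 2, 3, 1, 2, 3, 2, 3, 1, 2, 3, 2, 3, 1, 2, 3, 2, 3, 4, 1, 2, 3, 2, 3, 1, 2, 3, 2, 3, 1, 2, 3, 2, 3, 1, 2, 3, 2, 3, 1, 2, 3, 2, 3, 4, 1, 2, 3, 2, 3, 1, 2, 3, 2, 3, 1, 2, 3, 2, 3, 1, 2, 3, 2, 3, 1, 2, 3, 2, 3, 4]) (.leaf [0, 1, 0, 1, 0, 1, 0, 1, 0, 1]))) (.node (.node (.leaf [2, 3, 2, 3, 2, 3, 2, 0, 3]) (.leaf [2, 3, 2, 1, 4, 3, 2, 3, 2, 1, 3, 2, 3, 2, 1, 3, 2, 3, 2, 1, 3, 2, 3, 2, 1,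 3, 2, 3, 2, 1, 4, 3, 2, 3, 2, 1, 3, 2, 3, 2, 1, 3, 2, 3, 2, 1, 3, 2, 3, 2, 1, 3, 2, 3, 2, 1, 4, 3, 2, 3, 2, 1, 3, 2, 3, 2, 1, 3, 2, 3, 2, 1, 3, 2, 3, 2, 1, 3])) (.node (.leaf [2, 3, 2, 3, 1, 2, 3, 2, 3, 4, 1, 2, 3, 2, 3, 1, 2, 3, 2, 3, 1, 2, 3, 2, 3, 1, 2, 3, 2, 3, 1, 2, 3, 2, 3, 4, 1, 2, 3, 2, 3, 1, 2, 3, 2, 3, 1, 2, 3, 2, 3, 1, 2, 3, 2, 3, 1, 2, 3, 2, 3, 4, 1, 2, 3, 2, 3, 1, 2, 3, 2, 3, 1, 2, 3, 2, 3, 1]) (.leaf [0, 1, 0, 1, 0, 1, 0, 1, 0, 1])))) (.node (.node (.node (.leaf [2, 3, 2, 3, 2, 3, 2, 3, 2, 3, 2, 3, 2, 3, 2, 3]) (.leaf [2, 1, 3, 2, 3, 2, 1, 3, 2, 3, 2, 1, 4, 3, 2, 3, 2, 1, 3, 2, 3, 2, 1, 3, 2, 3, 2, 1, 3, 2, 3, 2, 1, 3, 2, 3, 2, 1, 4, 3, 2, 3, 2, 1, 3, 2, 3, 2, 1, 3, 2, 3, 2, 1, 3, 2, 3, 2, 1, 3, 2, 3, 2, 1, 4, 3, 2, 3, 2, 1, 3, 2, 3, 2, 1, 3, 2, 3])) (.node (.leaf [2, 3, 1, 2, 3, 2, 3, 1, 2, 3, 2, 3, 1, 2, 3, 2, 3, 4, 1,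 2, 3, 2, 3, 1, 2, 3, 2, 3, 1, 2, 3, 2, 3, 1, 2, 3, 2, 3, 1, 2, 3, 2, 3, 4, 1, 2, 3, 2, 3, 1, 2, 3, 2, 3, 1, 2, 3, 2, 3, 1, 2, 3, 2, 3, 1, 2, 3, 2, 3, 4, 1, 2, 3, 2, 3, 1, 2, 3]) (.leaf [0, 1, 0, 1, 0, 1, 0, 1, 0, 1]))) (.node (.node (.leaf [3, 2, 3, 2, 3, 2, 3, 0, 2]) (.leaf [0, 1, 0, 1, 0, 1, 0, 1, 0, 1])) (.node (.leaf [3, 4, 1, 2, 3, 2, 3, 1, 2, 3, 2, 3, 1, 2, 3, 2, 3, 1, 2, 3, 2, 3, 1, 2, 3, 2, 3, 4, 1, 2, 3, 2, 3, 1, 2, 3, 2, 3, 1, 2, 3, 2, 3, 1, 2, 3, 2, 3, 1, 2, 3, 2, 3, 4, 1, 2, 3, 2, 3, 1, 2, 3, 2, 3, 1, 2, 3, 2, 3, 1, 2, 3, 2, 3, 1, 2, 3, 2]) (.leaf [0, 1, 0, 1, 0, 1, 0, 1, 0, 1]))))))) (.node (.node (.node (.node (.node (.node (.leaf [1, 0, 1, 0, 1, 0, 1, 0, 1, 0]) (.leaf [3, 2, 3, 2, 1, 3, 2, 3, 2, 1, 3, 2, 3, 2, 1, 3, 2, 3, 2, 1, 3, 2, 3, 2, 1, 4, 3, 2, 3, 2, 1, 3, 2, 3, 2, 1, 3, 2, 3, 2, 1, 3, 2, 3, 2, 1, 3, 2, 3, 2, 1,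 4, 3, 2, 3, 2, 1, 3, 2, 3, 2, 1, 3, 2, 3, 2, 1, 3, 2, 3, 2, 1, 3, 2, 3, 2, 1, 4])) (.node (.leaf [2, 3, 2, 3, 0, 2, 3, 2, 3]) (.leaf [0, 1, 0, 1, 0, 1, 0, 1, 0, 1]))) (.node (.node (.leaf [4, 2, 4, 2]) (.leaf [2, 3, 2, 1, 3, 2, 3, 2, 1, 4, 3, 2, 3, 2, 1, 3, 2, 3, 2, 1, 3, 2, 3, 2, 1, 3, 2, 3, 2, 1, 3, 2, 3, 2, 1, 4, 3, 2, 3, 2, 1, 3, 2, 3, 2, 1, 3, 2, 3, 2, 1, 3, 2, 3, 2, 1, 3, 2, 3, 2, 1, 4, 3, 2, 3, 2, 1, 3, 2, 3, 2, 1, 3, 2, 3, 2, 1, 3])) (.node (.leaf [2, 3, 2, 3, 1, 2, 3, 2, 3, 1, 2, 3, 2, 3, 4, 1, 2, 3, 2, 3, 1, 2, 3, 2, 3, 1, 2, 3, 2, 3, 1, 2, 3, 2, 3, 1, 2, 3, 2, 3, 4, 1, 2, 3, 2, 3, 1, 2, 3, 2, 3, 1, 2, 3, 2, 3, 1, 2, 3, 2, 3, 1, 2, 3, 2, 3, 4, 1, 2, 3, 2, 3, 1, 2, 3, 2, 3, 1]) (.leaf [0, 1, 0, 1, 0, 1, 0, 1, 0, 1])))) (.node (.node (.node (.leaf [2, 1, 2, 1, 2, 1]) (.leaf [2, 1, 3, 2, 3, 2, 1, 3, 2, 3, 2, 1, 3, 2, 3, 2, 1, 4,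 3, 2, 3, 2, 1, 3, 2, 3, 2, 1, 3, 2, 3, 2, 1, 3, 2, 3, 2, 1, 3, 2, 3, 2, 1, 4, 3, 2, 3, 2, 1, 3, 2, 3, 2, 1, 3, 2, 3, 2, 1, 3, 2, 3, 2, 1, 3, 2, 3, 2, 1, 4, 3, 2, 3, 2, 1, 3, 2, 3])) (.node (.leaf [2, 3, 1, 2, 3, 2, 3, 1, 2, 3, 2, 3, 1, 2, 3, 2, 3, 1, 2, 3, 2, 3, 4, 1, 2, 3, 2, 3, 1, 2, 3, 2, 3, 1, 2, 3, 2, 3, 1, 2, 3, 2, 3, 1, 2, 3, 2, 3, 4, 1, 2, 3, 2, 3, 1, 2, 3, 2, 3, 1, 2, 3, 2, 3, 1, 2, 3, 2, 3, 1, 2, 3, 2, 3, 4, 1, 2, 3]) (.leaf [0, 1, 0, 1, 0, 1, 0, 1, 0, 1]))) (.node (.node (.leaf [3, 2, 3, 2, 0, 3, 2, 3, 2]) (.leaf [1, 4, 3, 2, 3, 2, 1, 3, 2, 3, 2, 1, 3, 2, 3, 2, 1, 3, 2, 3, 2, 1, 3, 2, 3, 2, 1, 4, 3, 2, 3, 2, 1, 3, 2, 3, 2, 1, 3, 2, 3, 2, 1, 3, 2, 3, 2, 1, 3, 2, 3, 2, 1, 4, 3, 2, 3, 2, 1, 3, 2, 3, 2, 1, 3, 2, 3, 2, 1, 3, 2, 3, 2, 1, 3, 2, 3, 2])) (.node (.leaf [3, 1, 2, 3, 2, 3, 4, 1, 2, 3, 2, 3, 1, 2, 3, 2, 3, 1, 2, 3, 2, 3,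 1, 2, 3, 2, 3, 1, 2, 3, 2, 3, 4, 1, 2, 3, 2, 3, 1, 2, 3, 2, 3, 1, 2, 3, 2, 3, 1, 2, 3, 2, 3, 1, 2, 3, 2, 3, 4, 1, 2, 3, 2, 3, 1, 2, 3, 2, 3, 1, 2, 3, 2, 3, 1, 2, 3, 2]) (.leaf [0, 1, 0, 1, 0, 1, 0, 1, 0, 1]))))) (.node (.node (.node (.node (.leaf [3, 0, 3, 0]) (.leaf [1, 3, 2, 3, 2, 1, 3, 2, 3, 2, 1, 3, 2, 3, 2, 1, 3, 2, 3, 2, 1, 4, 3, 2, 3, 2, 1, 3, 2, 3, 2, 1, 3, 2, 3, 2, 1, 3, 2, 3, 2, 1, 3, 2, 3, 2, 1, 4, 3, 2, 3, 2, 1, 3, 2, 3, 2, 1, 3, 2, 3, 2, 1, 3, 2, 3, 2, 1, 3, 2, 3, 2, 1, 4, 3, 2, 3, 2])) (.node (.leaf [0, 2, 3, 2, 3, 2, 3, 2, 3]) (.leaf [0, 1, 0, 1, 0, 1, 0, 1, 0, 1]))) (.node (.node (.leaf [3, 2, 3, 2, 3, 2, 3, 2, 0]) (.leaf [3, 2, 3, 2, 1, 4, 3, 2, 3, 2, 1, 3, 2, 3, 2, 1, 3, 2, 3, 2, 1, 3, 2, 3, 2, 1, 3, 2, 3, 2, 1, 4, 3, 2, 3, 2, 1, 3, 2, 3, 2, 1, 3, 2, 3, 2, 1, 3, 2, 3, 2, 1, 3, 2, 3, 2, 1, 4, 3, 2, 3, 2, 1, 3, 2, 3, 2,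 1, 3, 2, 3, 2, 1, 3, 2, 3, 2, 1])) (.node (.leaf [1, 2, 3, 2, 3, 1, 2, 3, 2, 3, 4, 1, 2, 3, 2, 3, 1, 2, 3, 2, 3, 1, 2, 3, 2, 3, 1, 2, 3, 2, 3, 1, 2, 3, 2, 3, 4, 1, 2, 3, 2, 3, 1, 2, 3, 2, 3, 1, 2, 3, 2, 3, 1, 2, 3, 2, 3, 1, 2, 3, 2, 3, 4, 1, 2, 3, 2, 3, 1, 2, 3, 2, 3, 1, 2, 3, 2, 3]) (.leaf [0, 1, 0, 1, 0, 1, 0, 1, 0, 1])))) (.node (.node (.node (.leaf [4, 1, 4, 1]) (.leaf [3, 2, 1, 3, 2, 3, 2, 1, 3, 2, 3, 2, 1, 4, 3, 2, 3, 2, 1, 3, 2, 3, 2, 1, 3, 2, 3, 2, 1, 3, 2, 3, 2, 1, 3, 2, 3, 2, 1, 4, 3, 2, 3, 2, 1, 3, 2, 3, 2, 1, 3, 2, 3, 2, 1, 3, 2, 3, 2, 1, 3, 2, 3, 2, 1, 4, 3, 2, 3, 2, 1, 3, 2, 3, 2, 1, 3, 2])) (.node (.leaf [3, 2, 3, 1, 2, 3, 2, 3, 1, 2, 3, 2, 3, 1, 2, 3, 2, 3, 4, 1, 2, 3, 2, 3, 1, 2, 3, 2, 3, 1, 2, 3, 2, 3, 1, 2, 3, 2, 3, 1, 2, 3, 2, 3, 4, 1, 2, 3, 2, 3, 1, 2, 3, 2, 3, 1, 2, 3, 2, 3, 1, 2, 3, 2, 3, 1, 2, 3, 2, 3, 4, 1, 2,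 3, 2, 3, 1, 2]) (.leaf [0, 1, 0, 1, 0, 1, 0, 1, 0, 1]))) (.node (.node (.leaf [2, 3, 2, 3, 2, 3, 2, 3, 0]) (.leaf [0, 1, 0, 1, 0, 1, 0, 1, 0, 1])) (.node (.leaf [2, 3, 4, 1, 2, 3, 2, 3, 1, 2, 3, 2, 3, 1, 2, 3, 2, 3, 1, 2, 3, 2, 3, 1, 2, 3, 2, 3, 4, 1, 2, 3, 2, 3, 1, 2, 3, 2, 3, 1, 2, 3, 2, 3, 1, 2, 3, 2, 3, 1, 2, 3, 2, 3, 4, 1, 2, 3, 2, 3, 1, 2, 3, 2, 3, 1, 2, 3, 2, 3, 1, 2, 3, 2, 3, 1, 2, 3]) (.leaf [0, 1, 0, 1, 0, 1, 0, 1, 0, 1])))))) (.node (.node (.node (.node (.node (.leaf [2, 0, 2, 0]) (.leaf [3, 2, 1, 3, 2, 3, 2, 1, 3, 2, 3, 2, 1, 3, 2, 3, 2, 1, 3, 2, 3, 2, 1, 4, 3, 2, 3, 2, 1, 3, 2, 3, 2, 1, 3, 2, 3, 2, 1, 3, 2, 3, 2, 1, 3, 2, 3, 2, 1, 4, 3, 2, 3, 2, 1, 3, 2, 3, 2, 1, 3, 2, 3, 2, 1, 3, 2, 3, 2, 1, 3, 2, 3, 2, 1, 4, 3, 2])) (.node (.leaf [2, 3, 0, 2, 3, 2, 3, 2, 3]) (.leaf [0, 1, 0, 1, 0, 1, 0, 1, 0, 1]))) (.node (.node (.leaf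 [4, 3, 4, 3, 4, 3]) (.leaf [2, 1, 3, 2, 3, 2, 1, 4, 3, 2, 3, 2, 1, 3, 2, 3, 2, 1, 3, 2, 3, 2, 1, 3, 2, 3, 2, 1, 3, 2, 3, 2, 1, 4, 3, 2, 3, 2, 1, 3, 2, 3, 2, 1, 3, 2, 3, 2, 1, 3, 2, 3, 2, 1, 3, 2, 3, 2, 1, 4, 3, 2, 3, 2, 1, 3, 2, 3, 2, 1, 3, 2, 3, 2, 1, 3, 2, 3])) (.node (.leaf [2, 3, 1, 2, 3, 2, 3, 1, 2, 3, 2, 3, 4, 1, 2, 3, 2, 3, 1, 2, 3, 2, 3, 1, 2, 3, 2, 3, 1, 2, 3, 2, 3, 1, 2, 3, 2, 3, 4, 1, 2, 3, 2, 3, 1, 2, 3, 2, 3, 1, 2, 3, 2, 3, 1, 2, 3, 2, 3, 1, 2, 3, 2, 3, 4, 1, 2, 3, 2, 3, 1, 2, 3, 2, 3, 1, 2, 3]) (.leaf [0, 1, 0, 1, 0, 1, 0, 1, 0, 1])))) (.node (.node (.node (.leaf [3, 1, 3, 1]) (.leaf [3, 2, 3, 2, 1, 3, 2, 3, 2, 1, 3, 2, 3, 2, 1, 4, 3, 2, 3, 2, 1, 3, 2, 3, 2, 1, 3, 2, 3, 2, 1, 3, 2, 3, 2, 1, 3, 2, 3, 2, 1, 4, 3, 2, 3, 2, 1, 3, 2, 3, 2, 1, 3, 2, 3, 2, 1, 3, 2, 3, 2, 1, 3, 2, 3, 2, 1, 4, 3, 2, 3, 2, 1, 3, 2, 3, 2, 1])) (.node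 (.leaf [1, 2, 3, 2, 3, 1, 2, 3, 2, 3, 1, 2, 3, 2, 3, 1, 2, 3, 2, 3, 4, 1, 2, 3, 2, 3, 1, 2, 3, 2, 3, 1, 2, 3, 2, 3, 1, 2, 3, 2, 3, 1, 2, 3, 2, 3, 4, 1, 2, 3, 2, 3, 1, 2, 3, 2, 3, 1, 2, 3, 2, 3, 1, 2, 3, 2, 3, 1, 2, 3, 2, 3, 4, 1, 2, 3, 2, 3]) (.leaf [0, 1, 0, 1, 0, 1, 0, 1, 0, 1]))) (.node (.node (.leaf [3, 2, 0, 3, 2, 3, 2, 3, 2]) (.leaf [0, 1, 0, 1, 0, 1, 0, 1, 0, 1])) (.node (.leaf [2, 3, 2, 3, 4, 1, 2, 3, 2, 3, 1, 2, 3, 2, 3, 1, 2, 3, 2, 3, 1, 2, 3, 2, 3, 1, 2, 3, 2, 3, 4, 1, 2, 3, 2, 3, 1, 2, 3, 2, 3, 1, 2, 3, 2, 3, 1, 2, 3, 2, 3, 1, 2, 3, 2, 3, 4, 1, 2, 3, 2, 3, 1, 2, 3, 2, 3, 1, 2, 3, 2, 3, 1, 2, 3, 2, 3, 1]) (.leaf [0, 1, 0, 1, 0, 1, 0, 1, 0, 1]))))) (.node (.node (.node (.node (.leaf [4, 0, 4, 0]) (.leaf [2, 3, 2, 1, 3, 2, 3, 2, 1, 3, 2, 3, 2, 1, 3, 2, 3, 2, 1, 4, 3, 2, 3, 2, 1, 3, 2, 3, 2, 1, 3, 2, 3, 2, 1, 3, 2, 3, 2, 1, 3,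 2, 3, 2, 1, 4, 3, 2, 3, 2, 1, 3, 2, 3, 2, 1, 3, 2, 3, 2, 1, 3, 2, 3, 2, 1, 3, 2, 3, 2, 1, 4, 3, 2, 3, 2, 1, 3])) (.node (.leaf [2, 3, 2, 3, 1, 2, 3, 2, 3, 1, 2, 3, 2, 3, 1, 2, 3, 2, 3, 1, 2, 3, 2, 3, 4, 1, 2, 3, 2, 3, 1, 2, 3, 2, 3, 1, 2, 3, 2, 3, 1, 2, 3, 2, 3, 1, 2, 3, 2, 3, 4, 1, 2, 3, 2, 3, 1, 2, 3, 2, 3, 1, 2, 3, 2, 3, 1, 2, 3, 2, 3, 1, 2, 3, 2, 3, 4, 1]) (.leaf [0, 1, 0, 1, 0, 1, 0, 1, 0, 1]))) (.node (.node (.leaf [3, 2, 3, 2, 3, 2, 0, 3, 2]) (.leaf [3, 2, 1, 4, 3, 2, 3, 2, 1, 3, 2, 3, 2, 1, 3, 2, 3, 2, 1, 3, 2, 3, 2, 1, 3, 2, 3, 2, 1, 4, 3, 2, 3, 2, 1, 3, 2, 3, 2, 1, 3, 2, 3, 2, 1, 3, 2, 3, 2, 1, 3, 2, 3, 2, 1, 4, 3, 2, 3, 2, 1, 3, 2, 3, 2, 1, 3, 2, 3, 2, 1, 3, 2, 3, 2, 1, 3, 2])) (.node (.leaf [3, 2, 3, 1, 2, 3, 2, 3, 4, 1, 2, 3, 2, 3, 1, 2, 3, 2, 3, 1, 2, 3, 2, 3, 1, 2, 3, 2, 3, 1, 2, 3, 2, 3, 4, 1, 2, 3, 2, 3, 1, 2, 3, 2, 3,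 1, 2, 3, 2, 3, 1, 2, 3, 2, 3, 1, 2, 3, 2, 3, 4, 1, 2, 3, 2, 3, 1, 2, 3, 2, 3, 1, 2, 3, 2, 3, 1, 2]) (.leaf [0, 1, 0, 1, 0, 1, 0, 1, 0, 1])))) (.node (.node (.node (.leaf [3, 2, 3, 2, 3, 2, 3, 2, 3, 2, 3, 2, 3, 2, 3, 2]) (.leaf [1, 3, 2, 3, 2, 1, 3, 2, 3, 2, 1, 4, 3, 2, 3, 2, 1, 3, 2, 3, 2, 1, 3, 2, 3, 2, 1, 3, 2, 3, 2, 1, 3, 2, 3, 2, 1, 4, 3, 2, 3, 2, 1, 3, 2, 3, 2, 1, 3, 2, 3, 2, 1, 3, 2, 3, 2, 1, 3, 2, 3, 2, 1, 4, 3, 2, 3, 2, 1, 3, 2, 3, 2, 1, 3, 2, 3, 2])) (.node (.leaf [3, 1, 2, 3, 2, 3, 1, 2, 3, 2, 3, 1, 2, 3, 2, 3, 4, 1, 2, 3, 2, 3, 1, 2, 3, 2, 3, 1, 2, 3, 2, 3, 1, 2, 3, 2, 3, 1, 2, 3, 2, 3, 4, 1, 2, 3, 2, 3, 1, 2, 3, 2, 3, 1, 2, 3, 2, 3, 1, 2, 3, 2, 3, 1, 2, 3, 2, 3, 4, 1, 2, 3, 2, 3, 1, 2, 3, 2]) (.leaf [0, 1, 0, 1, 0, 1, 0, 1, 0, 1]))) (.node (.node (.leaf [2, 3, 2, 3, 2, 3, 0, 2, 3]) (.leaf [0, 1, 0, 1, 0, 1, 0, 1, 0, 1])) (.node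 (.leaf [4, 1, 2, 3, 2, 3, 1, 2, 3, 2, 3, 1, 2, 3, 2, 3, 1, 2, 3, 2, 3, 1, 2, 3, 2, 3, 4, 1, 2, 3, 2, 3, 1, 2, 3, 2, 3, 1, 2, 3, 2, 3, 1, 2, 3, 2, 3, 1, 2, 3, 2, 3, 4, 1, 2, 3, 2, 3, 1, 2, 3, 2, 3, 1, 2, 3, 2, 3, 1, 2, 3, 2, 3, 1, 2, 3, 2, 3]) (.leaf [0, 1, 0, 1, 0, 1, 0, 1, 0, 1]))))))))

def hints_0 : List (ℕ × ℕ × Bool) := [
  (0, 0, false), (11, 0, true), (10, 3, true), (0, 0, false), (8, 0, false), (11, 16, true), (11, 10, false), (0, 0, false),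
  (4, 0, false), (11, 8, true), (11, 2, false), (0, 0, false), (10, 4, false), (11, 24, true), (11, 18, false), (0, 0, false),
  (2, 0, false), (11, 4, true), (10, 7, true), (0, 0, false), (10, 0, false), (11, 20, true), (11, 14, false), (0, 0, false),
  (6, 0, false), (11, 12, true), (11, 6, false), (0, 0, false), (10, 8, false), (0, 0, false), (11, 22, false), (0, 0, false),
  (1, 0, false), (11, 2, true), (10, 5, true), (0, 0, false), (9, 0, false), (11, 18, true), (11, 12, false), (0, 0, false),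
  (5, 0, false), (11, 10, true), (11, 4, false), (0, 0, false), (10, 6, false), (0, 0, false), (11, 20, false), (0, 0, false),
  (3, 0, false), (11, 6, true), (11, 0, false), (0, 0, false), (10, 2, false), (11, 22, true), (11, 16, false), (0, 0, false),
  (7, 0, false), (11, 14, true), (11, 8, false), (0, 0, false), (10, 1, true), (0, 0, false), (11, 24, false), (0, 0, false),
  (0, 1, false), (11, 1, true), (10, 4, true), (0, 0, false), (8, 1, false), (11, 17, true), (11, 11, false), (0, 0, false),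
  (4, 1, false), (11, 9, true), (11, 3, false), (0, 0, false), (10, 5, false), (11, 25, true), (11, 19, false), (0, 0, false),
  (2, 1, false), (11, 5, true), (10, 8, true), (0, 0, false), (10, 1, false), (11, 21, true), (11, 15, false), (0, 0, false),
  (6, 1, false), (11, 13, true), (11, 7, false), (0, 0, false), (10, 0, true), (0, 0, false), (11, 23, false), (0, 0, false),
  (1, 1, false), (11, 3, true), (10, 6, true), (0, 0, false), (9, 1, false), (11, 19, true), (11, 13, false), (0, 0, false),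
  (5, 1, false), (11, 11, true), (11, 5, false), (0, 0, false), (10, 7, false), (0, 0, false), (11, 21, false), (0, 0, false),
  (3, 1, false), (11, 7, true), (11, 1, false), (0, 0, false), (10, 3, false), (11, 23, true), (11, 17, false), (0, 0, false),
  (7, 1, false), (11, 15, true), (11, 9, false), (0, 0, false), (10, 2, true), (0, 0, false), (11, 25, false), (0, 0, false)]
def hints : List (ℕ × ℕ × Bool) :=
  hints_0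

/-- subgroup words -/
def sw : List (List ℕ) := [[0], [1], [2], [3]]

def subs : List (List ℕ) := [[0], [1], [2], [3]]

/-- parameters -/
def P : Params := ⟨tab, 5, rots, subs⟩

def tree_0 : List ℕ := [
  4, 8, 12, 16, 18, 23, 20, 30,
  29, 34, 44, 32, 42, 52, 57, 36,
  41, 56, 63, 97, 66, 101, 76, 73,
  78, 118, 80, 85, 90, 87, 142, 107,
  92, 147, 117, 99, 104, 124, 129, 114,
  134, 105, 160, 110, 115, 175, 200, 130,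
  205, 122, 253, 192, 197, 132, 242, 207,
  247, 153, 158, 163, 302, 156, 296, 171,
  168, 173, 178, 323, 233, 211, 221, 226,
  236, 241, 246, 251, 256, 261, 271, 266,
  281, 263, 268, 393, 403, 273, 278, 398,
  442, 395, 385, 380, 405, 400, 390, 425,
  420, 276, 436, 286, 283, 507, 503, 294,
  299, 304, 309, 329, 334, 339, 349, 319,
  344, 317, 562, 327, 583, 542, 547, 337,
  437, 347, 432, 552, 557, 342, 567, 357,
  367, 372, 492, 377, 502, 422, 487, 427,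
  482, 434, 439, 619, 609, 509, 514, 499,
  519, 456, 461, 471, 476, 481, 486, 490,
  655, 495, 500, 665, 720, 515, 725, 497,
  772, 722, 787, 573, 581, 601, 586, 591,
  621, 606, 631, 596, 636, 801, 706, 811,
  593, 598, 843, 863, 611, 626, 623, 848,
  708, 878, 633, 858, 643, 653, 658, 768,
  673, 967, 676, 971, 686, 730, 735, 740,
  745, 750, 755, 737, 997, 747, 1007, 752,
  987, 757, 977, 783, 803, 808, 873, 942,
  940, 870, 855, 850, 835, 830, 1108, 880,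
  875, 860, 845, 840, 930, 920, 806, 1071,
  816, 813, 818, 883, 1168, 1123, 922, 1152,
  932, 1147, 957, 1072, 962, 1067, 961, 975,
  1055, 980, 985, 1045, 1023, 1048, 1263, 1058,
  1282, 1069, 1074, 1174, 1179, 1164, 1189, 1086,
  1101, 1111, 1126, 1136, 1146, 1151, 1106, 1116,
  1208, 1241, 1251, 1256, 1279, 1289, 1377]
def tree : List ℕ :=
  tree_0

def ph0_0 : List ℕ := [
  2048, 2049, 2050, 2051, 8210, 12304, 16396, 36883,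
  28678, 40979, 204829, 815104, 65548, 110598, 4113, 4109,
  8203, 16392, 28674, 81951, 81949, 49181, 28709, 65546,
  45075, 73738, 118788, 479264, 270365, 475165, 135197, 446471,
  487427, 729093, 479248, 475142, 684044, 725010, 905222, 675852,
  110596, 151559, 90122, 180228, 290826, 4103, 8197, 20514,
  36881, 12317, 20509, 36871, 110592, 114699, 253960, 1110026,
  1060877, 1040389, 1028098, 1015810, 987139, 978947, 966661, 962571,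
  1069069, 958475, 946186, 929796, 1097738, 921604, 1093642, 888836,
  872459, 860169, 851977, 843779, 835587, 782341, 995331, 765963,
  757771, 749579, 729099, 725003, 737292, 684051, 913413, 913414,
  696332, 901126, 1085452, 696328, 901122, 663555, 958469, 1064967,
  655376, 712716, 1056787, 892934, 716817, 921602, 655363, 872453,
  667654, 954380, 643088, 1069075, 1056773, 1077258, 1007619, 647174,
  634884, 634882, 622594, 569357, 569352, 581649, 565265, 557059,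
  548867, 540681, 532489, 778251, 516112, 700428, 499728, 741388,
  491536, 679948, 909318, 1089548, 499747, 274453, 184340, 184342,
  294922, 491534, 352285, 499741, 221205, 503829, 573447, 565251,
  512007, 454659, 679946, 749586, 753676, 942086, 978960, 983046,
  1105932, 909331, 1089546, 466960, 430093, 434193, 401418, 622596,
  995361, 1003557, 389124, 610314, 823300, 385028, 606218, 819204,
  352267, 339979, 335883, 311306, 376836, 602122, 815108, 270347,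
  684040, 446477, 704520, 905218, 253962, 229379, 221200, 225286,
  323596, 565267, 368646, 401420, 196624, 303116, 532496, 536588,
  626694, 622608, 643091, 589828, 204816, 311308, 376838, 602124,
  815110, 835600, 839686, 180230, 290828, 524304, 172034, 151565,
  147473, 135177, 266251, 675848, 442381, 688136, 933890, 913425,
  888864, 884771, 884741, 122889, 237579, 425997, 122883, 237573,
  425991, 102411, 159757, 327688, 385026, 69644, 114694, 122896,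
  126982, 131084, 426003, 430084, 434186, 458762, 253970, 262161,
  118793, 176134, 86032, 172038, 53260, 163859, 192516, 151562,
  340002, 557065, 1130497, 299018, 286738, 49168, 61447, 147475,
  159749, 335887, 339997, 217117, 819200, 217094, 327692, 102417,
  339986, 348172, 393222, 557072, 561158, 548877, 1122305, 790539,
  802824, 1024002, 1142793, 806924, 1028102, 856080, 1032198, 851980,
  614416, 827398, 606226, 819206, 385036, 368657, 323586, 1130508,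
  102403, 45085, 827403, 20491, 49161, 36877, 57353, 294913,
  98315, 303105, 311304, 155661, 307201, 319496, 147467, 299009,
  163848, 77837, 290817, 90120, 180226, 249887, 249885, 438279,
  438276, 749593, 978953, 757777, 987145, 569377, 581661, 413703,
  233476, 192537, 528393, 524301, 774155, 421899, 593933, 1118219,
  524291, 286725, 774149, 528391, 389122, 794655, 794653, 1126401,
  1142787, 802826, 1024004, 1052703, 1052701, 1138707, 1126410, 843785,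
  376849, 835593, 368673, 360477, 1036299, 540675, 532487, 778245]

def ph1_0 : List Aux := [
  .node 81 3, .derive 280 [.bwd 0, .edge 1, .edge 3] [1] (.rel 11), .node 93 3, .node 103 2, .node 133 3, .derive 283 [.bwd 0, .edge 0, .edge 3] [0] (.rel 5), .node 136 3, .node 137 3,
  .node 153 1, .derive 286 [.bwd 0, .edge 3, .edge 1] [3] (.rel 10), .node 156 1, .derive 287 [.bwd 0, .edge 4, .fwd 2] [4] (.rel 12), .node 179 0, .derive 288 [.bwd 0, .edge 3, .edge 0] [3] (.rel 4), .node 180 0, .derive 289 [.bwd 0, .edge 3, .edge 0] [3] (.rel 4),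
  .derive 289 [.bwd 1, .edge 4, .fwd 3] [4] (.rel 6), .node 197 3, .derive 290 [.bwd 0, .edge 1, .fwd 10] [1] (.rel 11), .node 212 1, .derive 291 [.bwd 0, .edge 3, .fwd 9] [3] (.rel 10), .node 212 2, .node 219 1, .derive 293 [.bwd 0, .edge 3, .edge 1] [3] (.rel 10),
  .node 226 1, .derive 294 [.bwd 0, .edge 4, .edge 1] [4] (.rel 12), .node 228 1, .derive 295 [.bwd 0, .edge 4, .edge 1] [4] (.rel 12), .node 245 1, .node 246 1, .derive 297 [.bwd 0, .edge 2, .edge 1, .edge 2, .edge 1] [2] (.rel 8), .derive 297 [.bwd 1, .edge 3, .fwd 2] [3] (.rel 10),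
  .node 247 0, .derive 298 [.bwd 0, .edge 1, .edge 0, .edge 1, .edge 0, .edge 1, .edge 0, .edge 1, .fwd 0] [1] (.rel 0), .node 247 2, .node 247 4, .node 254 2, .node 254 4, .node 255 2, .derive 303 [.bwd 0, .edge 0, .fwd 2] [0] (.rel 3),
  .node 256 4, .derive 304 [.bwd 0, .edge 2, .edge 4] [2] (.rel 17), .derive 304 [.bwd 1, .edge 3, .edge 4, .edge 3, .fwd 4] [3] (.rel 19), .node 264 0, .node 265 0, .node 266 0, .derive 307 [.bwd 0, .edge 3, .fwd 1] [3] (.rel 4), .node 266 2,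
  .node 267 0, .derive 309 [.bwd 0, .edge 4, .fwd 4] [4] (.rel 6), .node 267 2, .node 268 0, .derive 311 [.bwd 0, .edge 4, .fwd 6] [4] (.rel 6), .node 268 2, .derive 312 [.bwd 0, .edge 4, .fwd 6] [4] (.rel 16), .node 269 0,
  .derive 313 [.bwd 0, .edge 3, .fwd 7] [3] (.rel 4), .node 269 2, .node 270 0, .derive 315 [.bwd 0, .edge 3, .fwd 7] [3] (.rel 4), .derive 315 [.bwd 1, .edge 4, .fwd 4] [4] (.rel 6), .node 270 2, .derive 316 [.bwd 0, .edge 4, .fwd 4] [4] (.rel 16), .node 271 0,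
  .node 271 2, .node 272 0, .derive 319 [.bwd 0, .edge 1, .edge 0, .edge 1, .edge 0, .edge 1, .edge 0, .edge 1, .fwd 2] [1] (.rel 0), .derive 319 [.bwd 1, .edge 3, .fwd 3] [3] (.rel 4), .node 272 2, .derive 320 [.bwd 0, .edge 1, .edge 2, .edge 1, .fwd 21] [1] (.rel 9), .node 277 2, .derive 321 [.bwd 0, .edge 4, .fwd 32] [4] (.rel 16),
  .node 280 2, .derive 322 [.bwd 0, .fwd 71, .edge 2, .edge 1, .fwd 69] [1] (.rel 9), .node 281 2, .node 282 3, .node 283 2, .derive 325 [.bwd 0, .fwd 71, .fwd 55] [0] (.rel 3), .node 284 2, .derive 326 [.bwd 0, .bwd 72, .edge 0, .edge 2, .edge 3, .edge 2, .fwd 76, .fwd 4] [3] (.rel 35),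
  .node 285 2, .derive 327 [.bwd 0, .bwd 73, .edge 2, .edge 3, .edge 2, .fwd 78, .fwd 6, .bwd 1, .bwd 2, .bwd 74, .edge 2, .edge 3, .edge 2, .fwd 80, .fwd 8] [3] (.rel 14), .derive 324 [.bwd 6, .bwd 8, .bwd 0] [1] (.rel 11), .node 288 1, .derive 328 [.bwd 0, .fwd 70, .fwd 57] [3] (.rel 10), .node 289 1, .derive 329 [.bwd 0, .fwd 70, .fwd 61] [3] (.rel 10), .derive 329 [.bwd 1, .fwd 70, .fwd 3] [4] (.rel 12),
  .node 290 2, .node 291 2, .node 291 4, .derive 332 [.bwd 0, .fwd 70, .fwd 79, .fwd 81, .fwd 55] [3] (.rel 19), .node 292 1, .node 292 3, .derive 334 [.bwd 0, .bwd 16, .bwd 17, .bwd 89, .edge 2, .edge 3, .fwd 90, .fwd 18] [2] (.rel 36), .derive 330 [.bwd 6, .fwd 76, .fwd 14, .bwd 12, .bwd 0] [1] (.rel 9),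
  .derive 333 [.bwd 3, .fwd 2, .bwd 0] [3] (.rel 10), .node 293 0, .derive 335 [.bwd 0, .fwd 74, .fwd 54] [3] (.rel 4), .node 293 2]
def ph1_1 : List Aux := [
  .derive 336 [.bwd 0, .bwd 77, .edge 2, .edge 1, .fwd 35] [1] (.rel 9), .node 294 0, .derive 337 [.bwd 0, .fwd 76, .fwd 38] [4] (.rel 6), .node 294 2, .derive 338 [.bwd 0, .fwd 78, .fwd 39] [4] (.rel 16), .node 295 0, .derive 339 [.bwd 0, .fwd 78, .fwd 40] [4] (.rel 6), .node 295 2,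
  .derive 340 [.bwd 0, .fwd 80, .fwd 39] [4] (.rel 16), .node 296 0, .node 296 2, .derive 342 [.bwd 0, .bwd 82, .edge 2, .edge 1, .fwd 76] [1] (.rel 9), .node 297 0, .derive 343 [.bwd 0, .fwd 82, .fwd 69] [2] (.rel 2), .derive 343 [.bwd 1, .fwd 82, .fwd 4] [3] (.rel 4), .node 298 2,
  .derive 344 [.bwd 0, .bwd 83, .fwd 81] [0] (.rel 3), .node 299 4, .derive 345 [.bwd 0, .bwd 83, .fwd 82] [2] (.rel 17), .node 301 4, .derive 346 [.bwd 0, .bwd 80, .bwd 48] [0] (.rel 7), .derive 346 [.bwd 1, .bwd 84, .fwd 83] [2] (.rel 17), .node 303 3, .derive 347 [.bwd 0, .fwd 83, .bwd 86, .edge 3, .edge 2, .fwd 105, .fwd 34, .bwd 26] [2] (.rel 36),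
  .derive 331 [.bwd 34, .bwd 104, .fwd 102, .fwd 31, .bwd 0] [1] (.rel 9), .node 306 2, .node 308 3, .node 309 2, .derive 350 [.bwd 0, .bwd 79, .fwd 77] [0] (.rel 3), .derive 350 [.bwd 1, .fwd 79, .fwd 3] [4] (.rel 16), .node 310 3, .node 311 2,
  .derive 352 [.bwd 0, .bwd 80, .fwd 78] [0] (.rel 3), .node 312 3, .node 313 2, .node 314 3, .node 315 2, .derive 356 [.bwd 0, .fwd 76, .fwd 2] [4] (.rel 16), .node 316 3, .node 317 2,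
  .derive 358 [.bwd 0, .bwd 76, .fwd 75] [0] (.rel 3), .node 318 3, .node 319 2, .node 320 3, .derive 361 [.bwd 0, .fwd 74, .fwd 17] [1] (.rel 11), .node 321 3, .derive 362 [.bwd 0, .bwd 25, .fwd 24, .bwd 103, .fwd 104, .edge 3, .fwd 75, .fwd 0] [2] (.rel 36), .node 328 0,
  .derive 363 [.bwd 0, .fwd 63, .fwd 42] [3] (.rel 4), .node 329 0, .derive 364 [.bwd 0, .fwd 63, .fwd 48] [3] (.rel 4), .derive 364 [.bwd 1, .fwd 63, .fwd 3] [4] (.rel 6), .node 329 2, .node 331 4, .derive 366 [.bwd 0, .bwd 64, .fwd 63] [2] (.rel 17), .node 335 2,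
  .derive 367 [.bwd 0, .bwd 58, .fwd 56] [0] (.rel 3), .node 336 3, .derive 368 [.bwd 0, .fwd 57, .fwd 16] [1] (.rel 11), .node 337 2, .derive 369 [.bwd 0, .bwd 58, .fwd 56] [0] (.rel 3), .node 338 3, .node 339 2, .derive 371 [.bwd 0, .fwd 56, .fwd 20] [4] (.rel 16),
  .node 340 3, .node 341 2, .derive 373 [.bwd 0, .bwd 56, .fwd 55] [0] (.rel 3), .node 342 3, .node 342 4, .derive 375 [.bwd 0, .fwd 57, .fwd 51] [1] (.rel 13), .node 344 1, .derive 376 [.bwd 0, .bwd 55, .bwd 137, .fwd 55, .fwd 0] [2] (.rel 8),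
  .node 344 4, .derive 377 [.bwd 0, .fwd 56, .fwd 55] [0] (.rel 7), .node 345 3, .node 347 4, .derive 379 [.bwd 0, .bwd 51, .fwd 22] [1] (.rel 13), .node 348 3, .node 349 2, .node 349 4,
  .node 350 3, .node 351 2, .node 351 4, .node 352 3, .node 353 2, .node 353 4, .node 354 3, .node 355 2,
  .node 356 3, .node 357 2, .node 358 1, .node 358 3, .node 359 2, .node 359 4, .node 360 1, .derive 397 [.bwd 0, .bwd 52, .fwd 128, .fwd 55, .fwd 4] [2] (.rel 8),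
  .node 360 3, .node 361 2, .node 361 4, .node 362 4]
def ph1_2 : List Aux := [
  .derive 401 [.bwd 0, .bwd 53, .fwd 0] [2] (.rel 17), .derive 401 [.bwd 1, .bwd 55, .fwd 129, .fwd 78, .fwd 25] [3] (.rel 19), .node 363 2, .node 364 2, .derive 403 [.bwd 0, .fwd 52, .fwd 1] [4] (.rel 16), .node 365 3, .node 366 3, .derive 405 [.bwd 0, .bwd 30, .bwd 5] [1] (.rel 11),
  .node 367 3, .derive 406 [.bwd 0, .fwd 52, .bwd 109, .fwd 185, .bwd 178, .fwd 177, .fwd 98, .fwd 41] [2] (.rel 36), .node 368 2, .derive 407 [.bwd 0, .bwd 53, .bwd 111, .fwd 187, .bwd 180, .fwd 179, .fwd 100, .fwd 43, .bwd 1, .bwd 2, .bwd 55, .fwd 112, .bwd 97, .fwd 96, .fwd 45] [3] (.rel 14), .node 369 3, .node 370 2, .node 370 4, .node 371 3,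
  .node 372 4, .derive 412 [.bwd 0, .bwd 52, .fwd 108, .fwd 73, .fwd 18] [3] (.rel 19), .node 373 1, .node 373 4, .derive 414 [.bwd 0, .fwd 53, .fwd 51] [0] (.rel 7), .node 375 3, .derive 415 [.bwd 0, .fwd 52, .fwd 47] [1] (.rel 11), .node 376 4,
  .derive 416 [.bwd 0, .bwd 53, .fwd 51] [1] (.rel 13), .derive 416 [.bwd 1, .bwd 53, .fwd 1] [2] (.rel 17), .node 377 3, .derive 417 [.bwd 0, .fwd 53, .fwd 52] [0] (.rel 5), .node 380 4, .node 381 1, .node 381 4, .derive 420 [.bwd 0, .bwd 52, .fwd 51] [2] (.rel 17),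
  .node 383 2, .derive 421 [.bwd 0, .bwd 52, .fwd 104, .bwd 182, .edge 3, .fwd 175, .fwd 97, .fwd 45] [3] (.rel 35), .node 383 4, .derive 422 [.bwd 0, .bwd 54, .fwd 105, .fwd 57, .fwd 6] [3] (.rel 19), .node 384 3, .derive 423 [.bwd 0, .bwd 55, .bwd 106, .bwd 186, .edge 3, .fwd 179, .fwd 101, .fwd 49, .bwd 3, .bwd 4, .bwd 56, .bwd 109, .bwd 180, .fwd 102, .fwd 50] [2] (.rel 15), .node 384 4, .derive 424 [.bwd 0, .bwd 57, .fwd 56] [2] (.rel 17),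
  .node 386 2, .derive 425 [.bwd 0, .bwd 57, .fwd 108, .bwd 187, .edge 3, .fwd 179, .fwd 102, .fwd 51] [3] (.rel 35), .node 387 3, .derive 426 [.bwd 0, .bwd 58, .bwd 109, .bwd 189, .edge 3, .fwd 181, .fwd 104, .fwd 53, .bwd 1, .bwd 2, .bwd 59, .bwd 111, .bwd 183, .fwd 106, .fwd 54] [2] (.rel 15), .node 387 4, .derive 427 [.bwd 0, .bwd 60, .fwd 59] [2] (.rel 17), .node 394 2, .derive 428 [.bwd 0, .bwd 55, .fwd 106, .bwd 182, .edge 3, .fwd 178, .fwd 103, .fwd 49] [3] (.rel 35),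
  .node 395 1, .node 395 3, .derive 430 [.bwd 0, .bwd 57, .bwd 108, .bwd 185, .edge 3, .fwd 181, .fwd 106, .fwd 52, .bwd 2, .bwd 3, .bwd 58, .bwd 110, .bwd 182, .fwd 107, .fwd 53] [2] (.rel 15), .node 395 4, .derive 431 [.bwd 0, .bwd 59, .fwd 58] [2] (.rel 17), .node 398 4, .node 399 1, .derive 433 [.bwd 0, .bwd 57, .fwd 110, .fwd 76, .fwd 25] [2] (.rel 8),
  .node 403 3, .node 404 2, .node 405 2, .derive 436 [.bwd 0, .fwd 51, .bwd 58, .bwd 51, .fwd 0] [1] (.rel 9), .node 407 1, .derive 437 [.bwd 0, .bwd 50, .fwd 102, .fwd 68, .fwd 12] [2] (.rel 8), .derive 437 [.bwd 1, .fwd 50, .fwd 43] [3] (.rel 10), .node 408 2,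
  .derive 438 [.bwd 0, .bwd 51, .fwd 103, .bwd 160, .bwd 177, .fwd 111, .fwd 58, .fwd 6] [3] (.rel 35), .node 409 3, .derive 439 [.bwd 0, .bwd 52, .bwd 104, .bwd 162, .bwd 179, .fwd 113, .fwd 60, .fwd 8, .bwd 1, .bwd 2, .bwd 53, .bwd 106, .bwd 115, .fwd 62, .fwd 9] [2] (.rel 15), .node 409 4, .derive 440 [.bwd 0, .bwd 54, .fwd 53] [2] (.rel 17), .node 411 4, .derive 441 [.bwd 0, .bwd 54, .fwd 106, .fwd 73, .fwd 16] [3] (.rel 19), .node 413 4,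
  .derive 442 [.bwd 0, .bwd 53, .fwd 52] [1] (.rel 13), .node 414 3, .derive 443 [.bwd 0, .fwd 53, .fwd 52] [0] (.rel 5), .node 416 3, .derive 444 [.bwd 0, .fwd 51, .fwd 49] [1] (.rel 11), .node 417 2, .derive 445 [.bwd 0, .bwd 51, .fwd 104, .fwd 159, .bwd 186, .bwd 123, .fwd 71, .fwd 19] [3] (.rel 35), .derive 445 [.fwd 0, .fwd 19, .bwd 0] [1] (.rel 11),
  .derive 444 [.fwd 3, .fwd 2, .fwd 0, .bwd 2, .bwd 3] [2] (.rel 8), .derive 444 [.fwd 0, .bwd 5, .fwd 55, .fwd 5, .fwd 0, .bwd 5, .bwd 55, .fwd 5] [0] (.rel 29), .derive 443 [.fwd 7, .fwd 59, .bwd 54, .bwd 5, .fwd 0, .fwd 5, .fwd 54, .bwd 59, .bwd 7] [1] (.rel 0), .derive 442 [.fwd 10, .fwd 9, .fwd 0, .bwd 9] [] (.rel 10), .derive 442 [.fwd 0] [] (.free), .derive 414 [.bwd 0, .bwd 13] [4] (.free), .derive 373 [.fwd 66, .fwd 0] [] (.free), .derive 413 [.bwd 0] [] (.free),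
  .derive 373 [.bwd 0, .bwd 25] [3] (.free), .derive 407 [.fwd 77, .fwd 0] [] (.free), .derive 437 [.bwd 0] [] (.free), .derive 407 [.bwd 0, .fwd 29] [2] (.free), .derive 368 [.fwd 81, .fwd 0] [] (.free), .derive 429 [.bwd 0] [] (.free), .derive 368 [.bwd 0, .bwd 45] [1] (.free), .derive 359 [.bwd 136, .fwd 0] [] (.free),
  .derive 395 [.bwd 0] [] (.free), .derive 359 [.bwd 0, .fwd 47] [3] (.free), .derive 318 [.fwd 156, .fwd 0] [] (.free), .derive 359 [.bwd 2, .fwd 47] [4] (.free)]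
def ph1_3 : List Aux := [
  .derive 396 [.bwd 106, .fwd 0] [] (.free), .derive 431 [.bwd 0] [] (.free), .derive 430 [.bwd 3] [] (.free), .derive 318 [.bwd 0, .fwd 52] [2] (.free), .derive 271 [.fwd 239, .fwd 0] [] (.free), .derive 398 [.bwd 0] [] (.free), .derive 271 [.bwd 0, .fwd 52] [4] (.free), .derive 294 [.fwd 281, .fwd 0] [] (.free),
  .derive 432 [.bwd 0] [] (.free), .derive 294 [.bwd 0, .bwd 38] [3] (.free), .derive 329 [.fwd 223, .fwd 0] [] (.free), .derive 441 [.bwd 0] [] (.free), .derive 329 [.bwd 0, .bwd 42] [4] (.free), .derive 328 [.bwd 225, .fwd 0] [] (.free), .derive 411 [.bwd 0] [] (.free), .derive 328 [.bwd 0, .bwd 99] [3] (.free),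
  .derive 295 [.bwd 231, .fwd 0] [] (.free), .derive 371 [.bwd 0] [] (.free), .derive 295 [.bwd 0, .fwd 154] [4] (.free), .derive 272 [.bwd 291, .fwd 0] [] (.free), .derive 360 [.bwd 0] [] (.free), .derive 272 [.bwd 0, .bwd 178] [2] (.free), .derive 320 [.bwd 253, .fwd 0] [] (.free), .derive 320 [.fwd 0] [] (.free),
  .derive 319 [.bwd 0, .bwd 215] [4] (.free), .derive 339 [.fwd 218, .fwd 0] [] (.free), .derive 340 [.bwd 0] [] (.free), .derive 339 [.bwd 0, .fwd 162] [3] (.free), .derive 363 [.fwd 179, .fwd 0] [] (.free), .derive 372 [.bwd 0] [] (.free), .derive 363 [.bwd 0, .fwd 113] [4] (.free), .derive 364 [.fwd 179, .fwd 0] [] (.free),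
  .derive 412 [.bwd 0] [] (.free), .derive 364 [.bwd 0, .fwd 115] [3] (.free), .derive 337 [.bwd 183, .fwd 0] [] (.free), .derive 400 [.bwd 0] [] (.free), .derive 337 [.bwd 0, .bwd 137] [4] (.free), .derive 317 [.bwd 234, .fwd 0] [] (.free), .derive 361 [.bwd 0] [] (.free), .derive 317 [.bwd 0, .fwd 141] [2] (.free),
  .derive 358 [.bwd 200, .fwd 0] [] (.free), .derive 399 [.bwd 0] [] (.free), .derive 358 [.bwd 0, .fwd 87] [1] (.free), .derive 393 [.bwd 152, .fwd 0] [] (.free), .derive 433 [.bwd 0] [] (.free), .derive 393 [.bwd 0, .fwd 89] [2] (.free), .derive 397 [.fwd 150, .fwd 0] [] (.free), .derive 419 [.bwd 0] [] (.free),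
  .derive 397 [.bwd 0, .bwd 118] [1] (.free), .derive 360 [.fwd 154, .fwd 0] [] (.free), .derive 381 [.bwd 0, .fwd 29] [] (.free), .derive 272 [.bwd 0, .fwd 120] [4] (.free), .derive 295 [.fwd 324, .fwd 0] [] (.free), .derive 420 [.bwd 0] [] (.free), .derive 295 [.bwd 0, .fwd 122] [2] (.free), .derive 340 [.bwd 247, .fwd 0] [] (.free),
  .derive 382 [.bwd 0, .fwd 29] [] (.free), .derive 339 [.bwd 0, .bwd 177] [4] (.free), .derive 319 [.bwd 251, .fwd 0] [] (.free), .derive 349 [.bwd 0] [] (.free), .derive 319 [.bwd 0, .bwd 233] [3] (.free), .derive 317 [.bwd 293, .fwd 0] [] (.free), .derive 317 [.fwd 0] [] (.free), .derive 308 [.bwd 0, .bwd 260] [4] (.free),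
  .derive 312 [.fwd 309, .fwd 0] [] (.free), .derive 337 [.bwd 0] [] (.free), .derive 312 [.bwd 0, .bwd 215] [3] (.free), .derive 353 [.bwd 233, .fwd 0] [] (.free), .derive 364 [.bwd 0] [] (.free), .derive 353 [.bwd 0, .fwd 217] [4] (.free), .derive 388 [.bwd 184, .fwd 0] [] (.free), .derive 388 [.fwd 0] [] (.free),
  .derive 363 [.bwd 0, .bwd 126] [2] (.free), .derive 402 [.bwd 170, .fwd 0] [] (.free), .derive 427 [.bwd 0] [] (.free), .derive 402 [.bwd 0, .bwd 130] [4] (.free), .derive 403 [.fwd 171, .fwd 0] [] (.free), .derive 403 [.fwd 0] [] (.free), .derive 387 [.bwd 0, .fwd 121] [3] (.free), .derive 426 [.bwd 136, .fwd 0] [] (.free),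
  .derive 434 [.bwd 0] [] (.free), .derive 426 [.bwd 0, .bwd 114] [2] (.free), .derive 391 [.bwd 138, .fwd 0] [] (.free), .derive 439 [.bwd 0] [] (.free), .derive 391 [.bwd 0, .bwd 118] [3] (.free), .derive 356 [.fwd 196, .fwd 0] [] (.free), .derive 409 [.bwd 0] [] (.free), .derive 356 [.bwd 0, .fwd 119] [4] (.free),
  .derive 354 [.bwd 250, .fwd 0] [] (.free), .derive 440 [.bwd 0] [] (.free), .derive 354 [.bwd 0, .fwd 121] [2] (.free), .derive 313 [.fwd 256, .fwd 0] [] (.free), .derive 410 [.bwd 0] [] (.free), .derive 313 [.bwd 0, .bwd 178] [4] (.free), .derive 315 [.fwd 333, .fwd 0] [] (.free), .derive 370 [.bwd 0] [] (.free),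
  .derive 315 [.bwd 0, .bwd 234] [3] (.free), .derive 311 [.bwd 337, .fwd 0] [] (.free), .derive 338 [.bwd 0] [] (.free), .derive 311 [.bwd 0, .fwd 294] [4] (.free)]
def ph1_4 : List Aux := [
  .derive 307 [.bwd 347, .fwd 0] [] (.free), .derive 318 [.bwd 0] [] (.free), .derive 307 [.bwd 0, .fwd 260] [3] (.free), .derive 306 [.bwd 356, .fwd 0] [] (.free), .derive 359 [.bwd 0] [] (.free), .derive 306 [.bwd 0, .fwd 211] [4] (.free), .derive 309 [.fwd 356, .fwd 0] [] (.free), .derive 396 [.bwd 0] [] (.free),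
  .derive 431 [.fwd 106, .fwd 0] [] (.free), .derive 309 [.bwd 1, .bwd 156, .fwd 0] [2] (.free), .derive 350 [.bwd 282, .bwd 0] [] (.free), .derive 350 [.fwd 0] [] (.free), .derive 309 [.bwd 0, .fwd 282] [4] (.free), .derive 306 [.bwd 363, .fwd 0] [] (.free), .derive 348 [.bwd 0] [] (.free), .derive 306 [.bwd 0, .fwd 237] [3] (.free),
  .derive 307 [.fwd 369, .fwd 0] [] (.free), .derive 380 [.bwd 0] [] (.free), .derive 307 [.bwd 0, .fwd 189] [4] (.free), .derive 311 [.fwd 366, .fwd 0] [] (.free), .derive 418 [.bwd 0] [] (.free), .derive 311 [.bwd 0, .bwd 185] [3] (.free), .derive 315 [.fwd 362, .fwd 0] [] (.free), .derive 422 [.bwd 0] [] (.free),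
  .derive 315 [.bwd 0, .bwd 189] [4] (.free), .derive 313 [.bwd 364, .fwd 0] [] (.free), .derive 383 [.bwd 0] [] (.free), .derive 313 [.bwd 0, .fwd 194] [2] (.free), .derive 354 [.bwd 293, .fwd 0] [] (.free), .derive 421 [.bwd 0] [] (.free), .derive 354 [.bwd 0, .fwd 196] [3] (.free), .derive 389 [.bwd 244, .fwd 0] [] (.free),
  .derive 390 [.bwd 0] [] (.free), .derive 389 [.bwd 0, .bwd 245] [2] (.free), .derive 423 [.fwd 196, .fwd 0] [] (.free), .derive 423 [.fwd 0] [] (.free), .derive 355 [.bwd 0, .bwd 199] [3] (.free), .derive 314 [.fwd 301, .fwd 0] [] (.free), .derive 384 [.bwd 0] [] (.free), .derive 314 [.bwd 0, .fwd 200] [4] (.free),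
  .derive 316 [.fwd 377, .fwd 0] [] (.free), .derive 424 [.bwd 0] [] (.free), .derive 316 [.bwd 0, .fwd 202] [2] (.free), .derive 270 [.fwd 381, .fwd 0] [] (.free), .derive 385 [.bwd 0] [] (.free), .derive 270 [.bwd 0, .bwd 262] [4] (.free), .derive 269 [.edge 4, .fwd 0] [] (.free), .derive 351 [.bwd 0] [] (.free),
  .derive 269 [.bwd 0, .bwd 317] [3] (.free), .derive 267 [.edge 3, .fwd 0] [] (.free), .derive 310 [.bwd 0] [] (.free), .derive 267 [.fwd 400, .fwd 0] [2] (.free), .commit 0]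
def ph1 : List Aux :=
  ((ph1_0 ++ ph1_1) ++ (ph1_2 ++ (ph1_3 ++ ph1_4)))

def ph2_0 : List ℕ := [
  917513, 1085457, 892937, 946177, 884747, 950273, 765960, 516125,
  262173, 278557, 765981, 282624, 462855, 454656, 520195, 458757,
  438272, 471043, 258055, 249856, 466947, 253957, 671776, 671773,
  176128, 286728, 188429, 294920, 778272, 995337, 999435, 950280,
  1073169, 774176, 237576, 241666, 426001, 65568, 430082, 725024,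
  471049, 466957, 671755, 979027, 983044, 1118226, 733216, 933925,
  733205, 991318, 1118213, 991243, 1101832, 737287, 1019904, 737282,
  925700, 925707, 1110028, 1110023, 1105937, 1114130, 1114119, 933901,
  1114129, 1044480, 1097736, 1097731, 1089553, 806943, 1028133, 1130506,
  1024018, 368710, 622592, 598024, 364555, 380941, 634880, 606216,
  380938, 471086, 671762, 520225, 1142872, 708684, 561203, 557109,
  790546, 794630, 802828, 708613, 770066, 819232, 868372, 745515,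
  745477, 745487, 741395, 741381, 503819, 741391, 360513, 1007655,
  1077249, 1081352, 1003531, 1007628, 966743, 983099, 847883, 897036,
  888850, 1081356, 880656, 884742, 974866, 974861, 974865, 1118223,
  1077325, 970769, 1073181, 1134662, 1036367, 811044, 946263, 839744,
  630859, 958524, 1036291, 839694, 954371, 970781, 766017, 1085441,
  1089541, 1126412, 1142800, 1122312]

/-- known edges at a check point -/
def mask0 : ℕ := 0x24202309021084210842842108428cc210918c23110842118422308c615211ce11846950d630846447b88691a42108c084a1284e33998e6210d4350d408484210b5ac4b58d6b18c48739ce084a90952139ce338e3584350840c4330a46b08c338cea1ac67394e23294a529484210cd38fb9ce718c231848cf71ad4206b5ac63318c230b9ce638ab0a9cd60ce739ce538e71a46308eb1a52106b98d730a50f71c7ccf6e1ce3730ccb52171f70b73310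

theorem treeRun_ok : stIs (runList (treeStep P) tree ⟨1, 0, []⟩) 280 mask0 = true := by decide +kernel

def seg0 : List Phase := [.scans ph0_0, .aux ph1, .scans ph2_0]

theorem seg0_ok : stIs (runList (phaseStep P) seg0 ⟨280, mask0, []⟩) 446 (2 ^ (280 * P.k) - 1) = true := by decide +kernel

/-- the certificate -/
def phases : List Phase :=
  seg0

theorem cert_ok : checkCert P 280 tree phases = true :=
  checkCert_of_run P treeRun_ok (run_last P seg0_ok)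

theorem gen0_ok : genOK P 280 0 = true := by decide +kernel

theorem gen1_ok : genOK P 280 1 = true := by decide +kernel

theorem gen2_ok : genOK P 280 2 = true := by decide +kernel

theorem gen3_ok : genOK P 280 3 = true := by decide +kernel

theorem gen4_ok : genOK P 280 4 = true := by decide +kernel

theorem tab_ok : tableOK P 280 = true := tableOK_of_gens P (by decide +kernel) (by decide +kernel) fun x hx =>
  match x, hx with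
  | 0, _ => gen0_ok
  | 1, _ => gen1_ok
  | 2, _ => gen2_ok
  | 3, _ => gen3_ok
  | 4, _ => gen4_ok
  | _ + 5, hx => absurd (show _ + 5 < 5 from hx) (by omega)

theorem rots_ok : rotsOK base rots.entries hints = true := by decide +kernel

theorem fix_ok : wordsFixBase P sw = true := by decide +kernel

theorem tree_ok : treeOK P tree 0 = true := by decide +kernel

theorem tree_len : tree.length + 1 = 280 := by decide +kernel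

end Cfsg.Agent.RigidGraph.Suz.Coset.Abcde
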