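import Cfsg.Agent.Lib.Compute.CosetOrbit

/-! Coset enumeration certificate data (ABCDEF). -/

set_option autoImplicit false
set_option maxRecDepth 100000
set_option Elab.async false

namespace Cfsg.Agent.RigidGraph.Suz.Coset.Abcdef

open Cfsg.Agent.CosetCert

/-- the coset table -/
def tab : Tab :=
  .node (.leaf 0x19d019b019f019c01970199019f019a019d019e01960198019a019f019b019b019d019a01980187019e01990189019c0196019e01870197019c018901930188018601920192018b01950186018801940194018a019001910191019101900190018d018c018e018c018d018f018f018e018c018e018f018d018a018a0194018b018b019201870198019601860195019301890199019701880193019501840123017c01850121017d0182015a0181018301640180018001590183018101630182017e014c00d9017f015000d8017c010d0184017d00d3018501790170017a0178016f017b017b016b0178017a016a01790175015301760174010f0177017701510174017600d001750172017200cd0173017300cb016c016d0166016b017b016f016a017a0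17001620166016d01610171016e01710161016801700179016a016f0178016b0167012400c501660162016c0169012600c70168016e0171015b015b00c6015a01820163015901800164016e01680161016d016c01620158015d015f0157015c01600156012200c901550160015c0154015f015d0165016500c801640183015901630181015a016001550157015f01540158015e011f00ca015d01580154015c0157015501510177010f014f00c3010e0153017500d0014c017e00be015200c400bd014b014d00bc014a014e00bb0150017f00ba014e014a00b9014d014b00b80147014101480146013b01490149014001460148013601470143013f01440142010701450145013e0142014400b7014301400149013b014101470136013e01450107013f014300b70138013a013c01370139013d0136014801410135013d01390134013c013a013d01350137013c01340138013b01460140013a013801340139013701350130010e00c3012f012b0131012e00f90132013300bd00c40132012a012e013100af012f012c00c90122012d00ca011f012a013200f9012b012f00af0127012801170125012900f80129012501140124016700a50128012700a40126016900a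30121018500d3011f015e012d01230184010d011a00d7010601220156012c011d010800cc011e00cc0108011b00fd00b6011c00ec00b4012000ea00b5011300f30118011100fb0119011400f80129011200fa0115011000f00116011700a40127011900aa0111011600de0110011800df0113011500a0011200d00176015300bd0133015200d3017d012100d1010c010b00d2010b010c00ce010a010900cf0109010a00cc011e011d00b70144013f00b500fc012000ed0105010500eb0102010400b30103010300b10104010200ae00f7010000ac00f6010100a900f200fe00a700f100ff00ec011c00d600e9010600d700df011800f300de011600f000af0131012b00a40117012800ad010100f600ab010000f700a200f400f400a100f500f500aa011900fb00a800ff00f100a600fe00f200a0011500fa009f00ee00ee009e00ef00ef010500ed00ed00fd011b00d4010400b100eb00d7011a00e900fc00b500ea00e700e800e800e800e700e700d500e200e400e400e100d500e500e000e600e200d500e100e300e600e000e000e500e300e100e400e200fb011100aa00fa011200a000dc00db009d00dd00da009c00da00dd009b00db00dc009a00d800ba017f0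0d900be017e00ea012000fc00d400b600fd00e600e300e500d600b400ec010d017c0123010b00d200d1010c00d100d2010f01740151010900cf00ce010a00ce00cf00cb00cb01730108011d011e00cd00cd017200c9012c015600ca012d015e00c600c6015b00c500a5016700c800c8016500c700a3016900c3014f013000c40152013300c100bf00c100c200c000c200bf00c100bf00c000c200c000ba00d80150010e0130014f00b900bb014e00b800bc014d00be00d9014c00bc00b8014b00bb00b9014a01070142013e00b400d6011c010600e9011a00b600d4011b010300b300b300b000b200b2010200eb00b100b200b000b000f9012e012a010100ad00ac00f700ae00ab010000ab00ae00f600ac00ad00f3011300df00ff00a800a700f200a900a600fe00a600a900f100a700a800a300c7012600f80114012500a500c5012400f500a100a100f400a200a200f0011000de00ef009e009e00ee009f009f009c009b00dd009d009a00dc009a009d00db009b009c00da009800990099009900980098009500960097009400970096009700940095009600950094009200560092009300550093008f00810090008e008000910091006b008e0090006a008f008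b007d008c008a007c008d008d0051008a008c004e008b0086005400870083005700840085007b00890089005000850087004f00860082007a00880088004d00820084004c0083006b00910080006a009000810069007e007e0068007f007f0051008d007c004e008c007d004f00870054004c00840057004300780078004200790079003f00760052003e00770053007300670074007200660075007500650072007400640073006f004a0070006e003d00710071004b006e0070003c006f006c003b006c006d003a006d0081008f006a0080008e006b007f00680068007e00690069006500750066006400740067006700730064006600720065005f00610062005e00600063005b00630060005a006200610063005b005e0062005a005f0059005d005c0058005c005d0061005f005a0060005e005b005d00590058005c00580059004d0088007a00550093005500560092005600500089007b004000520076004100530077007d008b004e00540086004f007b00850050007c008a005100570083004c007a0082004d004a006f003c004b0071003d00460049003600450047003800440048003900490046003400480044003500470045003700790042004200780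043004300520040003f00530041003e0077003e00410076003f0040003c0070004a003d006e004b003a006d003a003b006c003b003700380047003500390048003900350044003400360049003800370045003600340046003100210032003000200033003300150030003200140031002e002c002f002f002b002e002d002d002d002b002f002c002c002e002b002a002a002a0027001f00280026001e00290029001300260028001200270023001d00240022001c00250025001100220024000a002300150033002000140032002100130029001e00120028001f00110025001c000a0024001d00170019001a00160018001b0008001b00180007001a0019001b00080016001a00070017002100310014002000300015001f00270012001e00260013001d0023000a0010000f000e000f00100009000e00090010000d000b000c000c0006000d000b000d0006001c002200110009000e000f0019001700070018001600080006000c000b000500030004000400020005000300050002000200040003000100010001000000000000) (.leaf 0x19b019d019e0199019c019f019a019f019c0198019e019d019f019a017b019d019b0179019e01980177019c01990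17501870195017001890194016b01860197016e018b01960160018801920162018a01930158019001900145019101910143018d013d013d018c013c014a018f01320138018e0131014d01940189012b01920188012a0196018b01280193018a012601970186012501950187012401850184017801840185017a017f018200da017e018300db00d90180018000d8018101810183017e01480182017f0146017d017c017d017c017d017c01770179019b0176017801840175017b019a0174017a0185017b01750199017a017401760179017701980178017601740173012301410172011e01400133015d015a0153016e0197010f016d00de015201700195010e016f00dc01300164016401510160019600d0015f00fa00ca0165016800c40163016900c9015e016600c3015c016700c8016901630150016c016c00be01680165014f0158019300bd015700dd014e016b019400bc016a00fb00c70167015c014d0171015500bb0166015e00c601560159014c0155017100ba0154015b014b0162019200b9016100df00c5015b0154014a015a015d00b801590156017001520127016e0153012c016b014e01290164013001370162014b012d01600151013a015d0133018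c015a014a013c0158014f01350155014c018e01450147014701440146017f01430149014901420148017e0149014301910148014200e20147014501900146014400e3013f01160173013e0119017201410120013f0140011c013e0132018f018f0131018e014c010701150139012b0129014e00f90117013b012f012f018d012e012e015000b701180134012a012d014b00af012201360171014d0131013d018d012f013c018c0133016c0150012e01380138013201370137013001260135014f012401270152013a0128018b01350126018a0128013a01510129012b01890125012c0153012d012a0188012701240187012c0125018601230173011600a5013401180121011d01120116013f012000a301140111011e01720119011d012101130119013e011c0113011a011b0112011b011a011c0140011e00b60136012200f8013901150120014101230106013b011700a4011f0110011b0112011d011a0113012100b40110011f00b501110114016f010e010a016d010f00ff010d01080109010a010100ea01090100010b010c00ff010f010b00fe010d0108010d00fe013b010600f70115010700f50103010400fd0102010500fc0105010200f60104010300f40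0ff010c00e600fe010b01000101010a010e01000109010800f300fc010500f000fd010400d600fa015f00d700fb016a013900f800f2011700f900ef00f200f5010700f100f4010300ef00f7010600ee00f6010200fd00f000f100f700ef00f900f600ee00f300fc00f300ee00f500f200f800f400f100f000b300e800ec00aa00e500ed00b100e700e900de00e6010c00a000e400eb00b200ed00e500b000eb00e400dc00ea0101009d00ec00e8009c00e900e700db00e2014200da00e30144009b00e000e1009a00e100e000d400dd015700ea00dc016f00d500df016100e600de016d00e300da018200e200db0183018100d80093018000d9009200fa00d600d100fb00d7009000dd00d400ae00df00d5008e00d300cd00cf00cf009100d200ce009000d7016a00bc00ce00d2008d00d300d1008c00d000cd00d3008d00cc00cb00a700cb00cc008b016900c800c2016700c700c1016500ca0089015e00c90087015b00c50086015600c60085016800be00c0016600bb00bf00c0008900ca00bf008700c900c2008800c400c1008400c3016300c40088016100b900a9015f00d0008c015c00c30084015900b80083015700bd008a015400ba0082013600b600ad011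800b70075011000b400a2011100b5007300ed00b200ab00e800b3007400eb00b000a100e700b10072013400a500a800a9008e00d500a8007500b700a7008f00ac00a6007400b300ec009d00a600ae008a00bd00ad007100af00ac008b00cc00ab007000aa012200af0071011400a3009f011f00a4006f009f007300b5009e007200b100e9009c009e00a2006f00a400a1006e00a000e500aa007000e400a0006e00e1009a006d00e0009b006c00980097008100990096006b00960099007f00970098006300940094006900950095005f0092009200d90093009300d8008d00d20091008c00d100d6008b00ac008f008a00ae00d4009100cf00cd009000ce00bc008f00a700cb008e00a900b9008800c200c8008900c000be008400c100c70083008500c60082008600c5008700bf00bb0086008200ba0085008300b8007d007f0099007c007e006700790081009700780080006100810079005100800078007a007a0077004a007b0076007c007f007d0047007e007c00760076007b00480077007a0078007100ad00b6007000ab00b2006f00a200b4006e00a100b0007500a800a5007400a6009d0073009f00a30072009e009c006d006c009b006c006d009a00510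0630098004e006200650043005f00950042005e005b004a00610080003d00600066004b005d006a003c005c00640047006b00960039006a005d00480067007e00380066006000440069009400370068005900490065006200360064005c00450059006800350058005a0046005b005e0034005a005800540053005500550033004d005600320057005700520050005200570032005300540029006b0047007d004d00290054004c0028004b006a0039004c005000250056004f0024004e00650049004f00670048007b005d004b00280061004a0077006300510079005900450026005b0046003f005f0043004300690044004400680037003e004000270027004100230030003e00260045003f0022004200660038003b00640036003a003b001b003d003a001a003c0062004e00240060003d001b005e00420022005c003c001a005a00340017005800350016003200560025003300550053003000300023003100310040002c002f001d002b002d0011002a002e000f002f002c0021002e002a0015002d002b000d0025005000520024004f00490023004100410022003f00460029004d00330028004c00390027004000310026003e003700200021002c00210020001f001d001f0020001c001e001e001f001d002f001e001c0019001b003b0038001a003a003600190019001c0018001800180017001600350016001700340014000d002b0015000c00130011000e0014000a001000120013000f002e000900120010000e0011002d000f0013000c000c0015002a000d0014000e0006000b000b0012000900080010000a000500080005000a000700040007000b00060003000500080009000400070004000300030006000200020001000000010002000100000000)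

/-- base relators -/
def base : List (List ℕ) := [
  [0, 1, 0, 1, 0, 1, 0, 1, 0, 1],
  [0, 2, 0, 2],
  [0, 3, 0, 3],
  [0, 4, 0, 4],
  [0, 5, 0, 5],
  [1, 2, 1, 2, 1, 2],
  [1, 3, 1, 3],
  [1, 4, 1, 4],
  [1, 5, 1, 5, 1, 5],
  [2, 3, 2, 3, 2, 3, 2, 3, 2, 3, 2, 3, 2, 3, 2, 3],
  [2, 4, 2, 4],
  [2, 5, 2, 5],
  [3, 4, 3, 4, 3, 4],
  [3, 5, 3, 5],
  [4, 5, 4, 5],
  [0, 3, 2, 3, 2, 3, 2, 3, 2],
  [0, 1, 2, 5, 0, 1, 2, 5, 0, 1, 2, 5, 0, 1, 2, 5, 0, 1, 2, 5],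
  [1, 2, 3, 2, 3, 1, 2, 3, 2, 3, 1, 2, 3, 2, 3, 1, 2, 3, 2, 3, 1, 2, 3, 2, 3, 4, 1, 2, 3, 2, 3, 1, 2, 3, 2, 3, 1, 2, 3, 2, 3, 1, 2, 3, 2, 3, 1, 2, 3, 2, 3, 4, 1, 2, 3, 2, 3, 1, 2, 3, 2, 3, 1, 2, 3, 2, 3, 1, 2, 3, 2, 3, 1, 2, 3, 2, 3, 4]]

/-- rotations of the relators -/
def rots : WTab :=
  (.node (.node (.node (.node (.node (.node (.node (.leaf [0, 1, 0, 1, 0, 1, 0, 1, 0, 1]) (.leaf [2, 3, 1, 2, 3, 2, 3, 1, 2, 3, 2, 3, 1, 2, 3, 2, 3, 4, 1, 2, 3, 2, 3, 1, 2, 3, 2, 3, 1, 2, 3, 2, 3, 1, 2, 3, 2, 3, 1, 2, 3, 2, 3, 4, 1, 2, 3, 2, 3, 1, 2, 3, 2, 3, 1, 2, 3, 2, 3, 1, 2, 3, 2, 3, 1, 2, 3, 2, 3, 4, 1, 2, 3, 2, 3, 1, 2, 3])) (.node (.leaf [2, 3, 2, 3, 2, 3, 2, 0, 3]) (.leaf [2, 1, 3, 2, 3, 2, 1, 3, 2, 3, 2, 1, 4, 3, 2, 3, 2, 1, 3, 2, 3, 2, 1, 3, 2, 3, 2, 1, 3, 2, 3, 2, 1, 3, 2, 3, 2, 1, 4, 3, 2, 3, 2, 1, 3, 2, 3, 2, 1, 3, 2, 3, 2, 1, 3, 2, 3, 2, 1, 3, 2, 3, 2, 1, 4, 3, 2, 3, 2, 1, 3, 2, 3, 2, 1, 3,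 2, 3]))) (.node (.node (.leaf [1, 5, 1, 5, 1, 5]) (.leaf [3, 4, 1, 2, 3, 2, 3, 1, 2, 3, 2, 3, 1, 2, 3, 2, 3, 1, 2, 3, 2, 3, 1, 2, 3, 2, 3, 4, 1, 2, 3, 2, 3, 1, 2, 3, 2, 3, 1, 2, 3, 2, 3, 1, 2, 3, 2, 3, 1, 2, 3, 2, 3, 4, 1, 2, 3, 2, 3, 1, 2, 3, 2, 3, 1, 2, 3, 2, 3, 1, 2, 3, 2, 3, 1, 2, 3, 2])) (.node (.leaf [0, 1, 2, 5, 0, 1, 2, 5, 0, 1, 2, 5, 0, 1, 2, 5, 0, 1, 2, 5]) (.leaf [0, 1, 0, 1, 0, 1, 0, 1, 0, 1])))) (.node (.node (.node (.leaf [0, 5, 0, 5]) (.leaf [2, 3, 2, 3, 1, 2, 3, 2, 3, 4, 1, 2, 3, 2, 3, 1, 2, 3, 2, 3, 1, 2, 3, 2, 3, 1, 2, 3, 2, 3, 1, 2, 3, 2, 3, 4, 1, 2, 3, 2, 3, 1, 2, 3, 2, 3, 1, 2, 3, 2, 3, 1, 2, 3, 2, 3, 1, 2, 3, 2, 3, 4, 1, 2, 3, 2, 3, 1, 2, 3, 2, 3, 1, 2, 3, 2, 3, 1])) (.node (.leaf [3, 2, 3, 2, 3, 2, 3, 0, 2]) (.leaf [2, 3, 2, 1, 4, 3, 2, 3, 2, 1, 3, 2, 3, 2, 1, 3, 2, 3, 2, 1, 3, 2, 3, 2, 1, 3, 2, 3, 2, 1, 4, 3, 2, 3, 2, 1, 3, 2, 3, 2, 1, 3, 2, 3, 2, 1, 3, 2, 3, 2, 1,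 3, 2, 3, 2, 1, 4, 3, 2, 3, 2, 1, 3, 2, 3, 2, 1, 3, 2, 3, 2, 1, 3, 2, 3, 2, 1, 3]))) (.node (.node (.leaf [3, 4, 3, 4, 3, 4]) (.leaf [3, 2, 3, 2, 1, 3, 2, 3, 2, 1, 3, 2, 3, 2, 1, 3, 2, 3, 2, 1, 4, 3, 2, 3, 2, 1, 3, 2, 3, 2, 1, 3, 2, 3, 2, 1, 3, 2, 3, 2, 1, 3, 2, 3, 2, 1, 4, 3, 2, 3, 2, 1, 3, 2, 3, 2, 1, 3, 2, 3, 2, 1, 3, 2, 3, 2, 1, 3, 2, 3, 2, 1, 4, 3, 2, 3, 2, 1])) (.node (.leaf [1, 2, 3, 2, 3, 1, 2, 3, 2, 3, 1, 2, 3, 2, 3, 1, 2, 3, 2, 3, 1, 2, 3, 2, 3, 4, 1, 2, 3, 2, 3, 1, 2, 3, 2, 3, 1, 2, 3, 2, 3, 1, 2, 3, 2, 3, 1, 2, 3, 2, 3, 4, 1, 2, 3, 2, 3, 1, 2, 3, 2, 3, 1, 2, 3, 2, 3, 1, 2, 3, 2, 3, 1, 2, 3, 2, 3, 4]) (.leaf [0, 1, 0, 1, 0, 1, 0, 1, 0, 1]))))) (.node (.node (.node (.node (.leaf [0, 3, 0, 3]) (.leaf [3, 2, 3, 1, 2, 3, 2, 3, 1, 2, 3, 2, 3, 4, 1, 2, 3, 2, 3, 1, 2, 3, 2, 3, 1, 2, 3, 2, 3, 1, 2, 3, 2, 3, 1, 2, 3, 2, 3, 4, 1, 2, 3, 2, 3, 1, 2, 3, 2, 3, 1, 2, 3, 2, 3, 1, 2, 3, 2, 3, 1,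 2, 3, 2, 3, 4, 1, 2, 3, 2, 3, 1, 2, 3, 2, 3, 1, 2])) (.node (.leaf [2, 3, 2, 0, 3, 2, 3, 2, 3]) (.leaf [3, 2, 1, 3, 2, 3, 2, 1, 4, 3, 2, 3, 2, 1, 3, 2, 3, 2, 1, 3, 2, 3, 2, 1, 3, 2, 3, 2, 1, 3, 2, 3, 2, 1, 4, 3, 2, 3, 2, 1, 3, 2, 3, 2, 1, 3, 2, 3, 2, 1, 3, 2, 3, 2, 1, 3, 2, 3, 2, 1, 4, 3, 2, 3, 2, 1, 3, 2, 3, 2, 1, 3, 2, 3, 2, 1, 3, 2]))) (.node (.node (.leaf [2, 4, 2, 4]) (.leaf [2, 3, 2, 1, 3, 2, 3, 2, 1, 3, 2, 3, 2, 1, 3, 2, 3, 2, 1, 3, 2, 3, 2, 1, 4, 3, 2, 3, 2, 1, 3, 2, 3, 2, 1, 3, 2, 3, 2, 1, 3, 2, 3, 2, 1, 3, 2, 3, 2, 1, 4, 3, 2, 3, 2, 1, 3, 2, 3, 2, 1, 3, 2, 3, 2, 1, 3, 2, 3, 2, 1, 3, 2, 3, 2, 1, 4, 3])) (.node (.leaf [5, 2, 1, 0, 5, 2, 1, 0, 5, 2, 1, 0, 5, 2, 1, 0, 5, 2, 1, 0]) (.leaf [0, 1, 0, 1, 0, 1, 0, 1, 0, 1])))) (.node (.node (.node (.leaf [1, 3, 1, 3]) (.leaf [1, 2, 3, 2, 3, 4, 1, 2, 3, 2, 3, 1, 2, 3, 2, 3, 1, 2, 3, 2, 3, 1, 2, 3, 2, 3, 1, 2, 3, 2, 3, 4, 1, 2, 3, 2, 3, 1,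 2, 3, 2, 3, 1, 2, 3, 2, 3, 1, 2, 3, 2, 3, 1, 2, 3, 2, 3, 4, 1, 2, 3, 2, 3, 1, 2, 3, 2, 3, 1, 2, 3, 2, 3, 1, 2, 3, 2, 3])) (.node (.leaf [3, 2, 3, 0, 2, 3, 2, 3, 2]) (.leaf [0, 1, 0, 1, 0, 1, 0, 1, 0, 1]))) (.node (.node (.leaf [4, 5, 4, 5]) (.leaf [1, 3, 2, 3, 2, 1, 3, 2, 3, 2, 1, 3, 2, 3, 2, 1, 4, 3, 2, 3, 2, 1, 3, 2, 3, 2, 1, 3, 2, 3, 2, 1, 3, 2, 3, 2, 1, 3, 2, 3, 2, 1, 4, 3, 2, 3, 2, 1, 3, 2, 3, 2, 1, 3, 2, 3, 2, 1, 3, 2, 3, 2, 1, 3, 2, 3, 2, 1, 4, 3, 2, 3, 2, 1, 3, 2, 3, 2])) (.node (.leaf [3, 1, 2, 3, 2, 3, 1, 2, 3, 2, 3, 1, 2, 3, 2, 3, 1, 2, 3, 2, 3, 4, 1, 2, 3, 2, 3, 1, 2, 3, 2, 3, 1, 2, 3, 2, 3, 1, 2, 3, 2, 3, 1, 2, 3, 2, 3, 4, 1, 2, 3, 2, 3, 1, 2, 3, 2, 3, 1, 2, 3, 2, 3, 1, 2, 3, 2, 3, 1, 2, 3, 2, 3, 4, 1, 2, 3, 2]) (.leaf [0, 1, 0, 1, 0, 1, 0, 1, 0, 1])))))) (.node (.node (.node (.node (.node (.leaf [0, 2, 0, 2]) (.leaf [1, 2, 3, 2, 3, 1, 2, 3, 2, 3, 1, 2, 3, 2, 3, 4, 1, 2, 3, 2,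 3, 1, 2, 3, 2, 3, 1, 2, 3, 2, 3, 1, 2, 3, 2, 3, 1, 2, 3, 2, 3, 4, 1, 2, 3, 2, 3, 1, 2, 3, 2, 3, 1, 2, 3, 2, 3, 1, 2, 3, 2, 3, 1, 2, 3, 2, 3, 4, 1, 2, 3, 2, 3, 1, 2, 3, 2, 3])) (.node (.leaf [2, 3, 2, 3, 2, 0, 3, 2, 3]) (.leaf [3, 2, 3, 2, 1, 3, 2, 3, 2, 1, 4, 3, 2, 3, 2, 1, 3, 2, 3, 2, 1, 3, 2, 3, 2, 1, 3, 2, 3, 2, 1, 3, 2, 3, 2, 1, 4, 3, 2, 3, 2, 1, 3, 2, 3, 2, 1, 3, 2, 3, 2, 1, 3, 2, 3, 2, 1, 3, 2, 3, 2, 1, 4, 3, 2, 3, 2, 1, 3, 2, 3, 2, 1, 3, 2, 3, 2, 1]))) (.node (.node (.leaf [2, 3, 2, 3, 2, 3, 2, 3, 2, 3, 2, 3, 2, 3, 2, 3]) (.leaf [4, 3, 2, 3, 2, 1, 3, 2, 3, 2, 1, 3, 2, 3, 2, 1, 3, 2, 3, 2, 1, 3, 2, 3, 2, 1, 4, 3, 2, 3, 2, 1, 3, 2, 3, 2, 1, 3, 2, 3, 2, 1, 3, 2, 3, 2, 1, 3, 2, 3, 2, 1, 4, 3, 2, 3, 2, 1, 3, 2, 3, 2, 1, 3, 2, 3, 2, 1, 3, 2, 3, 2, 1, 3, 2, 3, 2, 1])) (.node (.leaf [2, 5, 0, 1, 2, 5, 0, 1, 2, 5, 0, 1, 2, 5, 0, 1, 2, 5, 0, 1]) (.leaf [0, 1, 0, 1, 0, 1, 0, 1, 0, 1])))) (.node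 (.node (.node (.leaf [1, 2, 1, 2, 1, 2]) (.leaf [2, 3, 1, 2, 3, 2, 3, 4, 1, 2, 3, 2, 3, 1, 2, 3, 2, 3, 1, 2, 3, 2, 3, 1, 2, 3, 2, 3, 1, 2, 3, 2, 3, 4, 1, 2, 3, 2, 3, 1, 2, 3, 2, 3, 1, 2, 3, 2, 3, 1, 2, 3, 2, 3, 1, 2, 3, 2, 3, 4, 1, 2, 3, 2, 3, 1, 2, 3, 2, 3, 1, 2, 3, 2, 3, 1, 2, 3])) (.node (.leaf [3, 2, 3, 2, 3, 0, 2, 3, 2]) (.leaf [2, 1, 4, 3, 2, 3, 2, 1, 3, 2, 3, 2, 1, 3, 2, 3, 2, 1, 3, 2, 3, 2, 1, 3, 2, 3, 2, 1, 4, 3, 2, 3, 2, 1, 3, 2, 3, 2, 1, 3, 2, 3, 2, 1, 3, 2, 3, 2, 1, 3, 2, 3, 2, 1, 4, 3, 2, 3, 2, 1, 3, 2, 3, 2, 1, 3, 2, 3, 2, 1, 3, 2, 3, 2, 1, 3, 2, 3]))) (.node (.node (.leaf [3, 5, 3, 5]) (.leaf [3, 2, 1, 3, 2, 3, 2, 1, 3, 2, 3, 2, 1, 3, 2, 3, 2, 1, 4, 3, 2, 3, 2, 1, 3, 2, 3, 2, 1, 3, 2, 3, 2, 1, 3, 2, 3, 2, 1, 3, 2, 3, 2, 1, 4, 3, 2, 3, 2, 1, 3, 2, 3, 2, 1, 3, 2, 3, 2, 1, 3, 2, 3, 2, 1, 3, 2, 3, 2, 1, 4, 3, 2, 3, 2, 1, 3, 2])) (.node (.leaf [3, 2, 3, 1, 2, 3, 2, 3, 1, 2, 3, 2,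 3, 1, 2, 3, 2, 3, 1, 2, 3, 2, 3, 4, 1, 2, 3, 2, 3, 1, 2, 3, 2, 3, 1, 2, 3, 2, 3, 1, 2, 3, 2, 3, 1, 2, 3, 2, 3, 4, 1, 2, 3, 2, 3, 1, 2, 3, 2, 3, 1, 2, 3, 2, 3, 1, 2, 3, 2, 3, 1, 2, 3, 2, 3, 4, 1, 2]) (.leaf [0, 1, 0, 1, 0, 1, 0, 1, 0, 1]))))) (.node (.node (.node (.node (.leaf [0, 4, 0, 4]) (.leaf [3, 1, 2, 3, 2, 3, 1, 2, 3, 2, 3, 4, 1, 2, 3, 2, 3, 1, 2, 3, 2, 3, 1, 2, 3, 2, 3, 1, 2, 3, 2, 3, 1, 2, 3, 2, 3, 4, 1, 2, 3, 2, 3, 1, 2, 3, 2, 3, 1, 2, 3, 2, 3, 1, 2, 3, 2, 3, 1, 2, 3, 2, 3, 4, 1, 2, 3, 2, 3, 1, 2, 3, 2, 3, 1, 2, 3, 2])) (.node (.leaf [2, 0, 3, 2, 3, 2, 3, 2, 3]) (.leaf [1, 3, 2, 3, 2, 1, 4, 3, 2, 3, 2, 1, 3, 2, 3, 2, 1, 3, 2, 3, 2, 1, 3, 2, 3, 2, 1, 3, 2, 3, 2, 1, 4, 3, 2, 3, 2, 1, 3, 2, 3, 2, 1, 3, 2, 3, 2, 1, 3, 2, 3, 2, 1, 3, 2, 3, 2, 1, 4, 3, 2, 3, 2, 1, 3, 2, 3, 2, 1, 3, 2, 3, 2, 1, 3, 2, 3, 2]))) (.node (.node (.leaf [2, 5, 2, 5]) (.leaf [2, 1, 3, 2, 3, 2, 1, 3, 2, 3, 2, 1,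 3, 2, 3, 2, 1, 3, 2, 3, 2, 1, 4, 3, 2, 3, 2, 1, 3, 2, 3, 2, 1, 3, 2, 3, 2, 1, 3, 2, 3, 2, 1, 3, 2, 3, 2, 1, 4, 3, 2, 3, 2, 1, 3, 2, 3, 2, 1, 3, 2, 3, 2, 1, 3, 2, 3, 2, 1, 3, 2, 3, 2, 1, 4, 3, 2, 3])) (.node (.leaf [1, 0, 5, 2, 1, 0, 5, 2, 1, 0, 5, 2, 1, 0, 5, 2, 1, 0, 5, 2]) (.leaf [0, 1, 0, 1, 0, 1, 0, 1, 0, 1])))) (.node (.node (.node (.leaf [1, 4, 1, 4]) (.leaf [3, 2, 3, 4, 1, 2, 3, 2, 3, 1, 2, 3, 2, 3, 1, 2, 3, 2, 3, 1, 2, 3, 2, 3, 1, 2, 3, 2, 3, 4, 1, 2, 3, 2, 3, 1, 2, 3, 2, 3, 1, 2, 3, 2, 3, 1, 2, 3, 2, 3, 1, 2, 3, 2, 3, 4, 1, 2, 3, 2, 3, 1, 2, 3, 2, 3, 1, 2, 3, 2, 3, 1, 2, 3, 2, 3, 1, 2])) (.node (.leaf [3, 0, 2, 3, 2, 3, 2, 3, 2]) (.leaf [0, 1, 0, 1, 0, 1, 0, 1, 0, 1]))) (.node (.node (.leaf [0, 3, 2, 3, 2, 3, 2, 3, 2]) (.leaf [2, 3, 2, 1, 3, 2, 3, 2, 1, 3, 2, 3, 2, 1, 4, 3, 2, 3, 2, 1, 3, 2, 3, 2, 1, 3, 2, 3, 2, 1, 3, 2, 3, 2, 1, 3, 2, 3, 2, 1, 4, 3, 2, 3, 2, 1, 3, 2, 3, 2, 1, 3,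 2, 3, 2, 1, 3, 2, 3, 2, 1, 3, 2, 3, 2, 1, 4, 3, 2, 3, 2, 1, 3, 2, 3, 2, 1, 3])) (.node (.leaf [2, 3, 2, 3, 1, 2, 3, 2, 3, 1, 2, 3, 2, 3, 1, 2, 3, 2, 3, 4, 1, 2, 3, 2, 3, 1, 2, 3, 2, 3, 1, 2, 3, 2, 3, 1, 2, 3, 2, 3, 1, 2, 3, 2, 3, 4, 1, 2, 3, 2, 3, 1, 2, 3, 2, 3, 1, 2, 3, 2, 3, 1, 2, 3, 2, 3, 1, 2, 3, 2, 3, 4, 1, 2, 3, 2, 3, 1]) (.leaf [0, 1, 0, 1, 0, 1, 0, 1, 0, 1]))))))) (.node (.node (.node (.node (.node (.node (.leaf [1, 0, 1, 0, 1, 0, 1, 0, 1, 0]) (.leaf [3, 1, 2, 3, 2, 3, 1, 2, 3, 2, 3, 1, 2, 3, 2, 3, 4, 1, 2, 3, 2, 3, 1, 2, 3, 2, 3, 1, 2, 3, 2, 3, 1, 2, 3, 2, 3, 1, 2, 3, 2, 3, 4, 1, 2, 3, 2, 3, 1, 2, 3, 2, 3, 1, 2, 3, 2, 3, 1, 2, 3, 2, 3, 1, 2, 3, 2, 3, 4, 1, 2, 3, 2, 3, 1, 2, 3, 2])) (.node (.leaf [3, 2, 3, 2, 3, 2, 0, 3, 2]) (.leaf [1, 3, 2, 3, 2, 1, 3, 2, 3, 2, 1, 4, 3, 2, 3, 2, 1, 3, 2, 3, 2, 1, 3, 2, 3, 2, 1, 3, 2, 3, 2, 1, 3, 2, 3, 2, 1, 4, 3, 2, 3, 2, 1, 3, 2, 3, 2, 1, 3, 2, 3,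 2, 1, 3, 2, 3, 2, 1, 3, 2, 3, 2, 1, 4, 3, 2, 3, 2, 1, 3, 2, 3, 2, 1, 3, 2, 3, 2]))) (.node (.node (.leaf [5, 1, 5, 1, 5, 1]) (.leaf [4, 1, 2, 3, 2, 3, 1, 2, 3, 2, 3, 1, 2, 3, 2, 3, 1, 2, 3, 2, 3, 1, 2, 3, 2, 3, 4, 1, 2, 3, 2, 3, 1, 2, 3, 2, 3, 1, 2, 3, 2, 3, 1, 2, 3, 2, 3, 1, 2, 3, 2, 3, 4, 1, 2, 3, 2, 3, 1, 2, 3, 2, 3, 1, 2, 3, 2, 3, 1, 2, 3, 2, 3, 1, 2, 3, 2, 3])) (.node (.leaf [1, 2, 5, 0, 1, 2, 5, 0, 1, 2, 5, 0, 1, 2, 5, 0, 1, 2, 5, 0]) (.leaf [0, 1, 0, 1, 0, 1, 0, 1, 0, 1])))) (.node (.node (.node (.leaf [5, 0, 5, 0]) (.leaf [3, 2, 3, 1, 2, 3, 2, 3, 4, 1, 2, 3, 2, 3, 1, 2, 3, 2, 3, 1, 2, 3, 2, 3, 1, 2, 3, 2, 3, 1, 2, 3, 2, 3, 4, 1, 2, 3, 2, 3, 1, 2, 3, 2, 3, 1, 2, 3, 2, 3, 1, 2, 3, 2, 3, 1, 2, 3, 2, 3, 4, 1, 2, 3, 2, 3, 1, 2, 3, 2, 3, 1, 2, 3, 2, 3, 1, 2])) (.node (.leaf [2, 3, 2, 3, 2, 3, 0, 2, 3]) (.leaf [3, 2, 1, 4, 3, 2, 3, 2, 1, 3, 2, 3, 2, 1, 3, 2, 3, 2, 1, 3, 2, 3, 2, 1, 3, 2,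 3, 2, 1, 4, 3, 2, 3, 2, 1, 3, 2, 3, 2, 1, 3, 2, 3, 2, 1, 3, 2, 3, 2, 1, 3, 2, 3, 2, 1, 4, 3, 2, 3, 2, 1, 3, 2, 3, 2, 1, 3, 2, 3, 2, 1, 3, 2, 3, 2, 1, 3, 2]))) (.node (.node (.leaf [4, 3, 4, 3, 4, 3]) (.leaf [2, 3, 2, 1, 3, 2, 3, 2, 1, 3, 2, 3, 2, 1, 3, 2, 3, 2, 1, 4, 3, 2, 3, 2, 1, 3, 2, 3, 2, 1, 3, 2, 3, 2, 1, 3, 2, 3, 2, 1, 3, 2, 3, 2, 1, 4, 3, 2, 3, 2, 1, 3, 2, 3, 2, 1, 3, 2, 3, 2, 1, 3, 2, 3, 2, 1, 3, 2, 3, 2, 1, 4, 3, 2, 3, 2, 1, 3])) (.node (.leaf [2, 3, 2, 3, 1, 2, 3, 2, 3, 1, 2, 3, 2, 3, 1, 2, 3, 2, 3, 1, 2, 3, 2, 3, 4, 1, 2, 3, 2, 3, 1, 2, 3, 2, 3, 1, 2, 3, 2, 3, 1, 2, 3, 2, 3, 1, 2, 3, 2, 3, 4, 1, 2, 3, 2, 3, 1, 2, 3, 2, 3, 1, 2, 3, 2, 3, 1, 2, 3, 2, 3, 1, 2, 3, 2, 3, 4, 1]) (.leaf [0, 1, 0, 1, 0, 1, 0, 1, 0, 1]))))) (.node (.node (.node (.node (.leaf [3, 0, 3, 0]) (.leaf [2, 3, 1, 2, 3, 2, 3, 1, 2, 3, 2, 3, 4, 1, 2, 3, 2, 3, 1, 2, 3, 2, 3, 1, 2, 3, 2, 3, 1, 2, 3, 2, 3, 1, 2, 3,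 2, 3, 4, 1, 2, 3, 2, 3, 1, 2, 3, 2, 3, 1, 2, 3, 2, 3, 1, 2, 3, 2, 3, 1, 2, 3, 2, 3, 4, 1, 2, 3, 2, 3, 1, 2, 3, 2, 3, 1, 2, 3])) (.node (.leaf [3, 2, 0, 3, 2, 3, 2, 3, 2]) (.leaf [2, 1, 3, 2, 3, 2, 1, 4, 3, 2, 3, 2, 1, 3, 2, 3, 2, 1, 3, 2, 3, 2, 1, 3, 2, 3, 2, 1, 3, 2, 3, 2, 1, 4, 3, 2, 3, 2, 1, 3, 2, 3, 2, 1, 3, 2, 3, 2, 1, 3, 2, 3, 2, 1, 3, 2, 3, 2, 1, 4, 3, 2, 3, 2, 1, 3, 2, 3, 2, 1, 3, 2, 3, 2, 1, 3, 2, 3]))) (.node (.node (.leaf [4, 2, 4, 2]) (.leaf [3, 2, 1, 3, 2, 3, 2, 1, 3, 2, 3, 2, 1, 3, 2, 3, 2, 1, 3, 2, 3, 2, 1, 4, 3, 2, 3, 2, 1, 3, 2, 3, 2, 1, 3, 2, 3, 2, 1, 3, 2, 3, 2, 1, 3, 2, 3, 2, 1, 4, 3, 2, 3, 2, 1, 3, 2, 3, 2, 1, 3, 2, 3, 2, 1, 3, 2, 3, 2, 1, 3, 2, 3, 2, 1, 4, 3, 2])) (.node (.leaf [2, 1, 0, 5, 2, 1, 0, 5, 2, 1, 0, 5, 2, 1, 0, 5, 2, 1, 0, 5]) (.leaf [0, 1, 0, 1, 0, 1, 0, 1, 0, 1])))) (.node (.node (.node (.leaf [3, 1, 3, 1]) (.leaf [2, 3, 2, 3, 4, 1, 2, 3, 2, 3, 1, 2, 3,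 2, 3, 1, 2, 3, 2, 3, 1, 2, 3, 2, 3, 1, 2, 3, 2, 3, 4, 1, 2, 3, 2, 3, 1, 2, 3, 2, 3, 1, 2, 3, 2, 3, 1, 2, 3, 2, 3, 1, 2, 3, 2, 3, 4, 1, 2, 3, 2, 3, 1, 2, 3, 2, 3, 1, 2, 3, 2, 3, 1, 2, 3, 2, 3, 1])) (.node (.leaf [2, 3, 0, 2, 3, 2, 3, 2, 3]) (.leaf [0, 1, 0, 1, 0, 1, 0, 1, 0, 1]))) (.node (.node (.leaf [5, 4, 5, 4]) (.leaf [3, 2, 3, 2, 1, 3, 2, 3, 2, 1, 3, 2, 3, 2, 1, 4, 3, 2, 3, 2, 1, 3, 2, 3, 2, 1, 3, 2, 3, 2, 1, 3, 2, 3, 2, 1, 3, 2, 3, 2, 1, 4, 3, 2, 3, 2, 1, 3, 2, 3, 2, 1, 3, 2, 3, 2, 1, 3, 2, 3, 2, 1, 3, 2, 3, 2, 1, 4, 3, 2, 3, 2, 1, 3, 2, 3, 2, 1])) (.node (.leaf [1, 2, 3, 2, 3, 1, 2, 3, 2, 3, 1, 2, 3, 2, 3, 1, 2, 3, 2, 3, 4, 1, 2, 3, 2, 3, 1, 2, 3, 2, 3, 1, 2, 3, 2, 3, 1, 2, 3, 2, 3, 1, 2, 3, 2, 3, 4, 1, 2, 3, 2, 3, 1, 2, 3, 2, 3, 1, 2, 3, 2, 3, 1, 2, 3, 2, 3, 1, 2, 3, 2, 3, 4, 1, 2, 3, 2, 3]) (.leaf [0, 1, 0, 1, 0, 1, 0, 1, 0, 1])))))) (.node (.node (.node (.node (.node (.leaf [2, 0,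 2, 0]) (.leaf [2, 3, 2, 3, 1, 2, 3, 2, 3, 1, 2, 3, 2, 3, 4, 1, 2, 3, 2, 3, 1, 2, 3, 2, 3, 1, 2, 3, 2, 3, 1, 2, 3, 2, 3, 1, 2, 3, 2, 3, 4, 1, 2, 3, 2, 3, 1, 2, 3, 2, 3, 1, 2, 3, 2, 3, 1, 2, 3, 2, 3, 1, 2, 3, 2, 3, 4, 1, 2, 3, 2, 3, 1, 2, 3, 2, 3, 1])) (.node (.leaf [3, 2, 3, 2, 0, 3, 2, 3, 2]) (.leaf [2, 3, 2, 1, 3, 2, 3, 2, 1, 4, 3, 2, 3, 2, 1, 3, 2, 3, 2, 1, 3, 2, 3, 2, 1, 3, 2, 3, 2, 1, 3, 2, 3, 2, 1, 4, 3, 2, 3, 2, 1, 3, 2, 3, 2, 1, 3, 2, 3, 2, 1, 3, 2, 3, 2, 1, 3, 2, 3, 2, 1, 4, 3, 2, 3, 2, 1, 3, 2, 3, 2, 1, 3, 2, 3, 2, 1, 3]))) (.node (.node (.leaf [3, 2, 3, 2, 3, 2, 3, 2, 3, 2, 3, 2, 3, 2, 3, 2]) (.leaf [3, 2, 3, 2, 1, 3, 2, 3, 2, 1, 3, 2, 3, 2, 1, 3, 2, 3, 2, 1, 3, 2, 3, 2, 1, 4, 3, 2, 3, 2, 1, 3, 2, 3, 2, 1, 3, 2, 3, 2, 1, 3, 2, 3, 2, 1, 3, 2, 3, 2, 1, 4, 3, 2, 3, 2, 1, 3, 2, 3, 2, 1, 3, 2, 3, 2, 1, 3, 2, 3, 2, 1, 3, 2, 3, 2, 1, 4])) (.node (.leaf [5, 0, 1, 2, 5, 0, 1, 2, 5, 0, 1,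 2, 5, 0, 1, 2, 5, 0, 1, 2]) (.leaf [0, 1, 0, 1, 0, 1, 0, 1, 0, 1])))) (.node (.node (.node (.leaf [2, 1, 2, 1, 2, 1]) (.leaf [3, 1, 2, 3, 2, 3, 4, 1, 2, 3, 2, 3, 1, 2, 3, 2, 3, 1, 2, 3, 2, 3, 1, 2, 3, 2, 3, 1, 2, 3, 2, 3, 4, 1, 2, 3, 2, 3, 1, 2, 3, 2, 3, 1, 2, 3, 2, 3, 1, 2, 3, 2, 3, 1, 2, 3, 2, 3, 4, 1, 2, 3, 2, 3, 1, 2, 3, 2, 3, 1, 2, 3, 2, 3, 1, 2, 3, 2])) (.node (.leaf [2, 3, 2, 3, 0, 2, 3, 2, 3]) (.leaf [1, 4, 3, 2, 3, 2, 1, 3, 2, 3, 2, 1, 3, 2, 3, 2, 1, 3, 2, 3, 2, 1, 3, 2, 3, 2, 1, 4, 3, 2, 3, 2, 1, 3, 2, 3, 2, 1, 3, 2, 3, 2, 1, 3, 2, 3, 2, 1, 3, 2, 3, 2, 1, 4, 3, 2, 3, 2, 1, 3, 2, 3, 2, 1, 3, 2, 3, 2, 1, 3, 2, 3, 2, 1, 3, 2, 3, 2]))) (.node (.node (.leaf [5, 3, 5, 3]) (.leaf [2, 1, 3, 2, 3, 2, 1, 3, 2, 3, 2, 1, 3, 2, 3, 2, 1, 4, 3, 2, 3, 2, 1, 3, 2, 3, 2, 1, 3, 2, 3, 2, 1, 3, 2, 3, 2, 1, 3, 2, 3, 2, 1, 4, 3, 2, 3, 2, 1, 3, 2, 3, 2, 1, 3, 2, 3, 2, 1, 3, 2, 3, 2, 1, 3, 2, 3, 2, 1, 4,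 3, 2, 3, 2, 1, 3, 2, 3])) (.node (.leaf [2, 3, 1, 2, 3, 2, 3, 1, 2, 3, 2, 3, 1, 2, 3, 2, 3, 1, 2, 3, 2, 3, 4, 1, 2, 3, 2, 3, 1, 2, 3, 2, 3, 1, 2, 3, 2, 3, 1, 2, 3, 2, 3, 1, 2, 3, 2, 3, 4, 1, 2, 3, 2, 3, 1, 2, 3, 2, 3, 1, 2, 3, 2, 3, 1, 2, 3, 2, 3, 1, 2, 3, 2, 3, 4, 1, 2, 3]) (.leaf [0, 1, 0, 1, 0, 1, 0, 1, 0, 1]))))) (.node (.node (.node (.node (.leaf [4, 0, 4, 0]) (.leaf [1, 2, 3, 2, 3, 1, 2, 3, 2, 3, 4, 1, 2, 3, 2, 3, 1, 2, 3, 2, 3, 1, 2, 3, 2, 3, 1, 2, 3, 2, 3, 1, 2, 3, 2, 3, 4, 1, 2, 3, 2, 3, 1, 2, 3, 2, 3, 1, 2, 3, 2, 3, 1, 2, 3, 2, 3, 1, 2, 3, 2, 3, 4, 1, 2, 3, 2, 3, 1, 2, 3, 2, 3, 1, 2, 3, 2, 3])) (.node (.leaf [2, 3, 2, 3, 2, 3, 2, 3, 0]) (.leaf [3, 2, 3, 2, 1, 4, 3, 2, 3, 2, 1, 3, 2, 3, 2, 1, 3, 2, 3, 2, 1, 3, 2, 3, 2, 1, 3, 2, 3, 2, 1, 4, 3, 2, 3, 2, 1, 3, 2, 3, 2, 1, 3, 2, 3, 2, 1, 3, 2, 3, 2, 1, 3, 2, 3, 2, 1, 4, 3, 2, 3, 2, 1, 3, 2, 3, 2, 1, 3, 2, 3, 2, 1, 3, 2, 3, 2, 1]))) (.node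 (.node (.leaf [5, 2, 5, 2]) (.leaf [1, 3, 2, 3, 2, 1, 3, 2, 3, 2, 1, 3, 2, 3, 2, 1, 3, 2, 3, 2, 1, 4, 3, 2, 3, 2, 1, 3, 2, 3, 2, 1, 3, 2, 3, 2, 1, 3, 2, 3, 2, 1, 3, 2, 3, 2, 1, 4, 3, 2, 3, 2, 1, 3, 2, 3, 2, 1, 3, 2, 3, 2, 1, 3, 2, 3, 2, 1, 3, 2, 3, 2, 1, 4, 3, 2, 3, 2])) (.node (.leaf [0, 5, 2, 1, 0, 5, 2, 1, 0, 5, 2, 1, 0, 5, 2, 1, 0, 5, 2, 1]) (.leaf [0, 1, 0, 1, 0, 1, 0, 1, 0, 1])))) (.node (.node (.node (.leaf [4, 1, 4, 1]) (.leaf [2, 3, 4, 1, 2, 3, 2, 3, 1, 2, 3, 2, 3, 1, 2, 3, 2, 3, 1, 2, 3, 2, 3, 1, 2, 3, 2, 3, 4, 1, 2, 3, 2, 3, 1, 2, 3, 2, 3, 1, 2, 3, 2, 3, 1, 2, 3, 2, 3, 1, 2, 3, 2, 3, 4, 1, 2, 3, 2, 3, 1, 2, 3, 2, 3, 1, 2, 3, 2, 3, 1, 2, 3, 2, 3, 1, 2, 3])) (.node (.leaf [0, 2, 3, 2, 3, 2, 3, 2, 3]) (.leaf [0, 1, 0, 1, 0, 1, 0, 1, 0, 1]))) (.node (.node (.leaf [3, 2, 3, 2, 3, 2, 3, 2, 0]) (.leaf [3, 2, 1, 3, 2, 3, 2, 1, 3, 2, 3, 2, 1, 4, 3, 2, 3, 2, 1, 3, 2, 3, 2, 1, 3, 2, 3, 2,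 1, 3, 2, 3, 2, 1, 3, 2, 3, 2, 1, 4, 3, 2, 3, 2, 1, 3, 2, 3, 2, 1, 3, 2, 3, 2, 1, 3, 2, 3, 2, 1, 3, 2, 3, 2, 1, 4, 3, 2, 3, 2, 1, 3, 2, 3, 2, 1, 3, 2])) (.node (.leaf [3, 2, 3, 1, 2, 3, 2, 3, 1, 2, 3, 2, 3, 1, 2, 3, 2, 3, 4, 1, 2, 3, 2, 3, 1, 2, 3, 2, 3, 1, 2, 3, 2, 3, 1, 2, 3, 2, 3, 1, 2, 3, 2, 3, 4, 1, 2, 3, 2, 3, 1, 2, 3, 2, 3, 1, 2, 3, 2, 3, 1, 2, 3, 2, 3, 1, 2, 3, 2, 3, 4, 1, 2, 3, 2, 3, 1, 2]) (.leaf [0, 1, 0, 1, 0, 1, 0, 1, 0, 1]))))))))

def hints_0 : List (ℕ × ℕ × Bool) := [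
  (0, 0, false), (17, 8, false), (15, 2, false), (17, 14, true), (8, 0, false), (17, 24, false), (16, 0, false), (0, 0, false),
  (4, 0, false), (17, 16, false), (15, 1, true), (17, 22, true), (12, 0, false), (17, 6, true), (17, 0, false), (0, 0, false),
  (2, 0, false), (17, 12, false), (15, 6, false), (17, 18, true), (10, 0, false), (17, 2, true), (16, 0, true), (0, 0, false),
  (6, 0, false), (17, 20, false), (15, 5, true), (0, 0, false), (14, 0, false), (17, 10, true), (17, 4, false), (0, 0, false),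
  (1, 0, false), (17, 10, false), (15, 4, false), (17, 16, true), (9, 0, false), (17, 0, true), (16, 2, false), (0, 0, false),
  (5, 0, false), (17, 18, false), (15, 3, true), (17, 24, true), (13, 0, false), (17, 8, true), (17, 2, false), (0, 0, false),
  (3, 0, false), (17, 14, false), (15, 8, false), (17, 20, true), (11, 0, false), (17, 4, true), (16, 2, true), (0, 0, false),
  (7, 0, false), (17, 22, false), (15, 7, true), (0, 0, false), (15, 0, false), (17, 12, true), (17, 6, false), (0, 0, false),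
  (0, 1, false), (17, 9, false), (15, 3, false), (17, 15, true), (8, 1, false), (17, 25, false), (16, 1, false), (0, 0, false),
  (4, 1, false), (17, 17, false), (15, 2, true), (17, 23, true), (12, 1, false), (17, 7, true), (17, 1, false), (0, 0, false),
  (2, 1, false), (17, 13, false), (15, 7, false), (17, 19, true), (10, 1, false), (17, 3, true), (16, 1, true), (0, 0, false),
  (6, 1, false), (17, 21, false), (15, 6, true), (0, 0, false), (14, 1, false), (17, 11, true), (17, 5, false), (0, 0, false),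
  (1, 1, false), (17, 11, false), (15, 5, false), (17, 17, true), (9, 1, false), (17, 1, true), (16, 3, false), (0, 0, false),
  (5, 1, false), (17, 19, false), (15, 4, true), (17, 25, true), (13, 1, false), (17, 9, true), (17, 3, false), (0, 0, false),
  (3, 1, false), (17, 15, false), (15, 0, true), (17, 21, true), (11, 1, false), (17, 5, true), (16, 3, true), (0, 0, false),
  (7, 1, false), (17, 23, false), (15, 8, true), (0, 0, false), (15, 1, false), (17, 13, true), (17, 7, false), (0, 0, false)]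
def hints : List (ℕ × ℕ × Bool) :=
  hints_0

/-- subgroup words -/
def sw : List (List ℕ) := [[0], [1], [2], [3], [4]]

def subs : List (List ℕ) := [[0], [1], [2], [3], [4]]

/-- parameters -/
def P : Params := ⟨tab, 6, rots, subs⟩

def tree_0 : List ℕ := [
  5, 7, 12, 14, 20, 19, 27, 33,
  31, 49, 36, 38, 68, 56, 54, 84,
  60, 65, 87, 75, 81, 44, 135, 46,
  52, 136, 142, 64, 106, 112, 118, 124,
  130, 62, 104, 170, 176, 110, 116, 182,
  188, 79, 127, 199, 91, 103, 175, 122,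
  291, 194, 200, 133, 139, 157, 205, 163,
  217, 159, 165, 327, 339, 207, 231, 213,
  237, 333, 398, 330, 318, 312, 342, 336,
  324, 366, 360, 219, 225, 345, 243, 249,
  429, 247, 301, 481, 303, 309, 501, 317,
  425, 323, 419, 329, 443, 335, 413, 341,
  437, 347, 431, 365, 455, 371, 449, 401,
  626, 473, 491, 350, 356, 362, 452, 368,
  446, 602, 608, 614, 620, 376, 382, 400,
  406, 460, 478, 472, 490, 628, 634, 640,
  646, 458, 783, 734, 476, 801, 740, 790,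
  808, 470, 488, 746, 752, 638, 644, 770,
  776, 512, 518, 571, 631, 595, 763, 643,
  775, 649, 655, 661, 673, 663, 950, 939,
  687, 968, 667, 955, 679, 675, 837, 681,
  831, 945, 699, 861, 705, 855, 993, 685,
  967, 697, 1027, 691, 973, 703, 1039, 781,
  829, 787, 793, 841, 1015, 817, 795, 819,
  813, 1148, 1125, 1143, 799, 805, 811, 823,
  1159, 1165, 835, 1003, 847, 843, 849, 1131,
  867, 873, 1233, 853, 1045, 865, 1255, 877,
  883, 924, 930, 936, 942, 960, 1020, 929,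
  935, 1313, 1319, 941, 947, 1325, 1061, 1073,
  965, 1337, 1067, 1025, 1079, 952, 958, 964,
  1000, 1012, 1024, 970, 976, 1030, 1042, 988,
  1054, 1336, 1342, 1402, 1420, 1006, 1018, 1036,
  1048, 1066, 1078, 1414, 1426, 1090, 1102, 1228,
  1246, 1533, 1264, 1545, 1270, 1138, 1252, 962,
  1340, 1334, 1022, 986, 1442, 1502, 1490, 1508,
  1460, 1406, 1418, 1520, 1226, 1586, 1639, 1673,
  1645, 1681, 1669, 978, 984, 990, 1656, 1488,
  1674, 1050, 1494, 1722, 1740, 1052, 1790, 1136,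
  1496, 1796, 1622, 1055, 1793, 1103, 1817, 1823,
  1499, 1799, 1583, 1835, 1841, 1098, 1578, 1860,
  1890, 1100, 1910, 1580, 1916, 1862, 1922, 1892,
  1928, 1104, 1110, 1116, 1122, 1128, 1134, 1140,
  1248, 1620, 1626, 1109, 1985, 1187, 1115, 1991,
  1121, 1997, 1193, 1127, 2003, 1199, 1133, 2009,
  1139, 2015, 1145, 2021, 1205, 1175, 1211, 1181,
  1217, 1253, 2027, 1829, 1625, 2033, 1631, 2039,
  1847, 1218, 1230, 1250, 2024, 1628, 2036, 2174,
  2180, 2204, 2210, 1268, 1616, 1296, 1302, 1301,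
  1307, 2297, 2303, 1736, 1748, 1753, 1759, 1765,
  1777, 1789, 1795, 1833, 1839, 1899, 1905, 1939]
def tree_1 : List ℕ := [
  1951, 2065, 2125, 2113, 2197, 2179, 2209, 2239,
  2251, 2263, 2275, 2438, 2462, 2444, 2468]
def tree : List ℕ :=
  (tree_0 ++ tree_1)

def ph0_0 : List ℕ := [
  2048, 2049, 2050, 2051, 2052, 4125, 8206, 12294,
  16404, 98329, 24590, 20500, 36878, 102425, 61446, 57364,
  65542, 127001, 184334, 45062, 49172, 131097, 53268, 172046,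
  135193, 180236, 4123, 8204, 12292, 94250, 32807, 90151,
  16423, 106503, 237573, 442371, 102407, 217098, 110613, 106498,
  446507, 634892, 897028, 921627, 929819, 282626, 368663, 372759,
  24588, 45060, 200746, 86055, 196647, 49191, 135175, 208899,
  602155, 888844, 602151, 352295, 1568772, 1576987, 1585179, 200724,
  196614, 348184, 598036, 884750, 1564678, 1572893, 1581085, 4119,
  16395, 4135, 45056, 172042, 184321, 28685, 188417, 213002,
  98319, 221194, 299010, 376855, 651305, 651303, 450599, 299055,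
  380955, 978951, 671756, 1200132, 1601548, 380951, 286722, 360471,
  364567, 8208, 12296, 16406, 20488, 28698, 57397, 65544,
  65559, 65553, 184330, 32776, 90134, 98332, 102408, 106518,
  110600, 376849, 237594, 241672, 442390, 446472, 917521, 921613,
  393233, 94236, 368657, 360465, 73745, 122895, 1695755, 1687563,
  1626138, 1622042, 1576969, 1572869, 1556500, 1536022, 1531926, 1527830,
  1523734, 1531907, 1548297, 1503235, 1523732, 1540125, 1482772, 1523715,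
  1536006, 1540105, 1482755, 1552390, 1683470, 1507348, 1667086, 1388573,
  1695764, 1699854, 1675278, 1495063, 1495049, 1445917, 1445911, 1511444,
  1257501, 1437723, 1454107, 1425435, 1454089, 1445897, 1499142, 1658894,
  1384477, 1437705, 1486852, 1662988, 1380379, 1425417, 1413129, 1404937,
  1392649, 1343491, 1327126, 1335299, 1318934, 1327107, 1347592, 1314838,
  1318932, 1335325, 1339398, 1269780, 1310726, 1318915, 1331206, 1339400,
  1310742, 1306653, 1642510, 1286167, 1282071, 1282057, 1294339, 1630213,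
  1249289, 1622021, 1261597, 1265687, 1261591, 1294356, 1249309, 1261577,
  1273859, 1286150, 1298452, 1224733, 1617934, 1253396, 1236999, 1204228,
  1605644, 1212418, 1200134, 1601550, 1200130, 1216532, 1142790, 1167380,
  1159188, 1126422, 1122326, 1126420, 1163292, 1036310, 1118228, 1175566,
  1228806, 1122324, 1183758, 1155101, 1589268, 1114132, 1118211, 1146887,
  1028099, 1114115, 1134599, 983043, 1044495, 1040399, 1011727, 1003535,
  1060892, 1056796, 1007631, 999439, 983068, 978959, 999445, 974869,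
  938011, 954377, 933915, 933897, 958468, 909339, 921609, 917509,
  905220, 876556, 868364, 847885, 1085455, 843789, 831500, 815116,
  1433627, 811022, 1421341, 806924, 1400859, 786445, 782349, 761870,
  1359878, 1413149, 1417222, 757772, 1355780, 1404955, 1409028, 1646604,
  753676, 1351684, 1392667, 1396740, 745484, 729100, 950299, 720908,
  946203, 688141, 991247, 679949, 987151, 647181, 1130507, 974863,
  1142795, 622606, 610318, 585748, 1048601, 581652, 868366, 1097752,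
  569366, 684058, 1040412, 565270, 692250, 1044508, 1089562, 569364,
  831502, 1040409, 593948, 528406, 860186, 1093660, 1081356, 1515526,
  565268, 757774, 1089560, 589852, 524310, 856090, 1089551, 1105932,
  1384452, 1495067, 1499140, 1404952, 1409030, 1646606, 1355805, 1658905,
  544788, 806926, 1400861, 532500, 753678, 786456, 802830, 1474589,
  1392664, 1396742, 1351709, 516117, 491548, 491541, 520214, 430108,
  462870, 688154, 1261585, 991260, 1282065, 458774, 938001, 679962,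
  966673, 987164, 1036305, 454678, 450582, 471049, 933905, 647194,
  954385, 651286, 974876, 1032209, 978966, 999433, 659463, 471044,
  737292, 413727, 458755, 679941, 475145, 417795, 700421, 1007623,
  987145, 405531, 614412, 401435, 385051, 393243, 417805, 729098]
def ph0_1 : List ℕ := [
  950295, 376859, 376837, 409613, 720906, 946199, 401417, 434181,
  581635, 524295, 319497, 565251, 507911, 573443, 843781, 589833,
  856069, 1097735, 1052677, 1089545, 1044485, 692231, 712713, 393225,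
  421892, 303131, 385033, 368643, 360457, 348173, 335884, 311309,
  753674, 499727, 765962, 1363970, 1425431, 1429506, 1392661, 1396738,
  1351703, 253965, 483343, 241677, 634890, 897026, 921623, 237581,
  630794, 892930, 917527, 1126441, 1118255, 1175564, 1228804, 1159195,
  925742, 237592, 245774, 442388, 630798, 892934, 638996, 917533,
  925702, 933908, 946190, 1032217, 1064972, 983067, 1024004, 974860,
  978948, 450584, 999451, 1003524, 1056780, 466968, 471046, 720910,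
  409620, 413702, 307229, 454676, 667662, 1196038, 1015833, 1212420,
  1609740, 1597464, 737294, 1073177, 901144, 217102, 282630, 368669,
  372742, 213006, 286726, 213017, 360477, 364550, 360473, 364548,
  430121, 430119, 520199, 274441, 274436, 495623, 286767, 610316,
  188430, 192519, 176142, 172044, 159764, 155668, 487449, 139286,
  253978, 483356, 143380, 139284, 225294, 483353, 163868, 122902,
  323610, 544790, 503836, 552982, 1433617, 790554, 1470481, 1400847,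
  1421325, 1462287, 548880, 561180, 491532, 495620, 516123, 847914,
  843822, 1523723, 1089557, 856087, 860162, 1097749, 520233, 618508,
  389144, 385030, 606222, 397333, 278557, 294933, 229378, 688170,
  679982, 1126411, 987157, 700439, 708610, 393235, 1007637, 1011714,
  1093651, 1085463, 1560587, 991272, 1249291, 1237007, 1556495, 1150987,
  1183756, 102411, 114700, 122907, 532519, 540679, 544777, 552967,
  782341, 1531915, 139267, 253957, 147463, 114691, 311301, 536609,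
  118802, 192524, 49163, 172033, 81933, 131087, 339978, 176133,
  180231, 36876, 61444, 65563, 266282, 258092, 266271, 77855,
  159747, 126983, 77832, 159766, 127004, 167958, 167945, 327706,
  327689, 327703, 266266, 487445, 790568, 561199, 790559, 786440,
  1474577, 790557, 823310, 819225, 1470493, 1462297, 184332]

def ph1_0 : List Aux := [
  .node 39 1, .node 48 1, .derive 417 [.bwd 0, .edge 2, .edge 1, .edge 2, .fwd 1] [2] (.rel 10), .node 63 1, .node 67 1, .derive 419 [.bwd 0, .edge 2, .edge 1, .edge 2, .fwd 1] [2] (.rel 10), .node 68 1, .derive 420 [.bwd 0, .edge 3, .fwd 2] [3] (.rel 12),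
  .node 89 1, .node 91 1, .derive 422 [.bwd 0, .edge 3, .fwd 1] [3] (.rel 12), .node 94 1, .derive 423 [.bwd 0, .edge 2, .edge 1, .edge 2, .fwd 0] [2] (.rel 10), .node 104 1, .derive 424 [.bwd 0, .edge 3, .fwd 2] [3] (.rel 12), .derive 424 [.bwd 1, .edge 5, .edge 1, .edge 5, .fwd 11] [5] (.rel 16),
  .node 148 0, .node 148 2, .derive 426 [.bwd 0, .edge 1, .edge 0, .edge 5, .edge 2, .edge 1, .edge 0, .edge 5, .edge 2, .edge 1, .edge 0, .edge 5, .edge 2, .edge 1, .edge 0, .edge 5, .edge 2, .edge 1, .fwd 1] [5] (.rel 53), .node 148 5, .derive 427 [.bwd 0, .fwd 2, .fwd 1] [2] (.rel 23), .node 149 0, .derive 428 [.bwd 0, .edge 3, .fwd 5] [3] (.rel 4), .node 149 2,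
  .node 149 5, .derive 430 [.bwd 0, .edge 3, .fwd 5] [3] (.rel 27), .node 150 0, .node 150 2, .derive 432 [.bwd 0, .edge 4, .fwd 10] [4] (.rel 20), .derive 432 [.bwd 1, .edge 1, .edge 0, .edge 5, .edge 2, .edge 1, .edge 0, .edge 5, .edge 2, .edge 1, .edge 0, .edge 5, .edge 2, .edge 1, .edge 0, .edge 5, .edge 2, .edge 1, .fwd 2] [5] (.rel 53), .node 150 5, .derive 433 [.bwd 0, .edge 4, .fwd 11] [4] (.rel 29),
  .node 151 0, .derive 434 [.bwd 0, .edge 4, .fwd 11] [4] (.rel 6), .node 152 0, .derive 435 [.bwd 0, .edge 3, .fwd 8] [3] (.rel 4), .node 153 0, .derive 436 [.bwd 0, .edge 3, .fwd 4] [3] (.rel 4), .derive 436 [.bwd 1, .edge 4, .fwd 3] [4] (.rel 6), .node 417 5,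
  .node 419 5, .derive 438 [.bwd 0, .bwd 36, .edge 5, .edge 1, .fwd 16] [1] (.rel 17), .derive 438 [.bwd 1, .fwd 36, .bwd 26] [2] (.rel 23), .derive 429 [.bwd 19, .edge 1, .edge 2, .fwd 29, .bwd 0, .fwd 1] [] (.rel 11), .derive 430 [.bwd 0] [] (.free), .derive 429 [.bwd 0, .fwd 19] [3] (.free), .derive 428 [.fwd 23, .bwd 25, .bwd 0, .bwd 22, .edge 3, .fwd 29, .bwd 25, .bwd 20, .fwd 1, .bwd 22] [] (.rel 42), .derive 428 [.fwd 0] [] (.free),
  .derive 149 [.bwd 0, .bwd 14] [4] (.free), .derive 151 [.edge 4, .fwd 0] [] (.free), .derive 434 [.bwd 0] [] (.free), .derive 151 [.bwd 0, .bwd 13] [3] (.free), .derive 153 [.edge 3, .fwd 0] [] (.free), .derive 436 [.bwd 0] [] (.free), .derive 153 [.bwd 0, .fwd 15] [4] (.free), .derive 152 [.edge 4, .fwd 0] [] (.free),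
  .derive 435 [.bwd 0] [] (.free), .derive 152 [.bwd 0, .fwd 21] [3] (.free), .derive 150 [.edge 3, .fwd 0] [] (.free), .derive 431 [.bwd 0] [] (.free), .derive 150 [.bwd 0, .bwd 30] [5] (.free), .derive 433 [.bwd 30, .fwd 0] [] (.free), .derive 433 [.fwd 0] [] (.free), .derive 432 [.bwd 0, .fwd 31] [4] (.free),
  .derive 426 [.bwd 35, .fwd 0] [] (.free), .derive 427 [.bwd 0] [] (.free), .node 420 5, .derive 439 [.bwd 0, .bwd 60, .edge 5, .edge 1, .fwd 47, .fwd 1] [1] (.rel 17), .derive 439 [.bwd 1, .fwd 60, .fwd 27] [3] (.rel 27), .derive 422 [.bwd 59, .edge 2, .edge 1, .fwd 51, .bwd 1] [2] (.rel 10), .derive 438 [.fwd 27, .fwd 55, .fwd 57, .bwd 55, .bwd 27, .bwd 1, .bwd 0, .fwd 59] [0] (.rel 39), .derive 437 [.bwd 31, .fwd 68, .bwd 70, .edge 0, .edge 5, .edge 2, .edge 1, .edge 0, .edge 5, .edge 2, .edge 1, .edge 0, .edge 5, .edge 2, .fwd 62, .bwd 0, .bwd 30, .fwd 65, .bwd 67, .edge 0] []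 (.rel 52),
  .derive 437 [.fwd 0] [] (.free), .derive 65 [.bwd 0, .bwd 33] [5] (.free), .derive 64 [.edge 5, .fwd 0] [] (.free), .derive 417 [.bwd 0] [] (.free), .derive 48 [.fwd 74, .fwd 0] [1] (.free), .commit 0]
def ph1 : List Aux :=
  ph1_0

def ph2_0 : List ℕ := [
  159755, 200717, 339982, 196624, 372786, 610305, 606218, 364557,
  397327, 282641, 86064, 176144, 53274, 135196, 188467, 192533,
  151563, 315405, 761866, 315406, 499719, 557077, 778250, 561171,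
  344086, 483367, 503847, 487455, 266246, 339976, 204816, 348186,
  192565, 598038, 1572881, 327704, 495616, 487435, 512013, 274447,
  618512, 626714, 610332, 606217, 614407, 622597, 618505, 614454,
  626693, 839690, 1519618, 163840, 503821, 380983, 413709, 737290,
  421903, 307217, 667658, 675861, 745482, 155663, 1532010, 1536004,
  1548315, 1257515, 1257511, 1384494, 1372181, 1499159, 1511427, 1450005,
  1552427, 1429536, 1458201, 1474565, 1376283, 802821, 1376296, 1568803,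
  1585175, 1576962, 1581077, 1572910, 1421322, 811031, 1228846, 1560682,
  1171497, 1171495, 1101863, 1081375, 1560607, 1556487, 864259, 1589252,
  1519657, 1380352, 1671178, 1388559, 1675274, 1384461, 1372175, 823306,
  1253376, 1617930, 1683468, 1622029, 1675276, 172048, 45078]

def ph3_0 : List Aux := [
  .node 35 1, .node 37 1, .derive 441 [.bwd 0, .edge 4, .fwd 1] [4] (.rel 14), .node 38 1, .node 39 1, .derive 443 [.bwd 0, .edge 4, .edge 1] [4] (.rel 14), .node 40 1, .node 43 2,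
  .node 43 5, .node 44 2, .derive 447 [.bwd 0, .edge 4, .fwd 2] [4] (.rel 20), .node 44 5, .derive 448 [.bwd 0, .edge 4, .fwd 3] [4] (.rel 29), .node 46 2, .node 46 5, .node 47 2,
  .derive 451 [.bwd 0, .edge 4, .fwd 2] [4] (.rel 20), .node 47 5, .derive 452 [.bwd 0, .edge 4, .fwd 3] [4] (.rel 29), .node 48 1, .derive 453 [.bwd 0, .edge 2, .edge 1, .edge 2, .fwd 15] [2] (.rel 10), .derive 453 [.bwd 1, .edge 4, .edge 1] [4] (.rel 14), .node 48 5, .node 49 1,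
  .node 49 5, .derive 456 [.bwd 0, .edge 3, .fwd 2] [3] (.rel 27), .node 50 5, .derive 457 [.bwd 0, .edge 4, .fwd 4] [4] (.rel 29), .node 51 1, .derive 458 [.bwd 0, .edge 4, .fwd 5] [4] (.rel 14), .node 51 5, .derive 459 [.bwd 0, .edge 4, .fwd 6] [4] (.rel 29),
  .node 63 1, .derive 460 [.bwd 0, .edge 3, .fwd 29] [3] (.rel 12), .node 64 1, .derive 461 [.bwd 0, .edge 3, .fwd 34] [3] (.rel 12), .node 64 4, .node 65 1, .derive 463 [.bwd 0, .edge 3, .fwd 33] [3] (.rel 12), .node 65 4,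
  .derive 464 [.bwd 0, .edge 5, .fwd 3] [5] (.rel 28), .node 67 1, .derive 465 [.bwd 0, .edge 2, .edge 1, .edge 2, .fwd 9] [2] (.rel 10), .node 68 1, .derive 466 [.bwd 0, .edge 3, .fwd 2] [3] (.rel 12), .node 71 1, .derive 467 [.bwd 0, .edge 4, .fwd 2] [4] (.rel 14), .node 77 4,
  .derive 468 [.bwd 0, .edge 2, .edge 4] [2] (.rel 21), .node 79 1, .derive 469 [.bwd 0, .edge 3, .fwd 43] [3] (.rel 12), .node 80 4, .derive 470 [.bwd 0, .edge 0, .edge 4] [0] (.rel 7), .derive 470 [.bwd 1, .edge 2, .edge 4] [2] (.rel 21), .derive 470 [.bwd 2, .edge 3, .edge 4, .edge 3, .fwd 14] [3] (.rel 25), .derive 470 [.bwd 3, .edge 5, .fwd 7] [5] (.rel 28),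
  .node 81 1, .derive 471 [.bwd 0, .edge 3, .fwd 11] [3] (.rel 12), .node 82 0, .node 82 5, .node 83 0, .node 83 5, .node 84 0, .derive 476 [.bwd 0, .edge 3, .fwd 4] [3] (.rel 4),
  .node 84 2, .node 84 5, .derive 478 [.bwd 0, .edge 3, .fwd 6] [3] (.rel 27), .node 86 1, .derive 479 [.bwd 0, .edge 3, .fwd 39] [3] (.rel 12), .derive 479 [.bwd 1, .edge 4, .edge 1] [4] (.rel 14), .node 87 0, .derive 480 [.bwd 0, .edge 3, .fwd 10] [3] (.rel 4),
  .node 87 2, .node 87 5, .derive 482 [.bwd 0, .edge 3, .fwd 12] [3] (.rel 27), .node 89 1, .node 91 1, .derive 484 [.bwd 0, .edge 3, .fwd 1] [3] (.rel 12), .node 94 1, .derive 485 [.bwd 0, .edge 2, .edge 1, .edge 2, .fwd 0] [2] (.rel 10),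
  .derive 485 [.bwd 1, .edge 5, .edge 1, .edge 5, .fwd 76] [5] (.rel 16), .node 98 1, .derive 486 [.bwd 0, .edge 4, .fwd 3] [4] (.rel 14), .derive 486 [.bwd 1, .edge 5, .edge 1, .edge 5, .fwd 76] [5] (.rel 16), .node 104 1, .derive 487 [.bwd 0, .edge 3, .fwd 6] [3] (.rel 12), .derive 487 [.bwd 1, .edge 5, .edge 1, .edge 5, .fwd 53] [5] (.rel 16), .node 106 1,
  .derive 488 [.bwd 0, .edge 5, .edge 1, .edge 5, .fwd 38] [5] (.rel 16), .node 119 1, .node 121 1, .derive 490 [.bwd 0, .edge 2, .edge 1, .edge 2, .fwd 1] [2] (.rel 10), .derive 490 [.bwd 1, .edge 4, .fwd 50] [4] (.rel 14), .node 125 1, .derive 491 [.bwd 0, .edge 4, .fwd 37] [4] (.rel 14), .node 126 1,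
  .derive 492 [.bwd 0, .edge 4, .fwd 11] [4] (.rel 14), .derive 492 [.bwd 1, .edge 5, .edge 1, .edge 5, .fwd 7] [5] (.rel 16), .node 148 0, .node 148 2]
def ph3_1 : List Aux := [
  .derive 494 [.bwd 0, .edge 1, .edge 0, .edge 5, .edge 2, .edge 1, .edge 0, .edge 5, .edge 2, .edge 1, .edge 0, .edge 5, .edge 2, .edge 1, .edge 0, .edge 5, .edge 2, .edge 1, .fwd 1] [5] (.rel 53), .node 148 5, .derive 495 [.bwd 0, .fwd 2, .fwd 1] [2] (.rel 23), .node 149 0, .derive 496 [.bwd 0, .edge 3, .fwd 5] [3] (.rel 4), .node 149 2, .node 149 5, .derive 498 [.bwd 0, .edge 3, .fwd 5] [3] (.rel 27),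
  .node 150 0, .node 150 2, .derive 500 [.bwd 0, .edge 4, .fwd 10] [4] (.rel 20), .derive 500 [.bwd 1, .edge 1, .edge 0, .edge 5, .edge 2, .edge 1, .edge 0, .edge 5, .edge 2, .edge 1, .edge 0, .edge 5, .edge 2, .edge 1, .edge 0, .edge 5, .edge 2, .edge 1, .fwd 2] [5] (.rel 53), .node 150 5, .derive 501 [.bwd 0, .edge 4, .fwd 11] [4] (.rel 29), .node 151 0, .derive 502 [.bwd 0, .edge 4, .fwd 11] [4] (.rel 6),
  .node 152 0, .derive 503 [.bwd 0, .edge 3, .fwd 8] [3] (.rel 4), .node 153 0, .derive 504 [.bwd 0, .edge 3, .fwd 4] [3] (.rel 4), .derive 504 [.bwd 1, .edge 4, .fwd 3] [4] (.rel 6), .node 163 2, .node 163 5, .node 165 2,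
  .derive 507 [.bwd 0, .edge 4, .fwd 2] [4] (.rel 20), .node 177 2, .node 179 0, .node 179 2, .node 180 2, .node 180 5, .derive 512 [.bwd 0, .edge 1, .edge 5, .edge 1, .fwd 7] [1] (.rel 17), .node 181 2,
  .derive 513 [.bwd 0, .edge 1, .edge 2, .edge 1, .fwd 6] [1] (.rel 11), .node 181 5, .node 182 2, .derive 515 [.bwd 0, .edge 4, .fwd 6] [4] (.rel 20), .node 182 5, .derive 516 [.bwd 0, .edge 4, .fwd 7] [4] (.rel 29), .node 186 2, .node 190 2,
  .node 195 0, .derive 519 [.bwd 0, .edge 3, .edge 0] [3] (.rel 4), .node 195 2, .node 196 0, .derive 521 [.bwd 0, .edge 3, .edge 0] [3] (.rel 4), .derive 521 [.bwd 1, .edge 4, .fwd 4] [4] (.rel 6), .node 196 2, .derive 522 [.bwd 0, .edge 4, .fwd 4] [4] (.rel 20),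
  .node 197 0, .node 197 2, .node 198 2, .derive 525 [.bwd 0, .edge 1, .edge 2, .edge 1, .fwd 86] [1] (.rel 11), .node 199 0, .derive 526 [.bwd 0, .edge 4, .fwd 4] [4] (.rel 6), .node 199 2, .derive 527 [.bwd 0, .edge 4, .fwd 5] [4] (.rel 20),
  .node 201 0, .derive 528 [.bwd 0, .edge 3, .fwd 4] [3] (.rel 4), .node 201 2, .node 202 0, .derive 530 [.bwd 0, .edge 4, .fwd 3] [4] (.rel 6), .node 202 2, .derive 531 [.bwd 0, .edge 1, .edge 2, .edge 1, .fwd 19] [1] (.rel 11), .derive 531 [.bwd 1, .edge 4, .fwd 4] [4] (.rel 20),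
  .node 204 0, .node 211 0, .node 212 5, .derive 534 [.bwd 0, .edge 1, .edge 5, .edge 1, .edge 5] [1] (.rel 17), .node 213 4, .derive 535 [.bwd 0, .edge 1, .edge 4] [1] (.rel 15), .node 213 5, .derive 536 [.bwd 0, .edge 1, .edge 5, .edge 1, .edge 5] [1] (.rel 17),
  .node 214 5, .derive 537 [.bwd 0, .edge 4, .fwd 6] [4] (.rel 29), .node 215 4, .derive 538 [.bwd 0, .edge 1, .edge 4] [1] (.rel 15), .derive 538 [.bwd 1, .edge 3, .edge 4, .edge 3, .fwd 7] [3] (.rel 25), .node 216 2, .derive 539 [.bwd 0, .edge 1, .edge 2, .edge 1, .fwd 105] [1] (.rel 11), .node 217 2,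
  .node 221 5, .node 223 5, .derive 542 [.bwd 0, .edge 3, .fwd 1] [3] (.rel 27), .node 232 0, .derive 543 [.bwd 0, .edge 2, .fwd 0] [2] (.rel 2), .node 233 2, .derive 544 [.bwd 0, .edge 5, .edge 2] [5] (.rel 22), .node 234 1,
  .node 234 4, .derive 546 [.bwd 0, .edge 0, .edge 4] [0] (.rel 7), .derive 546 [.bwd 1, .edge 2, .edge 4] [2] (.rel 21), .derive 546 [.bwd 2, .edge 5, .edge 4] [5] (.rel 28), .node 237 0, .derive 547 [.bwd 0, .edge 3, .fwd 9] [3] (.rel 4), .derive 547 [.bwd 1, .edge 5, .fwd 67] [5] (.rel 8), .node 237 2,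
  .derive 548 [.bwd 0, .edge 5, .fwd 68] [5] (.rel 22), .node 251 5, .node 252 2, .derive 550 [.bwd 0, .bwd 9, .fwd 8] [0] (.rel 3)]
def ph3_2 : List Aux := [
  .derive 550 [.bwd 1, .edge 5, .edge 2] [5] (.rel 22), .node 258 0, .node 258 2, .derive 552 [.bwd 0, .edge 4, .fwd 77] [4] (.rel 20), .node 259 0, .derive 553 [.bwd 0, .edge 4, .fwd 78] [4] (.rel 6), .node 259 2, .derive 554 [.bwd 0, .edge 4, .fwd 79] [4] (.rel 20),
  .node 260 0, .derive 555 [.bwd 0, .edge 5, .fwd 7] [5] (.rel 8), .node 260 2, .derive 556 [.bwd 0, .edge 5, .fwd 8] [5] (.rel 22), .node 261 0, .derive 557 [.bwd 0, .edge 3, .fwd 4] [3] (.rel 4), .derive 557 [.bwd 1, .edge 5, .fwd 9] [5] (.rel 8), .node 261 2,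
  .derive 558 [.bwd 0, .edge 5, .fwd 9] [5] (.rel 22), .node 262 2, .derive 559 [.bwd 0, .edge 4, .fwd 86] [4] (.rel 20), .node 262 5, .derive 560 [.bwd 0, .edge 4, .fwd 86] [4] (.rel 29), .node 264 0, .derive 561 [.bwd 0, .edge 4, .fwd 57] [4] (.rel 6), .node 269 0,
  .derive 562 [.bwd 0, .edge 3, .fwd 2] [3] (.rel 4), .derive 562 [.bwd 1, .edge 4, .fwd 59] [4] (.rel 6), .node 273 5, .derive 563 [.bwd 0, .edge 3, .bwd 40] [3] (.rel 27), .node 277 3, .node 278 3, .node 279 3, .derive 566 [.bwd 0, .edge 1, .fwd 2] [1] (.rel 13),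
  .node 280 3, .node 280 5, .derive 568 [.bwd 0, .edge 2, .fwd 36] [2] (.rel 23), .node 282 1, .node 283 1, .derive 570 [.bwd 0, .edge 3, .fwd 1] [3] (.rel 12), .node 286 3, .node 287 2,
  .node 288 1, .derive 573 [.bwd 0, .edge 4, .fwd 5] [4] (.rel 14), .node 289 0, .node 290 2, .derive 575 [.bwd 0, .edge 4, .fwd 4] [4] (.rel 20), .node 290 3, .derive 576 [.bwd 0, .edge 1, .fwd 13] [1] (.rel 13), .derive 576 [.bwd 1, .edge 4, .edge 3, .edge 4, .fwd 16] [4] (.rel 24),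
  .node 291 0, .derive 577 [.bwd 0, .edge 4, .fwd 6] [4] (.rel 6), .node 291 3, .derive 578 [.bwd 0, .edge 1, .fwd 21] [1] (.rel 13), .node 292 2, .derive 579 [.bwd 0, .edge 0, .fwd 131] [0] (.rel 3), .node 294 2, .derive 580 [.bwd 0, .edge 4, .fwd 2] [4] (.rel 20),
  .node 295 1, .node 297 1, .derive 582 [.bwd 0, .edge 4, .fwd 1] [4] (.rel 14), .node 300 1, .derive 583 [.bwd 0, .edge 3, .fwd 3] [3] (.rel 12), .node 300 2, .derive 584 [.bwd 0, .edge 0, .fwd 22] [0] (.rel 3), .node 300 5,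
  .node 301 1, .derive 586 [.bwd 0, .edge 4, .fwd 5] [4] (.rel 14), .node 301 2, .derive 587 [.bwd 0, .edge 4, .fwd 5] [4] (.rel 20), .node 301 5, .derive 588 [.bwd 0, .edge 4, .fwd 5] [4] (.rel 29), .node 302 3, .node 303 3,
  .derive 590 [.bwd 0, .edge 0, .fwd 1] [0] (.rel 5), .node 304 0, .derive 591 [.bwd 0, .edge 2, .edge 0] [2] (.rel 2), .node 304 3, .derive 592 [.bwd 0, .edge 1, .fwd 5] [1] (.rel 13), .node 307 0, .derive 593 [.bwd 0, .edge 2, .edge 0] [2] (.rel 2), .derive 593 [.bwd 1, .edge 4, .fwd 5] [4] (.rel 6),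
  .node 307 3, .derive 594 [.bwd 0, .edge 1, .edge 3] [1] (.rel 13), .node 330 1, .node 331 1, .node 332 1, .derive 597 [.bwd 0, .edge 3, .fwd 2] [3] (.rel 12), .node 332 2, .node 333 1,
  .node 335 1, .derive 600 [.bwd 0, .edge 3, .fwd 5] [3] (.rel 12), .node 336 1, .derive 601 [.bwd 0, .edge 4, .fwd 6] [4] (.rel 14), .node 336 2, .derive 602 [.bwd 0, .edge 0, .fwd 153] [0] (.rel 3), .node 337 1, .node 338 1,
  .derive 604 [.bwd 0, .edge 4, .fwd 7] [4] (.rel 14), .node 339 1, .derive 605 [.bwd 0, .edge 3, .fwd 2] [3] (.rel 12), .derive 605 [.bwd 1, .edge 4, .fwd 4] [4] (.rel 14)]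
def ph3_3 : List Aux := [
  .node 342 2, .derive 606 [.bwd 0, .edge 5, .fwd 151] [5] (.rel 22), .node 345 2, .derive 607 [.bwd 0, .edge 5, .fwd 164] [5] (.rel 22), .node 346 2, .derive 608 [.bwd 0, .edge 5, .fwd 18] [5] (.rel 22), .node 349 3, .derive 609 [.bwd 0, .edge 0, .edge 3] [0] (.rel 5),
  .derive 609 [.bwd 1, .edge 5, .bwd 166] [5] (.rel 26), .node 354 2, .derive 610 [.bwd 0, .edge 5, .bwd 35] [5] (.rel 22), .node 355 2, .derive 611 [.bwd 0, .edge 4, .fwd 9] [4] (.rel 20), .derive 611 [.bwd 1, .edge 5, .fwd 173] [5] (.rel 22), .node 356 2, .derive 612 [.bwd 0, .edge 4, .fwd 10] [4] (.rel 20),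
  .derive 612 [.bwd 1, .edge 5, .fwd 23] [5] (.rel 22), .node 356 3, .derive 613 [.bwd 0, .edge 5, .bwd 173] [5] (.rel 26), .node 358 2, .derive 614 [.bwd 0, .edge 5, .fwd 177] [5] (.rel 22), .node 359 0, .derive 615 [.bwd 0, .edge 5, .fwd 165] [5] (.rel 8), .node 359 2,
  .derive 616 [.bwd 0, .edge 5, .fwd 165] [5] (.rel 22), .node 360 2, .derive 617 [.bwd 0, .edge 5, .fwd 179] [5] (.rel 22), .node 361 2, .derive 618 [.bwd 0, .edge 4, .fwd 4] [4] (.rel 20), .derive 618 [.bwd 1, .edge 5, .fwd 167] [5] (.rel 22), .node 364 3, .derive 619 [.bwd 0, .edge 5, .fwd 55] [5] (.rel 26),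
  .node 365 1, .derive 620 [.bwd 0, .edge 4, .bwd 161] [4] (.rel 14), .derive 620 [.bwd 1, .edge 5, .edge 1, .edge 5, .bwd 164] [5] (.rel 16), .node 366 2, .derive 621 [.bwd 0, .edge 0, .edge 2] [0] (.rel 3), .derive 621 [.bwd 1, .edge 5, .bwd 58] [5] (.rel 22), .node 369 3, .derive 622 [.bwd 0, .edge 5, .fwd 58] [5] (.rel 26),
  .node 380 3, .node 381 3, .node 382 1, .node 383 1, .derive 626 [.bwd 0, .edge 3, .fwd 1] [3] (.rel 12), .derive 626 [.bwd 1, .edge 4, .fwd 2] [4] (.rel 14), .node 383 2, .node 384 2,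
  .derive 628 [.bwd 0, .edge 5, .fwd 170] [5] (.rel 22), .node 385 2, .derive 629 [.bwd 0, .edge 4, .fwd 2] [4] (.rel 20), .derive 629 [.bwd 1, .edge 5, .fwd 171] [5] (.rel 22), .node 388 0, .derive 630 [.bwd 0, .edge 2, .fwd 110] [2] (.rel 2), .node 389 0, .derive 631 [.bwd 0, .edge 4, .fwd 2] [4] (.rel 6),
  .node 396 2, .node 397 1, .node 397 2, .derive 634 [.bwd 0, .edge 0, .fwd 2] [0] (.rel 3), .node 440 0, .node 440 2, .node 440 5, .node 441 0,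
  .derive 638 [.bwd 0, .fwd 361, .fwd 3] [4] (.rel 6), .node 441 2, .derive 639 [.bwd 0, .bwd 364, .edge 2, .edge 1, .fwd 350] [1] (.rel 11), .derive 639 [.bwd 1, .fwd 364, .fwd 5] [4] (.rel 20), .node 441 5, .derive 640 [.bwd 0, .fwd 366, .fwd 6] [4] (.rel 29), .node 443 0, .derive 641 [.bwd 0, .fwd 365, .fwd 312] [4] (.rel 6),
  .node 443 5, .node 445 1, .derive 643 [.bwd 0, .bwd 366, .edge 1, .edge 2, .fwd 350] [2] (.rel 10), .node 445 5, .node 447 1, .derive 645 [.bwd 0, .fwd 366, .fwd 3] [4] (.rel 14), .node 447 5, .derive 646 [.bwd 0, .fwd 368, .fwd 3] [4] (.rel 29),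
  .node 449 5, .node 451 5, .derive 648 [.bwd 0, .fwd 365, .fwd 1] [4] (.rel 29), .node 453 0, .derive 649 [.bwd 0, .fwd 363, .fwd 13] [2] (.rel 2), .derive 649 [.bwd 1, .fwd 363, .fwd 324] [4] (.rel 6), .node 453 5, .node 454 1,
  .node 455 5, .node 456 1, .derive 653 [.bwd 0, .fwd 364, .fwd 2] [3] (.rel 12), .node 457 1, .derive 654 [.bwd 0, .fwd 364, .fwd 4] [4] (.rel 14), .node 458 5, .derive 655 [.bwd 0, .fwd 364, .fwd 5] [4] (.rel 29), .node 461 0,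
  .derive 656 [.bwd 0, .fwd 360, .fwd 35] [3] (.rel 4), .node 461 2, .node 461 5, .node 463 2]
def ph3_4 : List Aux := [
  .derive 659 [.bwd 0, .bwd 362, .edge 2, .fwd 365, .fwd 2] [1] (.rel 11), .node 463 5, .derive 660 [.bwd 0, .bwd 364, .edge 5, .fwd 367, .fwd 3] [1] (.rel 17), .derive 660 [.bwd 1, .fwd 364, .fwd 30] [3] (.rel 27), .node 465 5, .derive 661 [.bwd 0, .bwd 363, .edge 5, .edge 1, .fwd 298] [1] (.rel 17), .derive 661 [.bwd 1, .fwd 363, .bwd 319] [2] (.rel 23), .derive 497 [.bwd 301, .edge 1, .edge 2, .fwd 322, .bwd 0, .fwd 1] [] (.rel 11),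
  .derive 498 [.bwd 0] [] (.free), .derive 497 [.bwd 0, .fwd 301] [3] (.free), .derive 496 [.fwd 305, .bwd 307, .bwd 0, .bwd 304, .edge 3, .fwd 311, .bwd 307, .bwd 302, .fwd 1, .bwd 304] [] (.rel 42), .derive 496 [.fwd 0] [] (.free), .derive 149 [.bwd 0, .bwd 296] [4] (.free), .derive 151 [.edge 4, .fwd 0] [] (.free), .derive 502 [.bwd 0] [] (.free), .derive 151 [.bwd 0, .bwd 295] [3] (.free),
  .derive 153 [.edge 3, .fwd 0] [] (.free), .derive 504 [.bwd 0] [] (.free), .derive 153 [.bwd 0, .fwd 297] [4] (.free), .derive 152 [.edge 4, .fwd 0] [] (.free), .derive 503 [.bwd 0] [] (.free), .derive 152 [.bwd 0, .fwd 303] [3] (.free), .derive 150 [.edge 3, .fwd 0] [] (.free), .derive 499 [.bwd 0] [] (.free),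
  .derive 150 [.bwd 0, .bwd 312] [5] (.free), .derive 501 [.bwd 312, .fwd 0] [] (.free), .derive 501 [.fwd 0] [] (.free), .derive 500 [.bwd 0, .fwd 313] [4] (.free), .derive 494 [.bwd 317, .fwd 0] [] (.free), .derive 495 [.bwd 0] [] (.free), .node 466 5, .derive 662 [.bwd 0, .bwd 387, .edge 5, .edge 1, .fwd 329, .fwd 1] [1] (.rel 17),
  .derive 662 [.bwd 1, .fwd 387, .fwd 27] [3] (.rel 27), .derive 484 [.bwd 356, .edge 2, .edge 1, .fwd 333, .bwd 1] [2] (.rel 10), .derive 661 [.fwd 27, .fwd 348, .fwd 354, .bwd 348, .bwd 27, .bwd 1, .bwd 0, .fwd 356] [0] (.rel 39), .derive 650 [.bwd 48, .fwd 414, .bwd 430, .edge 0, .edge 5, .edge 2, .edge 1, .edge 0, .edge 5, .edge 2, .edge 1, .edge 0, .edge 5, .edge 2, .fwd 359, .bwd 0, .bwd 30, .fwd 392, .bwd 402, .edge 0] [] (.rel 52), .derive 650 [.fwd 0] [] (.free), .derive 65 [.bwd 0, .bwd 50] [5] (.free), .derive 64 [.edge 5, .fwd 0] [] (.free), .derive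 453 [.bwd 0] [] (.free),
  .derive 64 [.bwd 0, .fwd 418] [4] (.free), .derive 462 [.bwd 404, .fwd 0] [] (.free), .derive 462 [.fwd 0] [] (.free), .derive 83 [.bwd 0, .bwd 402] [5] (.free), .derive 475 [.bwd 382, .fwd 0] [] (.free), .derive 475 [.fwd 0] [] (.free), .derive 464 [.bwd 0, .bwd 371] [3] (.free), .derive 470 [.fwd 392, .fwd 0] [] (.free),
  .derive 482 [.bwd 0] [] (.free), .derive 470 [.bwd 0, .bwd 375] [5] (.free), .derive 468 [.bwd 394, .fwd 0] [] (.free), .derive 468 [.fwd 0] [] (.free), .derive 87 [.bwd 0, .fwd 403] [2] (.free), .derive 481 [.bwd 380, .fwd 0] [] (.free), .derive 87 [.bwd 2, .bwd 406] [4] (.free), .derive 479 [.fwd 385, .fwd 0] [] (.free),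
  .derive 479 [.fwd 0] [] (.free), .derive 77 [.bwd 0, .fwd 388] [3] (.free), .derive 37 [.edge 3, .fwd 0] [] (.free), .derive 458 [.bwd 0] [] (.free), .derive 37 [.bwd 0, .fwd 66] [5] (.free), .derive 41 [.edge 5, .fwd 0] [] (.free), .derive 655 [.bwd 0] [] (.free), .derive 41 [.bwd 0, .fwd 68] [4] (.free),
  .derive 39 [.edge 4, .fwd 0] [] (.free), .derive 652 [.bwd 0] [] (.free), .derive 39 [.bwd 0, .bwd 77] [5] (.free), .derive 35 [.edge 5, .fwd 0] [] (.free), .derive 455 [.bwd 0] [] (.free), .derive 35 [.bwd 0, .bwd 94] [2] (.free), .derive 17 [.edge 2, .fwd 0] [] (.free), .derive 643 [.bwd 0] [] (.free),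
  .derive 17 [.bwd 0, .bwd 94] [4] (.free), .derive 29 [.edge 4, .fwd 0] [] (.free), .derive 645 [.bwd 0] [] (.free), .derive 29 [.bwd 0, .bwd 98] [1] (.free), .derive 47 [.edge 1, .fwd 0] [] (.free), .derive 447 [.bwd 0] [] (.free), .derive 47 [.bwd 0, .fwd 99] [5] (.free), .derive 452 [.bwd 461, .fwd 0] [] (.free),
  .derive 646 [.bwd 0] [] (.free), .derive 452 [.bwd 0, .fwd 101] [4] (.free), .derive 450 [.bwd 463, .fwd 0] [] (.free), .derive 644 [.bwd 0] [] (.free), .derive 450 [.bwd 0, .bwd 108] [5] (.free), .derive 46 [.fwd 470, .fwd 0] [] (.free), .derive 445 [.bwd 0] [] (.free), .derive 46 [.bwd 0, .bwd 479] [2] (.free),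
  .derive 449 [.bwd 474, .fwd 0] [] (.free), .derive 449 [.fwd 0] [] (.free), .derive 43 [.bwd 0, .fwd 109] [5] (.free), .derive 446 [.bwd 482, .fwd 0] [] (.free), .derive 647 [.bwd 0] [] (.free), .derive 446 [.bwd 0, .bwd 110] [4] (.free), .derive 448 [.fwd 481, .fwd 0] [] (.free), .derive 648 [.bwd 0] [] (.free),
  .derive 448 [.bwd 0, .bwd 114] [5] (.free), .derive 44 [.fwd 485, .fwd 0] [] (.free), .derive 451 [.bwd 0] [] (.free), .derive 44 [.bwd 0, .bwd 132] [1] (.free)]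
def ph3_5 : List Aux := [
  .derive 33 [.edge 1, .fwd 0] [] (.free), .derive 639 [.bwd 0] [] (.free), .derive 33 [.bwd 0, .fwd 134] [4] (.free), .derive 21 [.edge 4, .fwd 0] [] (.free), .derive 636 [.bwd 0] [] (.free), .derive 21 [.bwd 0, .bwd 143] [2] (.free), .derive 49 [.edge 2, .fwd 0] [] (.free), .derive 440 [.bwd 0] [] (.free),
  .derive 49 [.bwd 0, .fwd 145] [5] (.free), .derive 456 [.bwd 484, .fwd 0] [] (.free), .derive 637 [.bwd 0] [] (.free), .derive 456 [.bwd 0, .bwd 141] [4] (.free), .derive 459 [.fwd 480, .fwd 0] [] (.free), .derive 640 [.bwd 0] [] (.free), .derive 459 [.bwd 0, .bwd 145] [5] (.free), .derive 51 [.fwd 484, .fwd 0] [] (.free),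
  .derive 441 [.bwd 0] [] (.free), .derive 51 [.bwd 0, .fwd 153] [0] (.free), .derive 50 [.edge 0, .fwd 0] [] (.free), .derive 638 [.bwd 0] [] (.free), .derive 50 [.bwd 0, .fwd 155] [4] (.free), .derive 48 [.edge 4, .fwd 0] [] (.free), .derive 635 [.bwd 0] [] (.free), .derive 48 [.bwd 0, .bwd 126] [3] (.free),
  .derive 49 [.edge 3, .fwd 0] [] (.free), .derive 656 [.bwd 0] [] (.free), .derive 49 [.bwd 0, .bwd 130] [0] (.free), .derive 48 [.edge 0, .fwd 0] [] (.free), .derive 461 [.bwd 0] [] (.free), .derive 48 [.bwd 0, .fwd 131] [2] (.free), .derive 20 [.edge 2, .fwd 0] [] (.free), .derive 48 [.bwd 2, .fwd 132] [5] (.free),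
  .derive 454 [.bwd 509, .fwd 0] [] (.free), .derive 658 [.bwd 0] [] (.free), .derive 454 [.bwd 0, .bwd 131] [1] (.free), .derive 651 [.bwd 147, .fwd 0] [] (.free), .derive 660 [.bwd 0] [] (.free), .derive 651 [.bwd 0, .fwd 133] [3] (.free), .derive 653 [.fwd 147, .fwd 0] [] (.free), .derive 653 [.fwd 0] [] (.free),
  .derive 657 [.bwd 9] [] (.free), .derive 20 [.bwd 0, .bwd 140] [1] (.free), .derive 19 [.edge 1, .fwd 0] [] (.free), .derive 659 [.bwd 0] [] (.free), .derive 19 [.bwd 0, .bwd 144] [2] (.free), .derive 39 [.edge 2, .fwd 0] [] (.free), .derive 463 [.bwd 0] [] (.free), .derive 39 [.bwd 0, .fwd 145, .fwd 10] [5] (.free),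
  .derive 35 [.edge 5, .fwd 0] [] (.free), .derive 651 [.bwd 0] [] (.free), .derive 35 [.bwd 0, .bwd 157] [4] (.free), .derive 37 [.edge 4, .fwd 0] [] (.free), .derive 654 [.bwd 0] [] (.free), .derive 37 [.bwd 0, .bwd 161] [1] (.free), .derive 441 [.bwd 552, .fwd 0] [] (.free), .derive 457 [.bwd 0, .fwd 38] [] (.free),
  .derive 51 [.bwd 0, .bwd 529] [5] (.free), .derive 459 [.bwd 526, .fwd 0] [] (.free), .derive 459 [.fwd 0] [] (.free), .derive 50 [.bwd 0, .fwd 527] [4] (.free), .derive 48 [.edge 4, .fwd 0] [] (.free), .derive 456 [.bwd 0] [] (.free), .derive 48 [.bwd 0, .fwd 172, .fwd 22] [1] (.free), .derive 453 [.bwd 543, .fwd 0] [] (.free),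
  .derive 642 [.bwd 0, .fwd 124] [] (.free), .derive 64 [.bwd 0, .bwd 192] [5] (.free), .derive 65 [.edge 5, .fwd 0] [] (.free), .derive 443 [.bwd 0] [] (.free), .derive 65 [.bwd 0, .fwd 562] [4] (.free), .derive 464 [.bwd 529, .fwd 0] [] (.free), .derive 464 [.fwd 0] [] (.free), .derive 82 [.bwd 0, .fwd 530, .fwd 128] [5] (.free),
  .derive 473 [.bwd 512, .fwd 0] [] (.free), .derive 473 [.fwd 0] [] (.free), .derive 83 [.bwd 0, .bwd 507] [3] (.free), .derive 87 [.edge 3, .fwd 0] [] (.free), .derive 478 [.bwd 0] [] (.free), .derive 87 [.bwd 0, .bwd 511] [5] (.free), .derive 482 [.bwd 504, .fwd 0] [] (.free), .derive 470 [.bwd 130, .fwd 0] [] (.free),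
  .derive 84 [.bwd 0, .fwd 527] [0] (.free), .derive 476 [.bwd 518, .fwd 0] [] (.free), .derive 84 [.bwd 2, .fwd 528] [2] (.free), .derive 477 [.bwd 518, .fwd 0] [] (.free), .derive 477 [.fwd 0] [] (.free), .derive 137 [.bwd 0, .bwd 433] [1] (.free), .derive 200 [.edge 1, .fwd 0] [] (.free), .derive 525 [.bwd 0] [] (.free),
  .derive 476 [.fwd 6] [] (.free), .derive 123 [.bwd 0, .fwd 525] [3] (.free), .derive 119 [.edge 3, .fwd 0] [] (.free), .derive 472 [.bwd 0] [] (.free), .derive 119 [.bwd 0, .bwd 220] [4] (.free), .derive 63 [.edge 4, .fwd 0] [] (.free), .derive 641 [.bwd 0] [] (.free), .derive 63 [.bwd 0, .bwd 210] [2] (.free),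
  .derive 62 [.edge 2, .fwd 0] [] (.free), .derive 649 [.bwd 0] [] (.free), .derive 62 [.bwd 0, .fwd 212] [4] (.free), .derive 118 [.edge 4, .fwd 0] [] (.free)]
def ph3_6 : List Aux := [
  .derive 474 [.bwd 0] [] (.free), .derive 118 [.bwd 0, .bwd 529] [3] (.free), .derive 122 [.edge 3, .fwd 0] [] (.free), .derive 480 [.bwd 0] [] (.free), .derive 481 [.fwd 150] [] (.free), .derive 136 [.bwd 0, .bwd 426] [1] (.free), .derive 190 [.edge 1, .fwd 0] [] (.free), .derive 539 [.bwd 0] [] (.free),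
  .derive 190 [.bwd 0, .bwd 259] [5] (.free), .derive 355 [.edge 5, .fwd 0] [] (.free), .derive 628 [.bwd 0] [] (.free), .derive 355 [.bwd 0, .bwd 260] [4] (.free), .derive 345 [.edge 4, .fwd 0] [] (.free), .derive 629 [.bwd 0] [] (.free), .derive 345 [.bwd 0, .fwd 262] [5] (.free), .derive 186 [.edge 5, .fwd 0] [] (.free),
  .derive 540 [.bwd 0] [] (.free), .derive 186 [.bwd 0, .bwd 437] [2] (.free), .derive 517 [.bwd 479, .fwd 0] [] (.free), .derive 517 [.fwd 0] [] (.free), .derive 217 [.bwd 0, .bwd 316] [5] (.free), .derive 385 [.edge 5, .fwd 0] [] (.free), .derive 607 [.bwd 0] [] (.free), .derive 385 [.bwd 0, .bwd 310] [4] (.free),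
  .derive 384 [.edge 4, .fwd 0] [] (.free), .derive 611 [.bwd 0] [] (.free), .derive 384 [.bwd 0, .fwd 312] [5] (.free), .derive 216 [.edge 5, .fwd 0] [] (.free), .derive 518 [.bwd 0] [] (.free), .derive 216 [.bwd 0, .bwd 335] [0] (.free), .derive 382 [.edge 0, .fwd 0] [] (.free), .derive 602 [.bwd 0] [] (.free),
  .derive 382 [.bwd 0, .bwd 315] [5] (.free), .derive 386 [.edge 5, .fwd 0] [] (.free), .derive 612 [.bwd 0] [] (.free), .derive 386 [.bwd 0, .fwd 319] [4] (.free), .derive 387 [.edge 4, .fwd 0] [] (.free), .derive 608 [.bwd 0] [] (.free), .derive 387 [.bwd 0, .fwd 332] [5] (.free), .derive 383 [.edge 5, .fwd 0] [] (.free),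
  .derive 598 [.bwd 0] [] (.free), .derive 383 [.bwd 0, .bwd 354] [2] (.free), .derive 627 [.bwd 295, .fwd 0] [] (.free), .derive 627 [.fwd 0] [] (.free), .derive 592 [.bwd 368, .fwd 370, .fwd 369, .edge 3, .edge 2, .edge 3, .bwd 0, .bwd 297, .edge 3, .bwd 12, .bwd 351] [] (.rel 46), .derive 592 [.fwd 0] [] (.free), .derive 336 [.bwd 0, .fwd 369] [1] (.free), .derive 601 [.bwd 356, .fwd 0] [] (.free),
  .derive 336 [.bwd 2, .bwd 316] [5] (.free), .derive 356 [.edge 5, .fwd 0] [] (.free), .derive 619 [.bwd 0] [] (.free), .derive 356 [.bwd 0, .bwd 320] [3] (.free), .derive 613 [.bwd 334, .fwd 0] [] (.free), .derive 613 [.fwd 0] [] (.free), .derive 364 [.bwd 0, .fwd 335] [5] (.free), .derive 304 [.edge 5, .fwd 0] [] (.free),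
  .derive 521 [.bwd 0] [] (.free), .derive 304 [.bwd 0, .fwd 511] [4] (.free), .derive 307 [.edge 4, .fwd 0] [] (.free), .derive 519 [.bwd 0] [] (.free), .derive 307 [.bwd 0, .bwd 351] [5] (.free), .derive 369 [.edge 5, .fwd 0] [] (.free), .derive 609 [.bwd 0] [] (.free), .derive 369 [.bwd 0, .fwd 355] [0] (.free),
  .derive 621 [.fwd 327, .fwd 0] [] (.free), .derive 369 [.bwd 2, .bwd 358] [3] (.free), .derive 622 [.bwd 327, .fwd 0] [] (.free), .derive 622 [.fwd 0] [] (.free), .derive 349 [.bwd 0, .fwd 328] [5] (.free), .derive 333 [.edge 5, .fwd 0] [] (.free), .derive 594 [.bwd 0] [] (.free), .derive 333 [.bwd 0, .fwd 389] [1] (.free),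
  .derive 599 [.bwd 384, .fwd 0] [] (.free), .derive 599 [.fwd 0] [] (.free), .derive 621 [.fwd 9] [] (.free), .derive 358 [.bwd 0, .fwd 337] [5] (.free), .derive 195 [.edge 5, .fwd 0] [] (.free), .derive 593 [.bwd 0] [] (.free), .derive 195 [.bwd 0, .fwd 398] [4] (.free), .derive 196 [.edge 4, .fwd 0] [] (.free),
  .derive 591 [.bwd 0] [] (.free), .derive 196 [.bwd 0, .bwd 370] [5] (.free), .derive 360 [.edge 5, .fwd 0] [] (.free), .derive 610 [.bwd 0] [] (.free), .derive 360 [.bwd 0, .bwd 374] [2] (.free), .derive 617 [.bwd 359, .fwd 0] [] (.free), .derive 617 [.fwd 0] [] (.free), .derive 354 [.bwd 0, .fwd 360] [5] (.free),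
  .derive 335 [.edge 5, .fwd 0] [] (.free), .derive 522 [.bwd 0] [] (.free), .derive 335 [.bwd 0, .fwd 542] [4] (.free), .derive 338 [.edge 4, .fwd 0] [] (.free), .derive 520 [.bwd 0] [] (.free), .derive 338 [.bwd 0, .bwd 530] [1] (.free), .derive 604 [.bwd 398, .fwd 0] [] (.free), .derive 338 [.bwd 2, .bwd 374] [5] (.free),
  .derive 366 [.edge 5, .fwd 0] [] (.free), .derive 614 [.bwd 0] [] (.free), .derive 604 [.fwd 3] [] (.free), .derive 531 [.bwd 0, .fwd 402] [4] (.free)]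
def ph3_7 : List Aux := [
  .derive 529 [.bwd 536, .fwd 0] [] (.free), .derive 600 [.bwd 0] [] (.free), .derive 529 [.bwd 0, .fwd 412] [3] (.free), .derive 601 [.fwd 55] [] (.free), .derive 633 [.bwd 346, .edge 0, .bwd 30, .bwd 416, .edge 0, .edge 1, .edge 0, .edge 1, .edge 0, .bwd 58, .fwd 427, .bwd 431] [] (.rel 1), .derive 633 [.fwd 0] [] (.free), .derive 590 [.bwd 0, .bwd 348] [1] (.free), .derive 491 [.bwd 613, .edge 0, .edge 1, .bwd 103, .bwd 636, .edge 1, .edge 0, .fwd 639, .fwd 250, .edge 0, .edge 1, .edge 0] [] (.rel 1),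
  .derive 491 [.fwd 0] [] (.free), .derive 81 [.bwd 0, .fwd 614] [4] (.free), .derive 125 [.edge 4, .fwd 0] [] (.free), .derive 471 [.bwd 0] [] (.free), .derive 125 [.bwd 0, .fwd 654] [3] (.free), .derive 121 [.edge 3, .fwd 0] [] (.free), .derive 467 [.bwd 0] [] (.free), .derive 121 [.bwd 0, .fwd 668] [4] (.free),
  .derive 67 [.edge 4, .fwd 0] [] (.free), .derive 466 [.bwd 0] [] (.free), .derive 67 [.bwd 0, .fwd 287] [5] (.free), .derive 105 [.edge 5, .fwd 0] [] (.free), .derive 662 [.bwd 0] [] (.free), .derive 105 [.bwd 0, .fwd 288] [3] (.free), .derive 95 [.edge 3, .fwd 0] [] (.free), .derive 661 [.bwd 0] [] (.free),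
  .derive 95 [.bwd 0, .bwd 319] [5] (.free), .derive 68 [.edge 5, .fwd 0] [] (.free), .derive 465 [.bwd 0] [] (.free), .derive 68 [.bwd 0, .bwd 634] [4] (.free), .derive 71 [.edge 4, .fwd 0] [] (.free), .derive 490 [.bwd 0] [] (.free), .derive 71 [.bwd 0, .fwd 638] [2] (.free), .derive 72 [.edge 2, .fwd 0] [] (.free),
  .derive 489 [.bwd 0] [] (.free), .derive 72 [.bwd 0, .bwd 635] [5] (.free), .derive 97 [.edge 5, .fwd 0] [] (.free), .derive 492 [.bwd 0] [] (.free), .derive 97 [.bwd 0, .fwd 639] [4] (.free), .derive 91 [.edge 4, .fwd 0] [] (.free), .derive 487 [.bwd 0] [] (.free), .derive 91 [.bwd 0, .fwd 652] [5] (.free),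
  .derive 69 [.edge 5, .fwd 0] [] (.free), .derive 460 [.bwd 0] [] (.free), .derive 69 [.bwd 0, .fwd 708] [3] (.free), .derive 70 [.edge 3, .fwd 0] [] (.free), .derive 442 [.bwd 0] [] (.free), .derive 70 [.bwd 0, .bwd 664] [5] (.free), .derive 89 [.edge 5, .fwd 0] [] (.free), .derive 485 [.bwd 0] [] (.free),
  .derive 89 [.bwd 0, .bwd 665] [4] (.free), .derive 93 [.edge 4, .fwd 0] [] (.free), .derive 486 [.bwd 0] [] (.free), .derive 93 [.bwd 0, .fwd 667] [5] (.free), .derive 73 [.edge 5, .fwd 0] [] (.free), .derive 444 [.bwd 0] [] (.free), .derive 73 [.bwd 0, .bwd 703] [3] (.free), .derive 75 [.edge 3, .fwd 0] [] (.free),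
  .derive 469 [.bwd 0] [] (.free), .derive 75 [.bwd 0, .bwd 668] [5] (.free), .derive 101 [.edge 5, .fwd 0] [] (.free), .derive 488 [.bwd 0] [] (.free), .derive 511 [.bwd 631, .edge 1, .edge 2, .bwd 0, .bwd 672, .edge 2, .edge 1] [] (.rel 11), .derive 511 [.fwd 0] [] (.free), .derive 212 [.bwd 0, .bwd 626] [4] (.free), .derive 214 [.edge 4, .fwd 0] [] (.free),
  .derive 515 [.bwd 0] [] (.free), .derive 534 [.bwd 598, .bwd 3, .bwd 636, .fwd 635] [2] (.rel 23), .derive 506 [.bwd 635, .bwd 0, .fwd 598, .edge 2, .edge 1, .fwd 465] [] (.rel 10), .derive 606 [.bwd 0] [] (.free), .derive 506 [.bwd 0, .fwd 466] [5] (.free), .derive 163 [.fwd 646, .fwd 0] [] (.free), .derive 524 [.bwd 0] [] (.free), .derive 163 [.bwd 0, .bwd 615] [4] (.free),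
  .derive 165 [.edge 4, .fwd 0] [] (.free), .derive 527 [.bwd 0] [] (.free), .derive 165 [.bwd 0, .bwd 619] [2] (.free), .derive 507 [.bwd 651, .fwd 0] [] (.free), .derive 507 [.fwd 0] [] (.free), .derive 199 [.bwd 0, .fwd 652] [4] (.free), .derive 197 [.edge 4, .fwd 0] [] (.free), .derive 505 [.bwd 0] [] (.free),
  .derive 197 [.bwd 0, .bwd 526] [0] (.free), .derive 523 [.bwd 632, .fwd 0] [] (.free), .derive 579 [.bwd 0] [] (.free), .derive 523 [.bwd 0, .bwd 527] [4] (.free), .derive 526 [.fwd 630, .fwd 0] [] (.free), .derive 580 [.bwd 0] [] (.free), .derive 526 [.bwd 0, .bwd 531] [2] (.free), .derive 590 [.bwd 515, .edge 2, .edge 3, .bwd 0, .bwd 629, .bwd 630, .fwd 628, .fwd 84] [2] (.rel 42),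
  .derive 595 [.bwd 505, .edge 2, .fwd 504, .bwd 0, .fwd 81, .fwd 429] [] (.rel 10), .derive 634 [.bwd 0] [] (.free), .derive 597 [.fwd 504, .bwd 0, .fwd 430, .bwd 433, .edge 3, .edge 2, .edge 3, .edge 2, .fwd 559] [2] (.rel 46), .derive 564 [.bwd 559, .bwd 0, .bwd 506, .fwd 504, .fwd 150, .fwd 447] [2] (.rel 10), .derive 576 [.fwd 544, .bwd 1, .bwd 500, .fwd 88] [2] (.rel 21), .derive 571 [.bwd 554, .edge 2, .edge 1, .edge 3, .edge 2, .edge 3, .edge 2, .edge 1, .edge 3, .edge 2, .fwd 564, .fwd 1, .bwd 449, .edge 4, .edge 3, .bwd 152, .bwd 506, .edge 3, .edge 2, .fwd 509, .bwd 90, .bwd 634, .edge 3, .bwd 16, .bwd 669, .edge 1, .edge 3, .edge 2, .edge 3, .edge 2, .edge 1, .edge 3, .edge 2, .edge 3, .edge 2, .edge 1, .edge 3, .edge 2, .edge 3, .edge 2, .edge 1, .edge 4, .edge 3, .edge 2, .fwd 562, .bwd 2, .bwd 508, .edge 3, .edge 2, .edge 3, .bwd 518, .fwd 112, .edge 1, .edge 3, .bwd 744, .fwd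 341, .edge 3, .edge 2, .edge 1, .edge 3, .edge 2, .edge 3, .edge 2, .fwd 743, .fwd 36, .edge 3, .edge 2, .edge 3, .edge 2, .edge 1, .edge 4, .edge 3, .edge 2, .fwd 522, .bwd 0, .fwd 546, .bwd 560, .edge 2, .edge 3, .edge 2, .edge 1, .fwd 542] [2] (.rel 95), .derive 631 [.bwd 439, .edge 2, .fwd 543, .bwd 0, .bwd 555, .edge 2, .edge 3, .edge 2, .fwd 452] [] (.rel 47), .derive 631 [.fwd 0] [] (.free),
  .derive 624 [.bwd 0, .fwd 440] [4] (.free), .derive 623 [.bwd 456, .edge 2, .edge 1, .edge 3, .edge 2, .edge 3, .edge 2, .edge 1, .edge 3, .edge 2, .edge 3, .edge 2, .edge 1, .edge 3, .bwd 209, .bwd 646, .edge 3, .bwd 17, .bwd 675, .edge 1, .edge 4, .edge 3, .edge 2, .edge 3, .edge 2, .edge 1, .edge 3, .edge 2, .edge 3, .edge 2, .edge 1, .edge 3, .edge 2, .edge 3, .edge 2, .edge 1, .edge 3, .bwd 23, .bwd 642, .edge 3, .fwd 638, .bwd 95, .bwd 508, .edge 3, .edge 2, .edge 3, .bwd 153, .bwd 450,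 .fwd 453, .fwd 451, .bwd 452, .bwd 5, .bwd 568, .edge 2, .edge 1, .edge 3, .edge 2, .edge 3, .edge 2, .edge 1, .edge 3, .edge 2, .fwd 558, .fwd 3, .fwd 545, .bwd 567, .edge 2, .edge 3, .edge 2, .edge 1, .fwd 551, .fwd 4, .bwd 526, .edge 2, .edge 1, .edge 4, .edge 3, .edge 2, .edge 3, .edge 2, .edge 1, .edge 3, .edge 2] [] (.rel 90), .derive 623 [.fwd 0] [] (.free), .derive 381 [.bwd 0, .bwd 458] [3] (.free)]
def ph3_8 : List Aux := [
  .derive 624 [.bwd 458, .fwd 0] [] (.free), .derive 624 [.fwd 0] [] (.free), .derive 380 [.bwd 0, .fwd 5] [4] (.free), .derive 381 [.edge 4, .fwd 0] [] (.free), .derive 630 [.bwd 0] [] (.free), .derive 381 [.bwd 0, .fwd 451] [2] (.free), .derive 269 [.edge 2, .fwd 0] [] (.free), .derive 574 [.bwd 0] [] (.free),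
  .derive 269 [.bwd 0, .bwd 558] [4] (.free), .derive 211 [.edge 4, .fwd 0] [] (.free), .derive 577 [.bwd 0] [] (.free), .derive 211 [.bwd 0, .bwd 562] [0] (.free), .derive 533 [.bwd 646, .fwd 0] [] (.free), .derive 533 [.fwd 0] [] (.free), .derive 291 [.bwd 0, .bwd 588] [4] (.free), .derive 289 [.edge 4, .fwd 0] [] (.free),
  .derive 562 [.bwd 0] [] (.free), .derive 289 [.bwd 0, .fwd 592] [3] (.free), .derive 285 [.edge 3, .fwd 0] [] (.free), .derive 561 [.bwd 0] [] (.free), .derive 285 [.bwd 0, .fwd 597] [4] (.free), .derive 286 [.edge 4, .fwd 0] [] (.free), .derive 532 [.bwd 0] [] (.free), .derive 586 [.bwd 558, .edge 0, .edge 1, .edge 0, .edge 1, .bwd 0, .bwd 658, .edge 1, .edge 0, .edge 1, .edge 0] [] (.rel 1),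
  .derive 586 [.fwd 0] [] (.free), .derive 335 [.bwd 0, .fwd 559] [4] (.free), .derive 338 [.edge 4, .fwd 0] [] (.free), .derive 583 [.bwd 0] [] (.free), .derive 338 [.bwd 0, .fwd 567] [3] (.free), .derive 339 [.edge 3, .fwd 0] [] (.free), .derive 581 [.bwd 0] [] (.free), .derive 339 [.bwd 0, .bwd 572] [4] (.free),
  .derive 337 [.edge 4, .fwd 0] [] (.free), .derive 582 [.bwd 0] [] (.free), .derive 337 [.bwd 0, .bwd 576] [1] (.free), .derive 603 [.bwd 540, .fwd 0] [] (.free), .derive 603 [.fwd 0] [] (.free), .derive 297 [.bwd 0, .bwd 537] [4] (.free), .derive 295 [.edge 4, .fwd 0] [] (.free), .derive 605 [.bwd 0] [] (.free),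
  .derive 295 [.bwd 0, .fwd 541, .fwd 141] [3] (.free), .derive 300 [.edge 3, .fwd 0] [] (.free), .derive 531 [.bwd 0] [] (.free), .derive 300 [.bwd 0, .bwd 513] [5] (.free), .derive 585 [.bwd 580, .fwd 0] [] (.free), .derive 618 [.bwd 0] [] (.free), .derive 585 [.bwd 0, .fwd 517] [4] (.free), .derive 588 [.fwd 577, .fwd 0] [] (.free),
  .derive 616 [.bwd 0] [] (.free), .derive 588 [.bwd 0, .fwd 524] [5] (.free), .derive 301 [.fwd 581, .fwd 0] [] (.free), .derive 529 [.bwd 0] [] (.free), .derive 301 [.bwd 0, .bwd 693] [2] (.free), .derive 587 [.bwd 586, .fwd 0] [] (.free), .derive 587 [.fwd 0] [] (.free), .derive 201 [.bwd 0, .fwd 587] [4] (.free),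
  .derive 202 [.edge 4, .fwd 0] [] (.free), .derive 584 [.bwd 0] [] (.free), .derive 202 [.bwd 0, .fwd 595] [0] (.free), .derive 530 [.bwd 699, .fwd 0] [] (.free), .derive 572 [.bwd 0] [] (.free), .derive 530 [.bwd 0, .bwd 616] [4] (.free), .derive 528 [.bwd 701, .fwd 0] [] (.free), .derive 575 [.bwd 0] [] (.free),
  .derive 558 [.fwd 647, .bwd 657, .edge 1, .edge 0, .edge 5, .edge 2, .edge 1, .edge 0, .edge 5, .bwd 166, .bwd 544, .edge 1, .fwd 542, .fwd 541, .bwd 0, .bwd 620, .edge 1, .edge 0, .edge 5, .edge 2, .edge 1, .fwd 651] [] (.rel 52), .derive 558 [.fwd 0] [] (.free), .derive 557 [.bwd 0, .fwd 649] [5] (.free), .derive 553 [.bwd 652, .fwd 0] [] (.free), .derive 554 [.bwd 0] [] (.free), .derive 553 [.bwd 0, .fwd 661] [4] (.free), .derive 509 [.bwd 664, .fwd 0] [] (.free), .derive 510 [.bwd 0] [] (.free),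
  .derive 509 [.bwd 0, .bwd 675] [5] (.free), .derive 547 [.fwd 678, .fwd 0] [] (.free), .derive 548 [.bwd 0] [] (.free), .derive 547 [.bwd 0, .bwd 679] [2] (.free), .derive 237 [.edge 3, .fwd 692, .fwd 691, .bwd 682, .bwd 1, .bwd 680, .edge 3, .edge 2, .edge 3, .bwd 0] [] (.rel 46), .derive 547 [.bwd 0] [] (.free), .derive 237 [.bwd 0, .fwd 683] [5] (.free), .derive 179 [.edge 5, .fwd 0] [] (.free),
  .derive 509 [.bwd 0] [] (.free), .derive 179 [.bwd 0, .bwd 675] [4] (.free), .derive 259 [.edge 4, .fwd 0] [] (.free), .derive 553 [.bwd 0] [] (.free), .derive 259 [.bwd 0, .bwd 669] [5] (.free), .derive 261 [.edge 5, .fwd 0] [] (.free), .derive 557 [.bwd 0] [] (.free), .derive 261 [.bwd 0, .fwd 673] [3] (.free),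
  .derive 260 [.edge 3, .fwd 0] [] (.free), .derive 555 [.bwd 0] [] (.free), .derive 260 [.bwd 0, .fwd 680] [5] (.free), .derive 258 [.edge 5, .fwd 0] [] (.free), .derive 551 [.bwd 0] [] (.free), .derive 548 [.fwd 18, .fwd 15] [] (.free), .derive 570 [.bwd 657, .edge 2, .edge 1, .bwd 0, .bwd 698, .edge 1, .edge 2] [] (.rel 10), .derive 570 [.fwd 0] [] (.free),
  .derive 283 [.bwd 0, .fwd 658] [3] (.free), .derive 282 [.edge 3, .fwd 0] [] (.free), .derive 569 [.bwd 0] [] (.free), .derive 282 [.bwd 0, .bwd 657] [4] (.free)]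
def ph3_9 : List Aux := [
  .derive 288 [.edge 4, .fwd 0] [] (.free), .derive 573 [.bwd 0] [] (.free), .derive 556 [.fwd 690, .bwd 699, .edge 1, .edge 0, .edge 5, .edge 2, .edge 1, .edge 0, .bwd 710, .fwd 711, .bwd 0, .bwd 661, .bwd 702, .fwd 701, .edge 2, .edge 1, .edge 0, .edge 5, .edge 2, .edge 1, .fwd 700, .fwd 9] [] (.rel 52), .derive 556 [.fwd 0] [] (.free), .derive 258 [.bwd 0, .fwd 692] [5] (.free), .derive 260 [.edge 5, .fwd 0] [] (.free), .derive 552 [.bwd 0] [] (.free), .derive 260 [.bwd 0, .fwd 703] [4] (.free),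
  .derive 235 [.edge 4, .fwd 0] [] (.free), .derive 508 [.bwd 0] [] (.free), .derive 235 [.bwd 0, .bwd 777] [1] (.free), .derive 233 [.edge 1, .fwd 0] [] (.free), .derive 513 [.bwd 0] [] (.free), .derive 233 [.bwd 0, .bwd 694] [4] (.free), .derive 252 [.edge 4, .fwd 0] [] (.free), .derive 559 [.bwd 0] [] (.free),
  .derive 252 [.bwd 0, .bwd 698] [2] (.free), .derive 550 [.bwd 718, .fwd 0] [] (.free), .derive 550 [.fwd 0] [] (.free), .derive 262 [.bwd 0, .fwd 718] [5] (.free), .derive 560 [.bwd 700, .fwd 0] [] (.free), .derive 560 [.fwd 0] [] (.free), .derive 277 [.bwd 0, .fwd 701] [4] (.free), .derive 272 [.edge 4, .fwd 0] [] (.free),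
  .derive 514 [.bwd 0] [] (.free), .derive 272 [.bwd 0, .bwd 791] [5] (.free), .derive 544 [.fwd 739, .fwd 0] [] (.free), .derive 544 [.fwd 0] [] (.free), .derive 181 [.bwd 0, .bwd 700] [3] (.free), .derive 180 [.edge 3, .fwd 0] [] (.free), .derive 563 [.bwd 0] [] (.free), .derive 180 [.bwd 0, .bwd 704] [5] (.free),
  .derive 512 [.bwd 802, .fwd 0] [] (.free), .derive 512 [.fwd 0] [] (.free), .derive 273 [.bwd 0, .bwd 796] [4] (.free), .derive 280 [.edge 4, .fwd 0] [] (.free), .derive 516 [.bwd 0] [] (.free), .derive 280 [.bwd 0, .bwd 800] [5] (.free), .derive 568 [.bwd 704, .fwd 0] [] (.free), .derive 568 [.fwd 0] [] (.free),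
  .derive 182 [.bwd 0, .fwd 705] [2] (.free), .derive 515 [.bwd 806, .fwd 0] [] (.free), .derive 549 [.bwd 0, .fwd 177] [] (.free), .derive 214 [.bwd 0, .bwd 745] [5] (.free), .derive 537 [.bwd 771, .fwd 0] [] (.free), .derive 537 [.fwd 0] [] (.free), .derive 251 [.bwd 0, .fwd 772] [4] (.free), .derive 223 [.edge 4, .fwd 0] [] (.free),
  .derive 534 [.bwd 0] [] (.free), .derive 223 [.bwd 0, .bwd 782] [5] (.free), .derive 542 [.bwd 768, .fwd 0] [] (.free), .derive 542 [.fwd 0] [] (.free), .derive 212 [.bwd 0, .fwd 769] [3] (.free), .derive 213 [.edge 3, .fwd 0] [] (.free), .derive 541 [.bwd 0] [] (.free), .derive 213 [.bwd 0, .bwd 774] [5] (.free),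
  .derive 536 [.bwd 785, .fwd 0] [] (.free), .derive 536 [.fwd 0] [] (.free), .derive 221 [.bwd 0, .bwd 624] [4] (.free), .derive 220 [.edge 4, .fwd 0] [] (.free), .derive 620 [.bwd 0] [] (.free), .derive 220 [.bwd 0, .fwd 626] [5] (.free), .derive 230 [.edge 5, .fwd 0] [] (.free), .derive 535 [.bwd 0] [] (.free),
  .derive 230 [.bwd 0, .bwd 787] [3] (.free), .derive 234 [.edge 3, .fwd 0] [] (.free), .derive 538 [.bwd 0] [] (.free), .derive 234 [.bwd 0, .fwd 791] [1] (.free), .derive 545 [.bwd 780, .fwd 0] [] (.free), .derive 545 [.fwd 0] [] (.free), .derive 234 [.fwd 782, .fwd 0] [1] (.free), .commit 0]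
def ph3 : List Aux :=
  (((ph3_0 ++ ph3_1) ++ (ph3_2 ++ (ph3_3 ++ ph3_4))) ++ ((ph3_5 ++ ph3_6) ++ (ph3_7 ++ (ph3_8 ++ ph3_9))))

def ph4_0 : List ℕ := [
  1155083, 942093, 958478, 909329, 1601537, 1589259, 901133, 1024015,
  1687643, 1691660, 1699879, 1679399, 1683487, 1691679, 1609729, 1593355,
  1028109, 1024016, 1032201, 1179671, 1028122, 1036297, 1146902, 913436,
  966665, 913425, 1118230, 905242, 872502, 872451, 1318923, 741395,
  872468, 737319, 741407, 704574, 950273, 733194, 585741, 1048591,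
  835600, 962660, 1064981, 720935, 725031, 946215, 962599, 1114165,
  1130512, 1134620, 1179657, 1142800, 1032215, 1134619, 1138692, 1142796,
  1146905, 1335341, 1151008, 1515533, 1347602, 1163291, 1347666, 1519698,
  897117, 905304, 1343565, 1335296, 1294347, 1630221, 1273871, 1511441,
  892939, 1429517, 1490959, 1478708, 1175600, 1175654, 827395, 1196051,
  1187861, 819239, 811039, 970801, 1261674, 1630315, 1470569, 1237083,
  1630264, 1597503, 1605653, 1613863, 1654830, 1675303, 1597479, 1605663,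
  1617951, 1671199, 1671221, 1679376, 1609750, 1675290, 1683472, 1601558,
  1200144, 1597466, 1196048, 1650710, 1265714, 1277963, 1265676, 1286159,
  1613840, 1278058, 1286225, 1634323, 1212442, 1634402, 1634387, 1556528,
  1593352, 864278, 1560602, 1589256, 1101846, 1183752, 1093649, 1081370,
  1167368, 1171478, 1163281, 1515546, 831496, 1302545, 1519638, 925751,
  1642497, 1318924, 839733, 594002, 1069057, 626698, 860173, 1064961,
  622687, 970844, 1069141, 1060887, 1060903, 1056807, 1204277, 1159271,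
  675848, 1433652, 1470469, 1179648, 1191952, 1306624, 733191, 729093,
  1642506, 1331306, 1179752, 745511, 1642508, 1638500, 1638439, 1638453,
  1617942]

/-- known edges at a check point -/
def mask0 : ℕ := 0x1041041860821860820820822082080820820821048208208611041841841841840418269228209a4820820820822822820820820822820820961961861861861104104184184145145a2896082082582092cb249240419e70430430c31831a00c4104104106166105106184d75508408414d50410410610610510514d55410410510414410c34c24c208208208208205750618618e30820827182bd6082d60e28a28a28a8a0628832bdebae38e3dc2482ca2ca2f5a6986bd6986982d70d67bd59caeb8e308208208218630e30e38e38e49a39a38e68e59449051451441041038e18e38e18e186db45b49249248a08208a082082082020c302282f0a73c21c965861a6186153c208618b6d30caebaeb8e330e20c08208208238c30c30e30e59451459469a41069e69c7345c10cd38c1771da70738c1c78a0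

/-- known edges at a check point -/
def mask1 : ℕ := 0x59659679e79e79e69a69a492a69a6b79e79a79a75df7dffff7d7dfffdffdffffff75df7ff7ff7dffdebfebffbdffff7ff7af7ffbdffff7af7ffffffdffdffdf7dd75d75df5df5d75d75f7ddf5df5d77d77ffffffdf75dffff5df7db7db7d37f06df7f4f3cdd75f75dffff7dffff7fff7ffdffdaebaebaf7dffffba75dfdffffffffffffffffebeeafefefadfbfe7dfff77d77df7dfff29e29e7fdffffff7df7fefbefbefbffffffffffffffffffffde69eebeebefffffdfffffffff7df7ffffffffffffffefbffffffffff7ff7ffffffffffffffffffffffffffffffffffffffffffffffffffffffffffffffffffffffffffffffffffffffffffffffffffffffffffffffffffffffffffffffffffffffffffffffffffffffffffffffffffffffffffffffffffffffffffffffffffffffffffffffffffffff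

theorem treeRun_ok : stIs (runList (treeStep P) tree ⟨1, 0, []⟩) 416 mask0 = true := by decide +kernel

def seg0 : List Phase := [.scans ph0_0, .scans ph0_1, .aux ph1, .scans ph2_0, .aux ph3]

theorem seg0_ok : stIs (runList (phaseStep P) seg0 ⟨416, mask0, []⟩) 663 mask1 = true := by decide +kernel

def seg1 : List Phase := [.scans ph4_0]

theorem seg1_ok : stIs (runList (phaseStep P) seg1 ⟨663, mask1, []⟩) 663 (2 ^ (416 * P.k) - 1) = true := by decide +kernel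

/-- the certificate -/
def phases : List Phase :=
  seg0 ++ (seg1)

theorem cert_ok : checkCert P 416 tree phases = true :=
  checkCert_of_run P treeRun_ok (run_append P seg0_ok (run_last P seg1_ok))

theorem gen0_ok : genOK P 416 0 = true := by decide +kernel

theorem gen1_ok : genOK P 416 1 = true := by decide +kernel

theorem gen2_ok : genOK P 416 2 = true := by decide +kernel

theorem gen3_ok : genOK P 416 3 = true := by decide +kernel

theorem gen4_ok : genOK P 416 4 = true := by decide +kernel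

theorem gen5_ok : genOK P 416 5 = true := by decide +kernel

theorem tab_ok : tableOK P 416 = true := tableOK_of_gens P (by decide +kernel) (by decide +kernel) fun x hx =>
  match x, hx with
  | 0, _ => gen0_ok
  | 1, _ => gen1_ok
  | 2, _ => gen2_ok
  | 3, _ => gen3_ok
  | 4, _ => gen4_ok
  | 5, _ => gen5_ok
  | _ + 6, hx => absurd (show _ + 6 < 6 from hx) (by omega)

theorem rots_ok : rotsOK base rots.entries hints = true := by decide +kernel

theorem fix_ok : wordsFixBase P sw = true := by decide +kernel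

theorem tree_ok : treeOK P tree 0 = true := by decide +kernel

theorem tree_len : tree.length + 1 = 416 := by decide +kernel

end Cfsg.Agent.RigidGraph.Suz.Coset.Abcdef
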