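import Cfsg.Agent.Lib.Compute.CosetOrbit

/-! Coset enumeration certificate data (ACD). -/

set_option autoImplicit false
set_option maxRecDepth 100000
set_option Elab.async false

namespace Cfsg.Agent.RigidGraph.Suz.Coset.Acd

open Cfsg.Agent.CosetCert

/-- the coset table -/
def tab : Tab :=
  .leaf 0xa000e000d0009000f000c000b000c000f0008000d000e000d0007000a000f0006000b000e00050008000c000400090003000b00060002000a0007000100090004000000080005000700010002000600000003000500030000000400020001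

/-- base relators -/
def base : List (List ℕ) := [
  [0, 1, 0, 1],
  [0, 2, 0, 2],
  [1, 2, 1, 2, 1, 2, 1, 2, 1, 2, 1, 2, 1, 2, 1, 2],
  [0, 2, 1, 2, 1, 2, 1, 2, 1]]

/-- rotations of the relators -/
def rots : WTab :=
  (.node (.node (.node (.node (.node (.leaf [0, 1, 0, 1]) (.leaf [2, 1, 2, 1, 2, 1, 2, 0, 1])) (.node (.leaf [1, 2, 1, 2, 1, 2, 1, 0, 2]) (.leaf [0, 1, 0, 1]))) (.node (.node (.leaf [1, 2, 1, 2, 1, 2, 1, 2, 1, 2, 1, 2, 1, 2, 1, 2]) (.leaf [2, 1, 2, 0, 1, 2, 1, 2, 1])) (.node (.leaf [1, 2, 1, 0, 2, 1, 2, 1, 2]) (.leaf [0, 1, 0, 1])))) (.node (.node (.node (.leaf [0, 2, 0, 2]) (.leaf [2, 1, 2, 1, 2, 0, 1, 2, 1])) (.node (.leaf [1, 2, 1, 2, 1, 0, 2, 1, 2]) (.leaf [0, 1, 0, 1]))) (.node (.node (.leaf [0, 2, 1, 2, 1, 2, 1, 2, 1]) (.leaf [2, 0, 1, 2, 1, 2, 1, 2, 1])) (.node (.leaf [1, 0, 2, 1, 2, 1, 2, 1, 2]) (.leaf [0, 1, 0, 1]))))) (.node (.node (.node (.node (.leaf [1, 0, 1, 0]) (.leaf [1, 2, 1, 2, 1, 2, 0, 1, 2])) (.node (.leaf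 [2, 1, 2, 1, 2, 1, 0, 2, 1]) (.leaf [0, 1, 0, 1]))) (.node (.node (.leaf [2, 1, 2, 1, 2, 1, 2, 1, 2, 1, 2, 1, 2, 1, 2, 1]) (.leaf [1, 2, 0, 1, 2, 1, 2, 1, 2])) (.node (.leaf [2, 1, 0, 2, 1, 2, 1, 2, 1]) (.leaf [0, 1, 0, 1])))) (.node (.node (.node (.leaf [2, 0, 2, 0]) (.leaf [1, 2, 1, 2, 0, 1, 2, 1, 2])) (.node (.leaf [2, 1, 2, 1, 0, 2, 1, 2, 1]) (.leaf [0, 1, 0, 1]))) (.node (.node (.leaf [2, 1, 2, 1, 2, 1, 2, 1, 0]) (.leaf [0, 1, 2, 1, 2, 1, 2, 1, 2])) (.node (.leaf [1, 2, 1, 2, 1, 2, 1, 2, 0]) (.leaf [0, 1, 0, 1]))))))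

def hints_0 : List (ℕ × ℕ × Bool) := [
  (0, 0, false), (3, 1, true), (3, 2, false), (0, 0, false), (2, 0, false), (3, 5, true), (3, 6, false), (0, 0, false),
  (1, 0, false), (3, 3, true), (3, 4, false), (0, 0, false), (3, 0, false), (3, 7, true), (3, 8, false), (0, 0, false),
  (0, 1, false), (3, 2, true), (3, 3, false), (0, 0, false), (2, 1, false), (3, 6, true), (3, 7, false), (0, 0, false),
  (1, 1, false), (3, 4, true), (3, 5, false), (0, 0, false), (3, 1, false), (3, 8, true), (3, 0, true), (0, 0, false)]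
def hints : List (ℕ × ℕ × Bool) :=
  hints_0

/-- subgroup words -/
def sw : List (List ℕ) := []

def subs : List (List ℕ) := []

/-- parameters -/
def P : Params := ⟨tab, 3, rots, subs⟩

def tree_0 : List ℕ := [
  0, 1, 4, 2, 5, 8, 11, 13,
  16, 19, 22, 26, 35, 29, 32]
def tree : List ℕ :=
  tree_0

def ph0_0 : List ℕ := [
  57364, 24591, 49159, 16391, 8199, 40967, 61443, 49161,
  32775]

/-- known edges at a check point -/
def mask0 : ℕ := 0x924db6db6dbf

theorem treeRun_ok : stIs (runList (treeStep P) tree ⟨1, 0, []⟩) 16 mask0 = true := by decide +kernel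

def seg0 : List Phase := [.scans ph0_0]

theorem seg0_ok : stIs (runList (phaseStep P) seg0 ⟨16, mask0, []⟩) 16 (2 ^ (16 * P.k) - 1) = true := by decide +kernel

/-- the certificate -/
def phases : List Phase :=
  seg0

theorem cert_ok : checkCert P 16 tree phases = true :=
  checkCert_of_run P treeRun_ok (run_last P seg0_ok)

theorem gen0_ok : genOK P 16 0 = true := by decide +kernel

theorem gen1_ok : genOK P 16 1 = true := by decide +kernel

theorem gen2_ok : genOK P 16 2 = true := by decide +kernel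

theorem tab_ok : tableOK P 16 = true := tableOK_of_gens P (by decide +kernel) (by decide +kernel) fun x hx =>
  match x, hx with
  | 0, _ => gen0_ok
  | 1, _ => gen1_ok
  | 2, _ => gen2_ok
  | _ + 3, hx => absurd (show _ + 3 < 3 from hx) (by omega)

theorem rots_ok : rotsOK base rots.entries hints = true := by decide +kernel

theorem fix_ok : wordsFixBase P sw = true := by decide +kernel

theorem tree_ok : treeOK P tree 0 = true := by decide +kernel

theorem tree_len : tree.length + 1 = 16 := by decide +kernel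

end Cfsg.Agent.RigidGraph.Suz.Coset.Acd
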